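import Cfsg.Agent.H294.PU.Gen_m3
import Cfsg.Agent.H745.TF.Q2_m3
import Cfsg.Agent.H659.PU.Over_m3
import Cfsg.Agent.H205.TE.P2_m3
import Cfsg.Agent.FastGrp
import Cfsg.Agent.Prune
set_option linter.all false

section
prune_inst 0x7ffcfefbaff8bddfdfff7fffffdfdffff9fdffffffdffbcbfffeefffffff6f0ef9e56bad9febd8ff5ef7e2be34f87bd3fbffffffef6bdc7ffffd5ff45ffbff8ffdf7bf8971df8cbe0fbc0fff63f07fce7f3fffffffffffffffffffffffffffbeffffffffffff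

-- part: H181/TF/Chain
section
prune_inst 0x10100500042202000000000200000060200000020043000011000000000710612901260140600a10011000200002804000000009401000002000820040050020840260c203001104270009c0f803180c00000000000000000000000000041000000000000
set_option linter.all false
open scoped Cfsg.Agent.FastGrp

/-!
# TI modulo inner automorphisms, from an invariant chain (helper181, for S5262)
-/

set_option autoImplicit false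

namespace Cfsg.Agent.H181.TF

open Cfsg Cfsg.FusionSystem Cfsg.Agent.H756.PU

universe u

section
variable {Q : Type u} [Group Q]

/-- the automorphisms which preserve every `M i` and act trivially on `M i / M (i+1)` -/
def ChS (M : ℕ → Subgroup Q) : Subgroup (MulAut Q) where
  carrier := {β | (∀ i x, x ∈ M i ↔ β x ∈ M i) ∧ ∀ i, ∀ x ∈ M i, x⁻¹ * β x ∈ M (i + 1)}
  one_mem' := ⟨fun _ _ => Iff.rfl, fun i x _ => by simp⟩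
  mul_mem' := by
    rintro α β ⟨ha, ha'⟩ ⟨hb, hb'⟩
    refine ⟨fun i x => (hb i x).trans (ha i _), fun i x hx => ?_⟩
    have key : x⁻¹ * (α * β) x = (x⁻¹ * β x) * ((β x)⁻¹ * α (β x)) := by
      rw [MulAut.mul_apply]; group
    rw [key]
    exact (M (i + 1)).mul_mem (hb' i x hx) (ha' i _ ((hb i x).1 hx))
  inv_mem' := by
    rintro α ⟨ha, ha'⟩
    have hi : ∀ x, α (α⁻¹ x) = x := fun x => MulAut.apply_inv_self _ α x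
    have j : ∀ i x, x ∈ M i ↔ α⁻¹ x ∈ M i := fun i x => by rw [ha i (α⁻¹ x), hi]
    refine ⟨j, fun i x hx => ?_⟩
    have key : x⁻¹ * α⁻¹ x = ((α⁻¹ x)⁻¹ * α (α⁻¹ x))⁻¹ := by
      rw [hi]; group
    rw [key]
    exact (M (i + 1)).inv_mem (ha' i _ ((j i x).1 hx))

theorem mem_ChS {M : ℕ → Subgroup Q} {β : MulAut Q} :
    β ∈ ChS M ↔ (∀ i x, x ∈ M i ↔ β x ∈ M i) ∧ ∀ i, ∀ x ∈ M i, x⁻¹ * β x ∈ M (i + 1) := Iff.rfl

theorem isPGroup_ChS {M : ℕ → Subgroup Q} {k : ℕ} (h0 : M 0 = ⊤) (hk : M k = ⊥) {p e : ℕ}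
    (hexp : ∀ x : Q, x ^ p ^ e = 1) : IsPGroup p (ChS M) := by
  rintro ⟨β, hβ⟩
  set N := p ^ e with hN
  have key : ∀ j ≤ k, ∀ x ∈ M (k - j), (β ^ N ^ j) x = x := by
    intro j
    induction j with
    | zero =>
      intro _ x hx
      rw [Nat.sub_zero, hk, Subgroup.mem_bot] at hx
      rw [hx, map_one]
    | succ j ih =>
      intro hj x hx
      have ih' := ih (by omega)
      set δ := β ^ N ^ j with hδ
      have hδm : δ ∈ ChS M := (ChS M).pow_mem hβ _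
      have h1 : x⁻¹ * δ x ∈ M (k - j) := by
        have := hδm.2 _ x hx
        rwa [show k - (j + 1) + 1 = k - j by omega] at this
      set n := x⁻¹ * δ x with hn
      have h2 : δ x = x * n := by rw [hn]; group
      have h3 : ∀ i, (δ ^ i) x = x * n ^ i := by
        intro i
        induction i with
        | zero => simp
        | succ i ihi => rw [pow_succ', MulAut.mul_apply, ihi, map_mul, map_pow, ih' n h1, h2, pow_succ', mul_assoc]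
      have h4 := h3 N
      rw [hexp, mul_one, hδ, ← pow_mul, ← pow_succ] at h4
      exact h4
  refine ⟨e * k, ?_⟩
  ext1
  rw [Subgroup.coe_pow, Subgroup.coe_one]
  change β ^ p ^ (e * k) = 1
  rw [pow_mul, ← hN]
  ext x
  rw [MulAut.one_apply]
  exact key k le_rfl x (by rw [Nat.sub_self, h0]; trivial)

end

/-- the TI argument with a chain of any length -/
theorem ti_chain {G : Type u} [Group G] [Finite G] {p e : ℕ} (hexp : ∀ x : G, x ^ p ^ e = 1)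
    {Q : Subgroup G} (M : ℕ → Subgroup G) {k : ℕ} (h0 : M 0 = Q) (hk : M k = ⊥)
    (hle : ∀ i, M (i + 1) ≤ M i)
    (hT : ∀ i, ∀ g : G, ∀ x ∈ M i, x⁻¹ * (g * x * g⁻¹) ∈ M (i + 1))
    {Γ : Subgroup (MulAut Q)} (hΓ : autInducedBy ⊤ Q ≤ Γ)
    (hsyl : ∀ P : Subgroup (MulAut Q), P ≤ Γ → IsPGroup p P →
      ∃ g ∈ Γ, ∀ x ∈ P, g * x * g⁻¹ ∈ autInducedBy ⊤ Q)
    {γ : MulAut Q} (hγ : γ ∈ Γ)
    (gM : ∀ i, ∀ x : Q, (x : G) ∈ M i ↔ ((γ x : Q) : G) ∈ M i) : NormAut (⊤ : Subgroup G) γ := by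
  set R0 : Subgroup (MulAut Q) := ChS (fun i => (M i).subgroupOf Q) with hR0
  have hn : ∀ i, ∀ g : G, ∀ x ∈ M i, g * x * g⁻¹ ∈ M i := fun i g x hx => by
    have := (M i).mul_mem hx (hle i (hT i g x hx)); simpa [mul_assoc] using this
  have iffn : ∀ i, ∀ g x, x ∈ M i ↔ g * x * g⁻¹ ∈ M i := fun i g x => by
    refine ⟨hn i g x, fun h => ?_⟩
    have := hn i g⁻¹ _ h
    simpa [mul_assoc] using this
  have hTR : autInducedBy ⊤ Q ≤ R0 := by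
    intro α hα
    obtain ⟨g, -, hg⟩ := (Cfsg.Agent.H802.mem_autInducedBy_iff _ _ _).1 hα
    rw [hR0, mem_ChS]
    refine ⟨fun i x => ?_, fun i x hx => ?_⟩
    · rw [Subgroup.mem_subgroupOf, Subgroup.mem_subgroupOf, hg]; exact iffn i g _
    · rw [Subgroup.mem_subgroupOf] at hx ⊢
      rw [Subgroup.coe_mul, Subgroup.coe_inv, hg]; exact hT i g _ hx
  have hRp : IsPGroup p R0 := by
    refine isPGroup_ChS (k := k) (e := e) ?_ ?_ ?_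
    · rw [h0, Subgroup.subgroupOf_self]
    · rw [hk, Subgroup.bot_subgroupOf]
    · intro x
      ext
      rw [Subgroup.coe_pow, hexp]; rfl
  have hγT : ∀ x ∈ autInducedBy (⊤ : Subgroup G) Q, γ * x * γ⁻¹ ∈ R0 := by
    intro t ht
    obtain ⟨ht1, ht2⟩ := mem_ChS.1 (hTR ht)
    have hi : ∀ x, γ (γ⁻¹ x) = x := fun x => MulAut.apply_inv_self _ γ x
    have jj : ∀ i, ∀ x : Q, x ∈ (M i).subgroupOf Q ↔ γ⁻¹ x ∈ (M i).subgroupOf Q := fun i x => by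
      rw [Subgroup.mem_subgroupOf, Subgroup.mem_subgroupOf, gM i (γ⁻¹ x), hi]
    have key : ∀ x, x⁻¹ * (γ * t * γ⁻¹) x = γ ((γ⁻¹ x)⁻¹ * t (γ⁻¹ x)) := fun x => by
      rw [map_mul, map_inv, hi, MulAut.mul_apply, MulAut.mul_apply]
    rw [hR0, mem_ChS]
    refine ⟨fun i x => ?_, fun i x hx => ?_⟩
    · rw [MulAut.mul_apply, MulAut.mul_apply, jj i x, ht1 i (γ⁻¹ x), Subgroup.mem_subgroupOf,
        Subgroup.mem_subgroupOf, gM i]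
    · rw [key, Subgroup.mem_subgroupOf, ← gM]
      exact ht2 i _ ((jj i x).1 hx)
  have hle' : R0 ⊓ Γ ≤ R0 := inf_le_left
  have hRp' : IsPGroup p (R0 ⊓ Γ : Subgroup (MulAut Q)) := hRp.to_le hle'
  refine Cfsg.Agent.H294.PU.norm_of_pgroup hsyl (R := R0 ⊓ Γ) inf_le_right hRp' (le_inf hTR hΓ) ?_
  intro x hx
  exact ⟨hγT x hx, Γ.mul_mem (Γ.mul_mem hγ (hΓ hx)) (Γ.inv_mem hγ)⟩

/-! ### transport along `γ` -/

/-- transport of the condition `[g, e] ∈ N` -/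
theorem transport {G : Type u} [Group G] {Q : Subgroup G} {N : Subgroup G} {γ t : MulAut Q} {g h : G}
    (hg : ∀ x : Q, ((t x : Q) : G) = g * (x : G) * g⁻¹)
    (hh : ∀ x : Q, (((γ * t * γ⁻¹) x : Q) : G) = h * (x : G) * h⁻¹)
    (hN : ∀ x : Q, (x : G) ∈ N ↔ ((γ x : Q) : G) ∈ N) (e : Q) :
    g * (e : G) * g⁻¹ * (e : G)⁻¹ ∈ N ↔
      h * ((γ e : Q) : G) * h⁻¹ * ((γ e : Q) : G)⁻¹ ∈ N := by
  rw [← hg, ← hh]
  have h1 : (γ * t * γ⁻¹) (γ e) = γ (t e) := by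
    rw [MulAut.mul_apply, MulAut.mul_apply, MulAut.inv_apply_self]
  rw [h1]
  have h2 := hN (t e * e⁻¹)
  rw [map_mul, map_inv] at h2
  exact h2

/-- `γ` preserves `M ∩ Q` -/
def Pres {G : Type u} [Group G] {Q : Subgroup G} (γ : MulAut Q) (M : Subgroup G) : Prop :=
  ∀ x : Q, (x : G) ∈ M ↔ ((γ x : Q) : G) ∈ M

/-- a subgroup given by `[b, x] ∈ N` for all `b ∈ B`, inside `A`, is preserved if `A`, `B`, `N` are -/
theorem pres_com {G : Type u} [Group G] {Q : Subgroup G} {γ : MulAut Q} {A B N M : Subgroup G} (hBQ : B ≤ Q)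
    (hA : Pres γ A) (hB : Pres γ B) (hN : Pres γ N)
    (h : ∀ x ∈ Q, x ∈ M ↔ x ∈ A ∧ ∀ b ∈ B, b * x * b⁻¹ * x⁻¹ ∈ N) : Pres γ M := by
  intro x
  rw [h x x.2, h _ (γ x).2]
  refine and_congr (hA x) ⟨fun hx y hy => ?_, fun hx y hy => ?_⟩
  · set y' : Q := γ⁻¹ ⟨y, hBQ hy⟩ with hy'
    have h1 : γ y' = ⟨y, hBQ hy⟩ := MulAut.apply_inv_self _ γ _
    have h2 : (y' : G) ∈ B := by rw [hB y', h1]; exact hy
    have h3 := (hN (y' * x * y'⁻¹ * x⁻¹)).1 (hx _ h2)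
    rw [map_mul, map_mul, map_mul, map_inv, map_inv, h1] at h3
    exact h3
  · have h2 := hx _ ((hB ⟨y, hBQ hy⟩).1 hy)
    have h3 := (hN (⟨y, hBQ hy⟩ * x * ⟨y, hBQ hy⟩⁻¹ * x⁻¹)).2 (by
      rw [map_mul, map_mul, map_mul, map_inv, map_inv]; exact h2)
    exact h3

/-- an induced automorphism which is not inner is induced by elements outside `Q` -/
theorem not_mem_of_not_inn {G : Type u} [Group G] {Q : Subgroup G} {t : MulAut Q} {g : G}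
    (hg : ∀ x : Q, ((t x : Q) : G) = g * (x : G) * g⁻¹) (ht : t ∉ Inn Q) : g ∉ Q := by
  intro hgQ
  apply ht
  refine ⟨⟨g, hgQ⟩, ?_⟩
  ext1 x
  apply Subtype.ext
  rw [hg]; rfl

/-- a conjugate of a non-inner automorphism is not inner -/
theorem conj_not_inn {G : Type u} [Group G] {Q : Subgroup G} {γ t : MulAut Q} (ht : t ∉ Inn Q) :
    γ * t * γ⁻¹ ∉ Inn Q := fun hc => by
  apply ht
  obtain ⟨y, hy⟩ := hc
  refine ⟨γ⁻¹ y, ?_⟩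
  have h1 : t = γ⁻¹ * (γ * t * γ⁻¹) * γ := by group
  rw [h1, ← hy]
  ext1 z
  rw [MulAut.mul_apply, MulAut.mul_apply, MulAut.conj_apply, MulAut.conj_apply, map_mul, map_mul,
    map_inv, MulAut.inv_apply_self]

end Cfsg.Agent.H181.TF
end

-- part: H181/TF/Cong
section
prune_inst 0x30104500742202000800000000000060200000020043400011000000090f1061a945060142700a1001d00cb06800404000000009422800002a008a00400500208403000200340d0416000980f802000000000000000000000000000000041000000000000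
set_option linter.all false
open scoped Cfsg.Agent.FastGrp

/-!
# S5262: subgroups given by coordinates (helper181)

`Cong σ pr` : the value of `pr` on a product only depends on the values of `pr` on the factors; then
`CS hK T h = {g | pr (cd T g) = pr zc}` is a normal subgroup and `[x, y] ∈ CS` iff `pr (xy) = pr (yx)`.
-/

set_option autoImplicit false

namespace Cfsg.Agent.H181.TF

open Cfsg.Agent.H745.TF

universe u v w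

variable {K : Type u} [Field K] {σ : K →+* K} {U : Type v} [Group U] {m : ℕ}

/-- zero coordinates -/
def zc : Cd K := ⟨0, 0, 0, 0, 0, 0, 0, 0, 0, 0, 0, 0⟩

/-- the coordinates of an element -/
noncomputable def cd (T : TF σ U) (g : U) : Cd K := (el_surjective T g).choose

theorem el_cd (T : TF σ U) (g : U) : T.el (cd T g) = g := (el_surjective T g).choose_spec

theorem cd_el (T : TF σ U) (c : Cd K) : cd T (T.el c) = c := el_injective T (el_cd T _)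

theorem cd_inj (T : TF σ U) {g h : U} : cd T g = cd T h ↔ g = h :=
  ⟨fun e => by rw [← el_cd T g, e, el_cd], fun e => by rw [e]⟩

theorem cd_mul (hK : HypK σ m) (T : TF σ U) (g h : U) : cd T (g * h) = mul σ (cd T g) (cd T h) := by
  apply el_injective T
  rw [el_cd, ← el_mul T hK.two hK.sq, el_cd, el_cd]

theorem cd_one (hK : HypK σ m) (T : TF σ U) : cd T 1 = zc := by
  rw [← el_one T hK.two hK.sq, cd_el]; rfl

theorem mul_zc (c : Cd K) : mul σ c zc = c := by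
  ext <;> dsimp only [mul] <;> simp only [zc, map_zero, mul_zero, zero_mul, add_zero, zero_add, zero_pow two_ne_zero, zero_pow three_ne_zero]

theorem zc_mul (c : Cd K) : mul σ zc c = c := by
  ext <;> dsimp only [mul] <;> simp only [zc, map_zero, mul_zero, zero_mul, add_zero, zero_add, zero_pow two_ne_zero, zero_pow three_ne_zero]

/-- `pr` is compatible with the product -/
def Cong (σ : K →+* K) {α : Type w} (pr : Cd K → α) : Prop :=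
  ∀ c c' d d' : Cd K, pr c = pr c' → pr d = pr d' → pr (mul σ c d) = pr (mul σ c' d')

section
variable {α : Type w} {pr : Cd K → α}

/-- the subgroup of the elements with `pr = pr 0` -/
def CS (hK : HypK σ m) (T : TF σ U) (h : Cong σ pr) : Subgroup U where
  carrier := {g | pr (cd T g) = pr zc}
  one_mem' := by rw [Set.mem_ofPred_eq, cd_one hK]
  mul_mem' := by
    intro a b ha hb
    rw [Set.mem_ofPred_eq] at ha hb ⊢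
    rw [cd_mul hK, h _ _ _ _ ha hb, mul_zc]
  inv_mem' := by
    intro a ha
    rw [Set.mem_ofPred_eq] at ha ⊢
    have h1 := h (cd T a⁻¹) (cd T a⁻¹) (cd T a) zc rfl ha
    rw [← cd_mul hK, mul_zc, inv_mul_cancel, cd_one hK] at h1
    exact h1.symm

theorem mem_CS {hK : HypK σ m} {T : TF σ U} {h : Cong σ pr} {g : U} : g ∈ CS hK T h ↔ pr (cd T g) = pr zc := Iff.rfl

theorem el_mem_CS {hK : HypK σ m} {T : TF σ U} {h : Cong σ pr} {c : Cd K} : T.el c ∈ CS hK T h ↔ pr c = pr zc := by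
  rw [mem_CS, cd_el]

theorem crit {hK : HypK σ m} {T : TF σ U} {h : Cong σ pr} {g g' : U} :
    g * g'⁻¹ ∈ CS hK T h ↔ pr (cd T g) = pr (cd T g') := by
  rw [mem_CS]
  constructor
  · intro e
    have h1 := h _ _ (cd T g') (cd T g') e rfl
    rwa [← cd_mul hK, zc_mul, inv_mul_cancel_right] at h1
  · intro e
    have h1 := h _ _ (cd T g'⁻¹) (cd T g'⁻¹) e rfl
    rwa [← cd_mul hK, ← cd_mul hK, mul_inv_cancel, cd_one hK] at h1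

theorem crit' {hK : HypK σ m} {T : TF σ U} {h : Cong σ pr} {g g' : U} :
    g⁻¹ * g' ∈ CS hK T h ↔ pr (cd T g) = pr (cd T g') := by
  rw [mem_CS]
  constructor
  · intro e
    have h1 := h (cd T g) (cd T g) _ _ rfl e
    rw [← cd_mul hK, mul_zc, mul_inv_cancel_left] at h1
    exact h1.symm
  · intro e
    have h1 := h (cd T g⁻¹) (cd T g⁻¹) _ _ rfl e
    rw [← cd_mul hK, ← cd_mul hK, inv_mul_cancel, cd_one hK] at h1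
    exact h1.symm

theorem comm_crit {hK : HypK σ m} {T : TF σ U} {h : Cong σ pr} {x y : U} :
    x * y * x⁻¹ * y⁻¹ ∈ CS hK T h ↔ pr (mul σ (cd T x) (cd T y)) = pr (mul σ (cd T y) (cd T x)) := by
  rw [← cd_mul hK, ← cd_mul hK, ← crit (hK := hK) (h := h), mul_inv_rev, mul_assoc (x * y)]

theorem comm_crit' {hK : HypK σ m} {T : TF σ U} {h : Cong σ pr} {x y : U} :
    y⁻¹ * (x * y * x⁻¹) ∈ CS hK T h ↔ pr (mul σ (cd T x) (cd T y)) = pr (mul σ (cd T y) (cd T x)) := by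
  rw [crit']
  rw [← cd_mul hK, ← cd_mul hK]
  constructor
  · intro e
    have h1 := h _ _ (cd T x) (cd T x) e rfl
    rw [← cd_mul hK, ← cd_mul hK, inv_mul_cancel_right] at h1
    exact h1.symm
  · intro e
    have h1 := h _ _ (cd T x⁻¹) (cd T x⁻¹) e rfl
    rw [← cd_mul hK, ← cd_mul hK, mul_inv_cancel_right] at h1
    exact h1.symm

theorem CS_le_CS {β : Type w} {pr' : Cd K → β} {hK : HypK σ m} {T : TF σ U} {h : Cong σ pr} {h' : Cong σ pr'}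
    (hh : ∀ c : Cd K, pr c = pr zc → pr' c = pr' zc) : CS hK T h ≤ CS hK T h' := fun _ hg => hh _ hg

end

theorem cong_id : Cong σ (fun c : Cd K => c) := fun _ _ _ _ h1 h2 => by
  simp only at h1 h2 ⊢; rw [h1, h2]

theorem CS_id (hK : HypK σ m) (T : TF σ U) : CS hK T cong_id = ⊥ := by
  ext g
  rw [mem_CS, Subgroup.mem_bot, ← cd_one hK T, cd_inj]

/-! ### the projections (coordinates outside the subgroup) -/

section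
variable (K)

def pZ (c : Cd K) := (c.a1, c.a2, c.b2, c.a3, c.a4, c.a5, c.a6, c.b6, c.a7, c.a8, c.b8)
def pV (c : Cd K) := (c.a1, c.a2, c.b2, c.a3, c.a4, c.a5, c.a6, c.a7, c.a8, c.b8)
def pY (c : Cd K) := (c.a1, c.a2, c.b2, c.a3, c.a4, c.a6, c.a7, c.a8, c.b8)
def pE4 (c : Cd K) := (c.a1, c.a2, c.b2, c.a4, c.a6, c.a7, c.a8, c.b8)
def pA (c : Cd K) := (c.a1, c.a2, c.b2, c.a4, c.a6, c.a8, c.b8)
def pF0 (c : Cd K) := (c.a1, c.a2, c.a4, c.a6, c.a8, c.b8)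
def pF1 (c : Cd K) := (c.a1, c.a2, c.a4, c.a8, c.b8)
def pF (c : Cd K) := (c.a1, c.a2, c.a8, c.b8)
def pN (c : Cd K) := (c.a1, c.a2, c.a8)
def pW (c : Cd K) := (c.a1, c.a8)
def pB (c : Cd K) := c.a1
def pE (c : Cd K) := (c.a1, c.a2, c.a4, c.a6, c.a7, c.a8, c.b8)
def pD (c : Cd K) := (c.a1, c.a2, c.a6, c.a7, c.a8, c.b8)
def p7 (c : Cd K) := (c.a1, c.a2, c.a6, c.a8, c.b8)
def p2 (c : Cd K) := (c.a1, c.a8, c.b8)
def pQ (c : Cd K) := (c.a8, c.b8)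
end

variable (σ)

theorem cZ : Cong σ (pZ K) := by
  intro c c' d d' h1 h2
  simp only [pZ, Prod.mk.injEq] at h1 h2
  obtain ⟨c1, c2, c3, c4, c5, c6, c7, c8, c9, c10, c11⟩ := h1
  obtain ⟨d1, d2, d3, d4, d5, d6, d7, d8, d9, d10, d11⟩ := h2
  simp only [pZ, mul, c1, c2, c3, c4, c5, c6, c7, c8, c9, c10, c11, d1, d2, d3, d4, d5, d6, d7, d8, d9, d10, d11]

theorem cV : Cong σ (pV K) := by
  intro c c' d d' h1 h2
  simp only [pV, Prod.mk.injEq] at h1 h2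
  obtain ⟨c1, c2, c3, c4, c5, c6, c7, c8, c9, c10⟩ := h1
  obtain ⟨d1, d2, d3, d4, d5, d6, d7, d8, d9, d10⟩ := h2
  simp only [pV, mul, c1, c2, c3, c4, c5, c6, c7, c8, c9, c10, d1, d2, d3, d4, d5, d6, d7, d8, d9, d10]

theorem cY : Cong σ (pY K) := by
  intro c c' d d' h1 h2
  simp only [pY, Prod.mk.injEq] at h1 h2
  obtain ⟨c1, c2, c3, c4, c5, c6, c7, c8, c9⟩ := h1
  obtain ⟨d1, d2, d3, d4, d5, d6, d7, d8, d9⟩ := h2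
  simp only [pY, mul, c1, c2, c3, c4, c5, c6, c7, c8, c9, d1, d2, d3, d4, d5, d6, d7, d8, d9]

theorem cE4 : Cong σ (pE4 K) := by
  intro c c' d d' h1 h2
  simp only [pE4, Prod.mk.injEq] at h1 h2
  obtain ⟨c1, c2, c3, c4, c5, c6, c7, c8⟩ := h1
  obtain ⟨d1, d2, d3, d4, d5, d6, d7, d8⟩ := h2
  simp only [pE4, mul, c1, c2, c3, c4, c5, c6, c7, c8, d1, d2, d3, d4, d5, d6, d7, d8]

theorem cA : Cong σ (pA K) := by
  intro c c' d d' h1 h2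
  simp only [pA, Prod.mk.injEq] at h1 h2
  obtain ⟨c1, c2, c3, c4, c5, c6, c7⟩ := h1
  obtain ⟨d1, d2, d3, d4, d5, d6, d7⟩ := h2
  simp only [pA, mul, c1, c2, c3, c4, c5, c6, c7, d1, d2, d3, d4, d5, d6, d7]

theorem cF0 : Cong σ (pF0 K) := by
  intro c c' d d' h1 h2
  simp only [pF0, Prod.mk.injEq] at h1 h2
  obtain ⟨c1, c2, c3, c4, c5, c6⟩ := h1
  obtain ⟨d1, d2, d3, d4, d5, d6⟩ := h2
  simp only [pF0, mul, c1, c2, c3, c4, c5, c6, d1, d2, d3, d4, d5, d6]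

theorem cF1 : Cong σ (pF1 K) := by
  intro c c' d d' h1 h2
  simp only [pF1, Prod.mk.injEq] at h1 h2
  obtain ⟨c1, c2, c3, c4, c5⟩ := h1
  obtain ⟨d1, d2, d3, d4, d5⟩ := h2
  simp only [pF1, mul, c1, c2, c3, c4, c5, d1, d2, d3, d4, d5]

theorem cF : Cong σ (pF K) := by
  intro c c' d d' h1 h2
  simp only [pF, Prod.mk.injEq] at h1 h2
  obtain ⟨c1, c2, c3, c4⟩ := h1
  obtain ⟨d1, d2, d3, d4⟩ := h2
  simp only [pF, mul, c1, c2, c3, c4, d1, d2, d3, d4]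

theorem cN : Cong σ (pN K) := by
  intro c c' d d' h1 h2
  simp only [pN, Prod.mk.injEq] at h1 h2
  obtain ⟨c1, c2, c3⟩ := h1
  obtain ⟨d1, d2, d3⟩ := h2
  simp only [pN, mul, c1, c2, c3, d1, d2, d3]

theorem cW : Cong σ (pW K) := by
  intro c c' d d' h1 h2
  simp only [pW, Prod.mk.injEq] at h1 h2
  obtain ⟨c1, c2⟩ := h1
  obtain ⟨d1, d2⟩ := h2
  simp only [pW, mul, c1, c2, d1, d2]

theorem cB : Cong σ (pB K) := by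
  intro c c' d d' h1 h2
  simp only [pB] at h1 h2
  simp only [pB, mul, h1, h2]

theorem cE : Cong σ (pE K) := by
  intro c c' d d' h1 h2
  simp only [pE, Prod.mk.injEq] at h1 h2
  obtain ⟨c1, c2, c3, c4, c5, c6, c7⟩ := h1
  obtain ⟨d1, d2, d3, d4, d5, d6, d7⟩ := h2
  simp only [pE, mul, c1, c2, c3, c4, c5, c6, c7, d1, d2, d3, d4, d5, d6, d7]

theorem cD : Cong σ (pD K) := by
  intro c c' d d' h1 h2
  simp only [pD, Prod.mk.injEq] at h1 h2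
  obtain ⟨c1, c2, c3, c4, c5, c6⟩ := h1
  obtain ⟨d1, d2, d3, d4, d5, d6⟩ := h2
  simp only [pD, mul, c1, c2, c3, c4, c5, c6, d1, d2, d3, d4, d5, d6]

theorem c7 : Cong σ (p7 K) := by
  intro c c' d d' h1 h2
  simp only [p7, Prod.mk.injEq] at h1 h2
  obtain ⟨c1, c2, c3, c4, c5⟩ := h1
  obtain ⟨d1, d2, d3, d4, d5⟩ := h2
  simp only [p7, mul, c1, c2, c3, c4, c5, d1, d2, d3, d4, d5]

theorem c2 : Cong σ (p2 K) := by
  intro c c' d d' h1 h2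
  simp only [p2, Prod.mk.injEq] at h1 h2
  obtain ⟨c1, c2, c3⟩ := h1
  obtain ⟨d1, d2, d3⟩ := h2
  simp only [p2, mul, c1, c2, c3, d1, d2, d3]

theorem cQ : Cong σ (pQ K) := by
  intro c c' d d' h1 h2
  simp only [pQ, Prod.mk.injEq] at h1 h2
  obtain ⟨c1, c2⟩ := h1
  obtain ⟨d1, d2⟩ := h2
  simp only [pQ, mul, c1, c2, d1, d2]

end Cfsg.Agent.H181.TF

private theorem dce_ef7b71df323e : _root_.True := by
  try have : _root_.True := by simp only [_root_.Cfsg.Agent.H181.TF.pE.eq_1]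
  try have : _root_.True := by simp only [_root_.Cfsg.Agent.H181.TF.p2.eq_1]
  try have : _root_.True := by simp only [_root_.Cfsg.Agent.H181.TF.pB.eq_1]
  try have : _root_.True := by simp only [_root_.Cfsg.Agent.H181.TF.pF0.eq_1]
  try have : _root_.True := by simp only [_root_.Cfsg.Agent.H181.TF.pZ.eq_1]
  try have : _root_.True := by simp only [_root_.Cfsg.Agent.H181.TF.pV.eq_1]
  try have : _root_.True := by simp only [_root_.Cfsg.Agent.H181.TF.pN.eq_1]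
  try have : _root_.True := by simp only [_root_.Cfsg.Agent.H181.TF.p7.eq_1]
  try have : _root_.True := by simp only [_root_.Cfsg.Agent.H181.TF.mul.eq_1]
  try have : _root_.True := by simp only [_root_.Cfsg.Agent.H181.TF.pF.eq_1]
  try have : _root_.True := by simp only [_root_.Cfsg.Agent.H181.TF.zc.eq_1]
  try have : _root_.True := by simp only [_root_.Cfsg.Agent.H181.TF.pY.eq_1]
  try have : _root_.True := by simp only [_root_.Cfsg.Agent.H181.TF.pF1.eq_1]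
  try have : _root_.True := by simp only [_root_.Cfsg.Agent.H181.TF.pQ.eq_1]
  try have : _root_.True := by simp only [_root_.Cfsg.Agent.H181.TF.pW.eq_1]
  try have : _root_.True := by simp only [_root_.Cfsg.Agent.H181.TF.pA.eq_1]
  try have : _root_.True := by simp only [_root_.Cfsg.Agent.H181.TF.pD.eq_1]
  try have : _root_.True := by simp only [_root_.Cfsg.Agent.H181.TF.pE4.eq_1]
  exact _root_.True.intro
end

-- part: H181/TF/Facts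
section
prune_inst 0x3010450074220200080000000200006020000002004040000000000009090040a94500010230001080d41c907800004000000100422800000a003800000700208007000204100f001e0009000000000000000000000000000000000000000000000000000
set_option linter.all false

/-!
# S5262: subgroups described by commutators, in coordinates (helper181, generated)

`name : p_M c = p_M 0 ↔ p_A c = p_A 0 ∧ ∀ d, p_B d = p_B 0 → p_N (d c) = p_N (c d)`, i.e. `M = {x ∈ A | [B, x] ≤ N}`.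
-/

set_option autoImplicit false
set_option linter.all false
set_option maxHeartbeats 1000000

namespace Cfsg.Agent.H181.TF

open Cfsg.Agent.H745.TF

universe u v w

variable {K : Type u} [Field K]

/-- no condition -/
def pU (K : Type u) [Field K] (_ : Cd K) : Unit := ()

theorem cU (σ : K →+* K) : Cong σ (pU K) := fun _ _ _ _ _ _ => rfl

theorem pZ_iff {c d : Cd K} : pZ K c = pZ K d ↔ c.a1 = d.a1 ∧ c.a2 = d.a2 ∧ c.b2 = d.b2 ∧ c.a3 = d.a3 ∧ c.a4 = d.a4 ∧ c.a5 = d.a5 ∧ c.a6 = d.a6 ∧ c.b6 = d.b6 ∧ c.a7 = d.a7 ∧ c.a8 = d.a8 ∧ c.b8 = d.b8 := by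
  simp only [pZ, Prod.mk.injEq]
theorem pV_iff {c d : Cd K} : pV K c = pV K d ↔ c.a1 = d.a1 ∧ c.a2 = d.a2 ∧ c.b2 = d.b2 ∧ c.a3 = d.a3 ∧ c.a4 = d.a4 ∧ c.a5 = d.a5 ∧ c.a6 = d.a6 ∧ c.a7 = d.a7 ∧ c.a8 = d.a8 ∧ c.b8 = d.b8 := by
  simp only [pV, Prod.mk.injEq]
theorem pY_iff {c d : Cd K} : pY K c = pY K d ↔ c.a1 = d.a1 ∧ c.a2 = d.a2 ∧ c.b2 = d.b2 ∧ c.a3 = d.a3 ∧ c.a4 = d.a4 ∧ c.a6 = d.a6 ∧ c.a7 = d.a7 ∧ c.a8 = d.a8 ∧ c.b8 = d.b8 := by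
  simp only [pY, Prod.mk.injEq]
theorem pE4_iff {c d : Cd K} : pE4 K c = pE4 K d ↔ c.a1 = d.a1 ∧ c.a2 = d.a2 ∧ c.b2 = d.b2 ∧ c.a4 = d.a4 ∧ c.a6 = d.a6 ∧ c.a7 = d.a7 ∧ c.a8 = d.a8 ∧ c.b8 = d.b8 := by
  simp only [pE4, Prod.mk.injEq]
theorem pA_iff {c d : Cd K} : pA K c = pA K d ↔ c.a1 = d.a1 ∧ c.a2 = d.a2 ∧ c.b2 = d.b2 ∧ c.a4 = d.a4 ∧ c.a6 = d.a6 ∧ c.a8 = d.a8 ∧ c.b8 = d.b8 := by
  simp only [pA, Prod.mk.injEq]
theorem pF0_iff {c d : Cd K} : pF0 K c = pF0 K d ↔ c.a1 = d.a1 ∧ c.a2 = d.a2 ∧ c.a4 = d.a4 ∧ c.a6 = d.a6 ∧ c.a8 = d.a8 ∧ c.b8 = d.b8 := by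
  simp only [pF0, Prod.mk.injEq]
theorem pF1_iff {c d : Cd K} : pF1 K c = pF1 K d ↔ c.a1 = d.a1 ∧ c.a2 = d.a2 ∧ c.a4 = d.a4 ∧ c.a8 = d.a8 ∧ c.b8 = d.b8 := by
  simp only [pF1, Prod.mk.injEq]
theorem pF_iff {c d : Cd K} : pF K c = pF K d ↔ c.a1 = d.a1 ∧ c.a2 = d.a2 ∧ c.a8 = d.a8 ∧ c.b8 = d.b8 := by
  simp only [pF, Prod.mk.injEq]
theorem pN_iff {c d : Cd K} : pN K c = pN K d ↔ c.a1 = d.a1 ∧ c.a2 = d.a2 ∧ c.a8 = d.a8 := by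
  simp only [pN, Prod.mk.injEq]
theorem pW_iff {c d : Cd K} : pW K c = pW K d ↔ c.a1 = d.a1 ∧ c.a8 = d.a8 := by
  simp only [pW, Prod.mk.injEq]
theorem pB_iff {c d : Cd K} : pB K c = pB K d ↔ c.a1 = d.a1 := by
  simp only [pB]
theorem pE_iff {c d : Cd K} : pE K c = pE K d ↔ c.a1 = d.a1 ∧ c.a2 = d.a2 ∧ c.a4 = d.a4 ∧ c.a6 = d.a6 ∧ c.a7 = d.a7 ∧ c.a8 = d.a8 ∧ c.b8 = d.b8 := by
  simp only [pE, Prod.mk.injEq]
theorem pD_iff {c d : Cd K} : pD K c = pD K d ↔ c.a1 = d.a1 ∧ c.a2 = d.a2 ∧ c.a6 = d.a6 ∧ c.a7 = d.a7 ∧ c.a8 = d.a8 ∧ c.b8 = d.b8 := by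
  simp only [pD, Prod.mk.injEq]
theorem p7_iff {c d : Cd K} : p7 K c = p7 K d ↔ c.a1 = d.a1 ∧ c.a2 = d.a2 ∧ c.a6 = d.a6 ∧ c.a8 = d.a8 ∧ c.b8 = d.b8 := by
  simp only [p7, Prod.mk.injEq]
theorem p2_iff {c d : Cd K} : p2 K c = p2 K d ↔ c.a1 = d.a1 ∧ c.a8 = d.a8 ∧ c.b8 = d.b8 := by
  simp only [p2, Prod.mk.injEq]
theorem pQ_iff {c d : Cd K} : pQ K c = pQ K d ↔ c.a8 = d.a8 ∧ c.b8 = d.b8 := by
  simp only [pQ, Prod.mk.injEq]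
theorem p1_iff {c d : Cd K} : c = d ↔ c.a1 = d.a1 ∧ c.a2 = d.a2 ∧ c.b2 = d.b2 ∧ c.a3 = d.a3 ∧ c.a4 = d.a4 ∧ c.b4 = d.b4 ∧
    c.a5 = d.a5 ∧ c.a6 = d.a6 ∧ c.b6 = d.b6 ∧ c.a7 = d.a7 ∧ c.a8 = d.a8 ∧ c.b8 = d.b8 := Cd.ext_iff

private theorem fm_a1 (σ : K →+* K) (c d : Cd K) : (mul σ c d).a1 = c.a1 + d.a1 := rfl
private theorem fm_a2 (σ : K →+* K) (c d : Cd K) : (mul σ c d).a2 = c.a2 + d.a2 + c.a8 * d.a1 := rfl
private theorem fm_b2 (σ : K →+* K) (c d : Cd K) : (mul σ c d).b2 = c.b2 + d.b2 + c.a2 * σ d.a2 + c.a4 * d.a1 + c.a6 * σ d.a1 + c.a2 * σ c.a8 * σ d.a1 + c.a8 * d.a1 * σ d.a2 + c.b8 *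
    d.a1 * σ d.a1 := rfl
private theorem fm_a3 (σ : K →+* K) (c d : Cd K) : (mul σ c d).a3 = c.a3 + d.a3 + c.a4 * d.a2 + σ c.a6 * d.a1 + c.a7 * σ d.a1 + c.a8 * d.b2 + c.a4 * c.a8 * d.a1 + c.a8 * d.a2 * σ d.a2
    + σ c.b8 * d.a1 * σ d.a1 + c.b8 * σ d.a1 * d.a2 + c.a8 * c.b8 * d.a1 * σ d.a1 + c.a8 ^ 2 * σ c.a8 * d.a1 * σ d.a1 := rfl
private theorem fm_a4 (σ : K →+* K) (c d : Cd K) : (mul σ c d).a4 = c.a4 + d.a4 + c.a8 * σ d.a2 + c.b8 * σ d.a1 := rfl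
private theorem fm_b4 (σ : K →+* K) (c d : Cd K) : (mul σ c d).b4 = c.b4 + d.b4 + c.a4 * σ d.a4 + c.a5 * d.a2 + c.a6 * d.a3 + c.a7 * d.b2 + c.a8 * σ d.a3 + c.b6 * d.a1 + c.b8 * σ d.b2
    + c.a5 * c.a8 * d.a1 + c.a6 * c.a7 * σ d.a1 + c.a6 * c.a8 * d.b2 + σ c.a7 * d.a1 * d.a2 + c.a7 * d.a2 * σ d.a2 + σ
    c.a8 * d.a2 * d.a3 + c.a8 * σ d.a2 * σ d.a4 + σ c.b8 * d.a1 * d.b2 + c.b8 * σ d.a1 * σ d.a4 + c.b8 * d.a1 * d.a3 +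
    c.b8 * d.a2 * d.b2 + c.a4 * σ c.a8 * d.a2 ^ 2 + c.a4 * σ c.b8 * d.a1 ^ 2 + c.a6 * c.a8 * d.a2 * σ d.a2 + c.a6 * σ
    c.b8 * d.a1 * σ d.a1 + c.a6 * c.b8 * σ d.a1 * d.a2 + σ c.a7 * c.a8 * d.a1 ^ 2 + c.a7 * σ c.a8 * σ d.a1 * d.a2 + c.a7
    * c.b8 * d.a1 * σ d.a1 + c.a8 * σ c.a8 * d.a1 * d.a3 + c.a8 * σ c.a8 * d.a2 * d.b2 + σ c.b8 * d.a1 * d.a2 * σ d.a2 +
    c.b8 * d.a2 ^ 2 * σ d.a2 + c.a6 * c.a8 * c.b8 * d.a1 * σ d.a1 + c.a7 * c.a8 * σ c.a8 * d.a1 * σ d.a1 + σ c.a8 * σ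
    c.b8 * d.a1 * σ d.a1 * d.a2 + σ c.a8 * c.b8 * σ d.a1 * d.a2 ^ 2 + c.a8 * σ c.a8 * d.a2 ^ 2 * σ d.a2 + c.b8 * σ c.b8
    * d.a1 ^ 2 * σ d.a1 + c.b8 ^ 2 * d.a1 * σ d.a1 * d.a2 + c.a6 * c.a8 ^ 2 * σ c.a8 * d.a1 * σ d.a1 + c.a8 * c.b8 ^ 2 *
    d.a1 ^ 2 * σ d.a1 + c.a8 * σ c.a8 * σ c.b8 * d.a1 ^ 2 * σ d.a1 + c.a8 ^ 2 * (σ c.a8) ^ 2 * d.a1 * σ d.a1 * d.a2 +
    c.a8 ^ 3 * (σ c.a8) ^ 2 * d.a1 ^ 2 * σ d.a1 := rfl
private theorem fm_a5 (σ : K →+* K) (c d : Cd K) : (mul σ c d).a5 = c.a5 + d.a5 + c.a6 * d.a4 + σ c.a7 * d.a1 + c.a7 * σ d.a2 + σ c.a8 * d.a3 + c.b8 * d.b2 + c.a6 * c.a8 * σ d.a2 +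
    c.a6 * c.b8 * σ d.a1 + c.a7 * σ c.a8 * σ d.a1 + σ c.a8 * d.a2 * d.a4 + c.a8 * σ c.a8 * d.b2 + σ c.b8 * d.a1 * σ d.a2
    + c.b8 * d.a1 * d.a4 + σ c.a8 * σ c.b8 * d.a1 * σ d.a1 + c.a8 * σ c.a8 * d.a1 * d.a4 + c.b8 ^ 2 * d.a1 * σ d.a1 +
    c.a8 ^ 2 * (σ c.a8) ^ 2 * d.a1 * σ d.a1 := rfl
private theorem fm_a6 (σ : K →+* K) (c d : Cd K) : (mul σ c d).a6 = c.a6 + d.a6 + σ c.a8 * d.a2 + c.b8 * d.a1 + c.a8 * σ c.a8 * d.a1 := rfl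
private theorem fm_b6 (σ : K →+* K) (c d : Cd K) : (mul σ c d).b6 = c.b6 + d.b6 + c.a6 * σ d.a6 + σ c.a7 * d.a2 + c.a7 * d.a4 + c.a8 * d.a5 + σ c.b8 * d.b2 + c.b8 * d.a3 + c.a6 * σ
    c.b8 * σ d.a1 + σ c.a7 * c.a8 * d.a1 + c.a7 * c.a8 * σ d.a2 + c.a7 * c.b8 * σ d.a1 + σ c.a8 * d.a2 * σ d.a6 + c.a8 *
    c.b8 * d.b2 + σ c.b8 * d.a1 * d.a4 + σ c.b8 * d.a2 * σ d.a2 + c.b8 * d.a1 * σ d.a6 + c.b8 * d.a2 * d.a4 + c.a6 *
    c.a8 ^ 2 * σ d.a2 + σ c.a8 * σ c.b8 * σ d.a1 * d.a2 + c.a8 * σ c.b8 * d.a1 * σ d.a2 + c.a8 * c.b8 * d.a1 * d.a4 +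
    c.a8 * σ c.a8 * d.a1 * σ d.a6 + c.a8 ^ 2 * σ c.a8 * d.b2 + c.b8 ^ 2 * σ d.a1 * d.a2 + c.a6 * c.a8 ^ 2 * σ c.a8 * σ
    d.a1 + c.a8 * c.b8 ^ 2 * d.a1 * σ d.a1 + c.a8 * σ c.a8 * σ c.b8 * d.a1 * σ d.a1 + c.a8 ^ 2 * σ c.a8 * d.a1 * d.a4 +
    c.a8 ^ 2 * (σ c.a8) ^ 2 * σ d.a1 * d.a2 + c.a8 ^ 3 * (σ c.a8) ^ 2 * d.a1 * σ d.a1 := rfl
private theorem fm_a7 (σ : K →+* K) (c d : Cd K) : (mul σ c d).a7 = c.a7 + d.a7 + c.a8 * d.a6 + σ c.b8 * d.a1 + c.b8 * d.a2 + c.a8 * c.b8 * d.a1 + c.a8 ^ 2 * σ c.a8 * d.a1 := rfl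
private theorem fm_a8 (σ : K →+* K) (c d : Cd K) : (mul σ c d).a8 = c.a8 + d.a8 := rfl
private theorem fm_b8 (σ : K →+* K) (c d : Cd K) : (mul σ c d).b8 = c.b8 + d.b8 + c.a8 * σ d.a8 := rfl

private theorem z_s0 (σ : K →+* K) : σ 0 = 0 := map_zero σ
private theorem z_s1 (σ : K →+* K) : σ 1 = 1 := map_one σ
private theorem z_mz (a : K) : a * 0 = 0 := mul_zero a
private theorem z_zm (a : K) : 0 * a = 0 := zero_mul a
private theorem z_mo (a : K) : a * 1 = a := mul_one a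
private theorem z_om (a : K) : 1 * a = a := one_mul a
private theorem z_az (a : K) : a + 0 = a := add_zero a
private theorem z_za (a : K) : 0 + a = a := zero_add a
private theorem z_op (n : ℕ) : (1 : K) ^ n = 1 := one_pow n
private theorem z_p2 : (0 : K) ^ 2 = 0 := zero_pow two_ne_zero
private theorem z_p3 : (0 : K) ^ 3 = 0 := zero_pow three_ne_zero

variable (σ : K →+* K)

/-- `V = {x ∈ B | [B, x] ≤ 1}` -/
theorem qb_V (c : Cd K) : (pV K) c = (pV K) zc ↔ (pB K) c = (pB K) zc ∧ ∀ d, (pB K) d = (pB K) zc →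
    (fun c : Cd K => c) (mul σ d c) = (fun c : Cd K => c) (mul σ c d) := by
  constructor
  · intro h
    obtain ⟨ma1, ma2, mb2, ma3, ma4, h88⟩ := pV_iff.1 h
    revert h88; rintro ⟨ma5, ma6, ma7, ma8, mb8⟩
    simp only [zc] at ma1 ma2 mb2 ma3 ma4 ma5 ma6 ma7 ma8 mb8
    refine ⟨?_, fun d hd => ?_⟩
    · exact pB_iff.2 ma1
    · have na1 := pB_iff.1 hd
      simp only [zc] at na1
      exact p1_iff.2 ⟨(by (try simp only [fm_a1, fm_a2, fm_b2, fm_a3, fm_a4, fm_b4, fm_a5, fm_a6, fm_b6, fm_a7, fm_a8, fm_b8, ma1, ma2, mb2, ma3, ma4, ma5, ma6, ma7, ma8, mb8, na1, z_s0, z_s1, z_mz, z_zm, z_mo, z_om, z_az, z_za, z_op, z_p2, z_p3]) <;> ring1),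
        (by (try simp only [fm_a1, fm_a2, fm_b2, fm_a3, fm_a4, fm_b4, fm_a5, fm_a6, fm_b6, fm_a7, fm_a8, fm_b8, ma1, ma2, mb2, ma3, ma4, ma5, ma6, ma7, ma8, mb8, na1, z_s0, z_s1, z_mz, z_zm, z_mo, z_om, z_az, z_za, z_op, z_p2, z_p3]) <;> ring1),
        (by (try simp only [fm_a1, fm_a2, fm_b2, fm_a3, fm_a4, fm_b4, fm_a5, fm_a6, fm_b6, fm_a7, fm_a8, fm_b8, ma1, ma2, mb2, ma3, ma4, ma5, ma6, ma7, ma8, mb8, na1, z_s0, z_s1, z_mz, z_zm, z_mo, z_om, z_az, z_za, z_op, z_p2, z_p3]) <;> ring1),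
        (by (try simp only [fm_a1, fm_a2, fm_b2, fm_a3, fm_a4, fm_b4, fm_a5, fm_a6, fm_b6, fm_a7, fm_a8, fm_b8, ma1, ma2, mb2, ma3, ma4, ma5, ma6, ma7, ma8, mb8, na1, z_s0, z_s1, z_mz, z_zm, z_mo, z_om, z_az, z_za, z_op, z_p2, z_p3]) <;> ring1),
        (by (try simp only [fm_a1, fm_a2, fm_b2, fm_a3, fm_a4, fm_b4, fm_a5, fm_a6, fm_b6, fm_a7, fm_a8, fm_b8, ma1, ma2, mb2, ma3, ma4, ma5, ma6, ma7, ma8, mb8, na1, z_s0, z_s1, z_mz, z_zm, z_mo, z_om, z_az, z_za, z_op, z_p2, z_p3]) <;> ring1),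
        (by (try simp only [fm_a1, fm_a2, fm_b2, fm_a3, fm_a4, fm_b4, fm_a5, fm_a6, fm_b6, fm_a7, fm_a8, fm_b8, ma1, ma2, mb2, ma3, ma4, ma5, ma6, ma7, ma8, mb8, na1, z_s0, z_s1, z_mz, z_zm, z_mo, z_om, z_az, z_za, z_op, z_p2, z_p3]) <;> ring1),
        (by (try simp only [fm_a1, fm_a2, fm_b2, fm_a3, fm_a4, fm_b4, fm_a5, fm_a6, fm_b6, fm_a7, fm_a8, fm_b8, ma1, ma2, mb2, ma3, ma4, ma5, ma6, ma7, ma8, mb8, na1, z_s0, z_s1, z_mz, z_zm, z_mo, z_om, z_az, z_za, z_op, z_p2, z_p3]) <;> ring1),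
        (by (try simp only [fm_a1, fm_a2, fm_b2, fm_a3, fm_a4, fm_b4, fm_a5, fm_a6, fm_b6, fm_a7, fm_a8, fm_b8, ma1, ma2, mb2, ma3, ma4, ma5, ma6, ma7, ma8, mb8, na1, z_s0, z_s1, z_mz, z_zm, z_mo, z_om, z_az, z_za, z_op, z_p2, z_p3]) <;> ring1),
        (by (try simp only [fm_a1, fm_a2, fm_b2, fm_a3, fm_a4, fm_b4, fm_a5, fm_a6, fm_b6, fm_a7, fm_a8, fm_b8, ma1, ma2, mb2, ma3, ma4, ma5, ma6, ma7, ma8, mb8, na1, z_s0, z_s1, z_mz, z_zm, z_mo, z_om, z_az, z_za, z_op, z_p2, z_p3]) <;> ring1),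
        (by (try simp only [fm_a1, fm_a2, fm_b2, fm_a3, fm_a4, fm_b4, fm_a5, fm_a6, fm_b6, fm_a7, fm_a8, fm_b8, ma1, ma2, mb2, ma3, ma4, ma5, ma6, ma7, ma8, mb8, na1, z_s0, z_s1, z_mz, z_zm, z_mo, z_om, z_az, z_za, z_op, z_p2, z_p3]) <;> ring1),
        (by (try simp only [fm_a1, fm_a2, fm_b2, fm_a3, fm_a4, fm_b4, fm_a5, fm_a6, fm_b6, fm_a7, fm_a8, fm_b8, ma1, ma2, mb2, ma3, ma4, ma5, ma6, ma7, ma8, mb8, na1, z_s0, z_s1, z_mz, z_zm, z_mo, z_om, z_az, z_za, z_op, z_p2, z_p3]) <;> ring1),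
        (by (try simp only [fm_a1, fm_a2, fm_b2, fm_a3, fm_a4, fm_b4, fm_a5, fm_a6, fm_b6, fm_a7, fm_a8, fm_b8, ma1, ma2, mb2, ma3, ma4, ma5, ma6, ma7, ma8, mb8, na1, z_s0, z_s1, z_mz, z_zm, z_mo, z_om, z_az, z_za, z_op, z_p2, z_p3]) <;> ring1)⟩
  · rintro ⟨h0, h⟩
    have ma1 := pB_iff.1 h0
    simp only [zc] at ma1
    have ma8 : c.a8 = 0 := by
      obtain ⟨-, -, -, -, e, h88⟩ := p1_iff.1 (h ⟨0, 1, 0, 0, 0, 0, 0, 0, 0, 0, 0, 0⟩ rfl)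
      revert h88; rintro ⟨-, -, -, -, -, h88⟩
      revert h88; rintro ⟨-, -⟩
      simp only [fm_a1, fm_a2, fm_b2, fm_a3, fm_a4, fm_b4, fm_a5, fm_a6, fm_b6, fm_a7, fm_a8, fm_b8, ma1, z_s0, z_s1, z_mz, z_zm, z_mo, z_om, z_az, z_za, z_op, z_p2, z_p3] at e
      linear_combination -e
    have ma4 : c.a4 = 0 := by
      obtain ⟨-, -, -, e, -, h88⟩ := p1_iff.1 (h ⟨0, 1, 0, 0, 0, 0, 0, 0, 0, 0, 0, 0⟩ rfl)
      revert h88; rintro ⟨-, -, -, -, -, h88⟩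
      revert h88; rintro ⟨-, -⟩
      simp only [fm_a1, fm_a2, fm_b2, fm_a3, fm_a4, fm_b4, fm_a5, fm_a6, fm_b6, fm_a7, fm_a8, fm_b8, ma1, ma8, z_s0, z_s1, z_mz, z_zm, z_mo, z_om, z_az, z_za, z_op, z_p2, z_p3] at e
      linear_combination -e
    have ma7 : c.a7 = 0 := by
      obtain ⟨-, -, -, -, -, h88⟩ := p1_iff.1 (h ⟨0, 1, 0, 0, 0, 0, 0, 0, 0, 0, 0, 0⟩ rfl)
      revert h88; rintro ⟨-, e, -, -, -, h88⟩
      revert h88; rintro ⟨-, -⟩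
      simp only [fm_a1, fm_a2, fm_b2, fm_a3, fm_a4, fm_b4, fm_a5, fm_a6, fm_b6, fm_a7, fm_a8, fm_b8, ma1, ma8, ma4, z_s0, z_s1, z_mz, z_zm, z_mo, z_om, z_az, z_za, z_op, z_p2, z_p3] at e
      linear_combination -e
    have mb8 : c.b8 = 0 := by
      obtain ⟨-, -, -, -, -, h88⟩ := p1_iff.1 (h ⟨0, 1, 0, 0, 0, 0, 0, 0, 0, 0, 0, 0⟩ rfl)
      revert h88; rintro ⟨-, -, -, e, -, h88⟩
      revert h88; rintro ⟨-, -⟩
      simp only [fm_a1, fm_a2, fm_b2, fm_a3, fm_a4, fm_b4, fm_a5, fm_a6, fm_b6, fm_a7, fm_a8, fm_b8, ma1, ma8, ma4, ma7, z_s0, z_s1, z_mz, z_zm, z_mo, z_om, z_az, z_za, z_op, z_p2, z_p3] at e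
      exact (map_eq_zero σ).1 (by linear_combination -e)
    have ma5 : c.a5 = 0 := by
      obtain ⟨-, -, -, -, -, h88⟩ := p1_iff.1 (h ⟨0, 1, 0, 0, 0, 0, 0, 0, 0, 0, 0, 0⟩ rfl)
      revert h88; rintro ⟨e, -, -, -, -, h88⟩
      revert h88; rintro ⟨-, -⟩
      simp only [fm_a1, fm_a2, fm_b2, fm_a3, fm_a4, fm_b4, fm_a5, fm_a6, fm_b6, fm_a7, fm_a8, fm_b8, ma1, ma8, ma4, ma7, mb8, z_s0, z_s1, z_mz, z_zm, z_mo, z_om, z_az, z_za, z_op, z_p2, z_p3] at e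
      linear_combination -e
    have ma6 : c.a6 = 0 := by
      obtain ⟨-, -, -, -, -, h88⟩ := p1_iff.1 (h ⟨0, 0, 0, 1, 0, 0, 0, 0, 0, 0, 0, 0⟩ rfl)
      revert h88; rintro ⟨e, -, -, -, -, h88⟩
      revert h88; rintro ⟨-, -⟩
      simp only [fm_a1, fm_a2, fm_b2, fm_a3, fm_a4, fm_b4, fm_a5, fm_a6, fm_b6, fm_a7, fm_a8, fm_b8, ma1, ma8, ma4, ma7, mb8, ma5, z_s0, z_s1, z_mz, z_zm, z_mo, z_om, z_az, z_za, z_op, z_p2, z_p3] at e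
      linear_combination -e
    have ma2 : c.a2 = 0 := by
      obtain ⟨-, -, -, e, -, h88⟩ := p1_iff.1 (h ⟨0, 0, 0, 0, 1, 0, 0, 0, 0, 0, 0, 0⟩ rfl)
      revert h88; rintro ⟨-, -, -, -, -, h88⟩
      revert h88; rintro ⟨-, -⟩
      simp only [fm_a1, fm_a2, fm_b2, fm_a3, fm_a4, fm_b4, fm_a5, fm_a6, fm_b6, fm_a7, fm_a8, fm_b8, ma1, ma8, ma4, ma7, mb8, ma5, ma6, z_s0, z_s1, z_mz, z_zm, z_mo, z_om, z_az, z_za, z_op, z_p2, z_p3] at e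
      linear_combination e
    have ma3 : c.a3 = 0 := by
      obtain ⟨-, -, -, -, -, h88⟩ := p1_iff.1 (h ⟨0, 0, 0, 0, 0, 0, 0, 1, 0, 0, 0, 0⟩ rfl)
      revert h88; rintro ⟨e, -, -, -, -, h88⟩
      revert h88; rintro ⟨-, -⟩
      simp only [fm_a1, fm_a2, fm_b2, fm_a3, fm_a4, fm_b4, fm_a5, fm_a6, fm_b6, fm_a7, fm_a8, fm_b8, ma1, ma8, ma4, ma7, mb8, ma5, ma6, ma2, z_s0, z_s1, z_mz, z_zm, z_mo, z_om, z_az, z_za, z_op, z_p2, z_p3] at e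
      linear_combination e
    have mb2 : c.b2 = 0 := by
      obtain ⟨-, -, -, -, -, h88⟩ := p1_iff.1 (h ⟨0, 0, 0, 0, 0, 0, 0, 0, 0, 1, 0, 0⟩ rfl)
      revert h88; rintro ⟨e, -, -, -, -, h88⟩
      revert h88; rintro ⟨-, -⟩
      simp only [fm_a1, fm_a2, fm_b2, fm_a3, fm_a4, fm_b4, fm_a5, fm_a6, fm_b6, fm_a7, fm_a8, fm_b8, ma1, ma8, ma4, ma7, mb8, ma5, ma6, ma2, ma3, z_s0, z_s1, z_mz, z_zm, z_mo, z_om, z_az, z_za, z_op, z_p2, z_p3] at e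
      linear_combination e
    exact pV_iff.2 ⟨ma1, ma2, mb2, ma3, ma4, ma5, ma6, ma7, ma8, mb8⟩

/-- `Y = {x ∈ B | [B, x] ≤ V}` -/
theorem qb_Y (c : Cd K) : (pY K) c = (pY K) zc ↔ (pB K) c = (pB K) zc ∧ ∀ d, (pB K) d = (pB K) zc →
    (pV K) (mul σ d c) = (pV K) (mul σ c d) := by
  constructor
  · intro h
    obtain ⟨ma1, ma2, mb2, ma3, ma4, ma6, ma7, ma8, mb8⟩ := pY_iff.1 h
    simp only [zc] at ma1 ma2 mb2 ma3 ma4 ma6 ma7 ma8 mb8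
    refine ⟨?_, fun d hd => ?_⟩
    · exact pB_iff.2 ma1
    · have na1 := pB_iff.1 hd
      simp only [zc] at na1
      exact pV_iff.2 ⟨(by (try simp only [fm_a1, fm_a2, fm_b2, fm_a3, fm_a4, fm_b4, fm_a5, fm_a6, fm_b6, fm_a7, fm_a8, fm_b8, ma1, ma2, mb2, ma3, ma4, ma6, ma7, ma8, mb8, na1, z_s0, z_s1, z_mz, z_zm, z_mo, z_om, z_az, z_za, z_op, z_p2, z_p3]) <;> ring1),
        (by (try simp only [fm_a1, fm_a2, fm_b2, fm_a3, fm_a4, fm_b4, fm_a5, fm_a6, fm_b6, fm_a7, fm_a8, fm_b8, ma1, ma2, mb2, ma3, ma4, ma6, ma7, ma8, mb8, na1, z_s0, z_s1, z_mz, z_zm, z_mo, z_om, z_az, z_za, z_op, z_p2, z_p3]) <;> ring1),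
        (by (try simp only [fm_a1, fm_a2, fm_b2, fm_a3, fm_a4, fm_b4, fm_a5, fm_a6, fm_b6, fm_a7, fm_a8, fm_b8, ma1, ma2, mb2, ma3, ma4, ma6, ma7, ma8, mb8, na1, z_s0, z_s1, z_mz, z_zm, z_mo, z_om, z_az, z_za, z_op, z_p2, z_p3]) <;> ring1),
        (by (try simp only [fm_a1, fm_a2, fm_b2, fm_a3, fm_a4, fm_b4, fm_a5, fm_a6, fm_b6, fm_a7, fm_a8, fm_b8, ma1, ma2, mb2, ma3, ma4, ma6, ma7, ma8, mb8, na1, z_s0, z_s1, z_mz, z_zm, z_mo, z_om, z_az, z_za, z_op, z_p2, z_p3]) <;> ring1),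
        (by (try simp only [fm_a1, fm_a2, fm_b2, fm_a3, fm_a4, fm_b4, fm_a5, fm_a6, fm_b6, fm_a7, fm_a8, fm_b8, ma1, ma2, mb2, ma3, ma4, ma6, ma7, ma8, mb8, na1, z_s0, z_s1, z_mz, z_zm, z_mo, z_om, z_az, z_za, z_op, z_p2, z_p3]) <;> ring1),
        (by (try simp only [fm_a1, fm_a2, fm_b2, fm_a3, fm_a4, fm_b4, fm_a5, fm_a6, fm_b6, fm_a7, fm_a8, fm_b8, ma1, ma2, mb2, ma3, ma4, ma6, ma7, ma8, mb8, na1, z_s0, z_s1, z_mz, z_zm, z_mo, z_om, z_az, z_za, z_op, z_p2, z_p3]) <;> ring1),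
        (by (try simp only [fm_a1, fm_a2, fm_b2, fm_a3, fm_a4, fm_b4, fm_a5, fm_a6, fm_b6, fm_a7, fm_a8, fm_b8, ma1, ma2, mb2, ma3, ma4, ma6, ma7, ma8, mb8, na1, z_s0, z_s1, z_mz, z_zm, z_mo, z_om, z_az, z_za, z_op, z_p2, z_p3]) <;> ring1),
        (by (try simp only [fm_a1, fm_a2, fm_b2, fm_a3, fm_a4, fm_b4, fm_a5, fm_a6, fm_b6, fm_a7, fm_a8, fm_b8, ma1, ma2, mb2, ma3, ma4, ma6, ma7, ma8, mb8, na1, z_s0, z_s1, z_mz, z_zm, z_mo, z_om, z_az, z_za, z_op, z_p2, z_p3]) <;> ring1),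
        (by (try simp only [fm_a1, fm_a2, fm_b2, fm_a3, fm_a4, fm_b4, fm_a5, fm_a6, fm_b6, fm_a7, fm_a8, fm_b8, ma1, ma2, mb2, ma3, ma4, ma6, ma7, ma8, mb8, na1, z_s0, z_s1, z_mz, z_zm, z_mo, z_om, z_az, z_za, z_op, z_p2, z_p3]) <;> ring1),
        (by (try simp only [fm_a1, fm_a2, fm_b2, fm_a3, fm_a4, fm_b4, fm_a5, fm_a6, fm_b6, fm_a7, fm_a8, fm_b8, ma1, ma2, mb2, ma3, ma4, ma6, ma7, ma8, mb8, na1, z_s0, z_s1, z_mz, z_zm, z_mo, z_om, z_az, z_za, z_op, z_p2, z_p3]) <;> ring1)⟩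
  · rintro ⟨h0, h⟩
    have ma1 := pB_iff.1 h0
    simp only [zc] at ma1
    have ma8 : c.a8 = 0 := by
      obtain ⟨-, -, -, -, e, -, -, -, -, -⟩ := pV_iff.1 (h ⟨0, 1, 0, 0, 0, 0, 0, 0, 0, 0, 0, 0⟩ rfl)
      simp only [fm_a1, fm_a2, fm_b2, fm_a3, fm_a4, fm_b4, fm_a5, fm_a6, fm_b6, fm_a7, fm_a8, fm_b8, ma1, z_s0, z_s1, z_mz, z_zm, z_mo, z_om, z_az, z_za, z_op, z_p2, z_p3] at e
      linear_combination -e
    have ma4 : c.a4 = 0 := by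
      obtain ⟨-, -, -, e, -, -, -, -, -, -⟩ := pV_iff.1 (h ⟨0, 1, 0, 0, 0, 0, 0, 0, 0, 0, 0, 0⟩ rfl)
      simp only [fm_a1, fm_a2, fm_b2, fm_a3, fm_a4, fm_b4, fm_a5, fm_a6, fm_b6, fm_a7, fm_a8, fm_b8, ma1, ma8, z_s0, z_s1, z_mz, z_zm, z_mo, z_om, z_az, z_za, z_op, z_p2, z_p3] at e
      linear_combination -e
    have ma7 : c.a7 = 0 := by
      obtain ⟨-, -, -, -, -, e, -, -, -, -⟩ := pV_iff.1 (h ⟨0, 1, 0, 0, 0, 0, 0, 0, 0, 0, 0, 0⟩ rfl)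
      simp only [fm_a1, fm_a2, fm_b2, fm_a3, fm_a4, fm_b4, fm_a5, fm_a6, fm_b6, fm_a7, fm_a8, fm_b8, ma1, ma8, ma4, z_s0, z_s1, z_mz, z_zm, z_mo, z_om, z_az, z_za, z_op, z_p2, z_p3] at e
      linear_combination -e
    have mb8 : c.b8 = 0 := by
      obtain ⟨-, -, -, -, -, -, -, e, -, -⟩ := pV_iff.1 (h ⟨0, 1, 0, 0, 0, 0, 0, 0, 0, 0, 0, 0⟩ rfl)
      simp only [fm_a1, fm_a2, fm_b2, fm_a3, fm_a4, fm_b4, fm_a5, fm_a6, fm_b6, fm_a7, fm_a8, fm_b8, ma1, ma8, ma4, ma7, z_s0, z_s1, z_mz, z_zm, z_mo, z_om, z_az, z_za, z_op, z_p2, z_p3] at e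
      linear_combination -e
    have ma2 : c.a2 = 0 := by
      obtain ⟨-, -, -, e, -, -, -, -, -, -⟩ := pV_iff.1 (h ⟨0, 0, 0, 0, 1, 0, 0, 0, 0, 0, 0, 0⟩ rfl)
      simp only [fm_a1, fm_a2, fm_b2, fm_a3, fm_a4, fm_b4, fm_a5, fm_a6, fm_b6, fm_a7, fm_a8, fm_b8, ma1, ma8, ma4, ma7, mb8, z_s0, z_s1, z_mz, z_zm, z_mo, z_om, z_az, z_za, z_op, z_p2, z_p3] at e
      linear_combination e
    have ma6 : c.a6 = 0 := by
      obtain ⟨-, -, -, -, -, e, -, -, -, -⟩ := pV_iff.1 (h ⟨0, 0, 0, 0, 1, 0, 0, 0, 0, 0, 0, 0⟩ rfl)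
      simp only [fm_a1, fm_a2, fm_b2, fm_a3, fm_a4, fm_b4, fm_a5, fm_a6, fm_b6, fm_a7, fm_a8, fm_b8, ma1, ma8, ma4, ma7, mb8, ma2, z_s0, z_s1, z_mz, z_zm, z_mo, z_om, z_az, z_za, z_op, z_p2, z_p3] at e
      linear_combination -e
    have mb2 : c.b2 = 0 := by
      obtain ⟨-, -, -, e, -, -, -, -, -, -⟩ := pV_iff.1 (h ⟨0, 0, 0, 0, 0, 0, 0, 0, 0, 0, 1, 0⟩ rfl)
      simp only [fm_a1, fm_a2, fm_b2, fm_a3, fm_a4, fm_b4, fm_a5, fm_a6, fm_b6, fm_a7, fm_a8, fm_b8, ma1, ma8, ma4, ma7, mb8, ma2, ma6, z_s0, z_s1, z_mz, z_zm, z_mo, z_om, z_az, z_za, z_op, z_p2, z_p3] at e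
      linear_combination e
    have ma3 : c.a3 = 0 := by
      obtain ⟨-, -, -, -, -, e, -, -, -, -⟩ := pV_iff.1 (h ⟨0, 0, 0, 0, 0, 0, 0, 0, 0, 0, 1, 0⟩ rfl)
      simp only [fm_a1, fm_a2, fm_b2, fm_a3, fm_a4, fm_b4, fm_a5, fm_a6, fm_b6, fm_a7, fm_a8, fm_b8, ma1, ma8, ma4, ma7, mb8, ma2, ma6, mb2, z_s0, z_s1, z_mz, z_zm, z_mo, z_om, z_az, z_za, z_op, z_p2, z_p3] at e
      linear_combination e
    exact pY_iff.2 ⟨ma1, ma2, mb2, ma3, ma4, ma6, ma7, ma8, mb8⟩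

/-- `A = {x ∈ B | [B, x] ≤ Y}` -/
theorem qb_A (c : Cd K) : (pA K) c = (pA K) zc ↔ (pB K) c = (pB K) zc ∧ ∀ d, (pB K) d = (pB K) zc →
    (pY K) (mul σ d c) = (pY K) (mul σ c d) := by
  constructor
  · intro h
    obtain ⟨ma1, ma2, mb2, ma4, ma6, ma8, mb8⟩ := pA_iff.1 h
    simp only [zc] at ma1 ma2 mb2 ma4 ma6 ma8 mb8
    refine ⟨?_, fun d hd => ?_⟩
    · exact pB_iff.2 ma1
    · have na1 := pB_iff.1 hd
      simp only [zc] at na1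
      exact pY_iff.2 ⟨(by (try simp only [fm_a1, fm_a2, fm_b2, fm_a3, fm_a4, fm_b4, fm_a5, fm_a6, fm_b6, fm_a7, fm_a8, fm_b8, ma1, ma2, mb2, ma4, ma6, ma8, mb8, na1, z_s0, z_s1, z_mz, z_zm, z_mo, z_om, z_az, z_za, z_op, z_p2, z_p3]) <;> ring1),
        (by (try simp only [fm_a1, fm_a2, fm_b2, fm_a3, fm_a4, fm_b4, fm_a5, fm_a6, fm_b6, fm_a7, fm_a8, fm_b8, ma1, ma2, mb2, ma4, ma6, ma8, mb8, na1, z_s0, z_s1, z_mz, z_zm, z_mo, z_om, z_az, z_za, z_op, z_p2, z_p3]) <;> ring1),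
        (by (try simp only [fm_a1, fm_a2, fm_b2, fm_a3, fm_a4, fm_b4, fm_a5, fm_a6, fm_b6, fm_a7, fm_a8, fm_b8, ma1, ma2, mb2, ma4, ma6, ma8, mb8, na1, z_s0, z_s1, z_mz, z_zm, z_mo, z_om, z_az, z_za, z_op, z_p2, z_p3]) <;> ring1),
        (by (try simp only [fm_a1, fm_a2, fm_b2, fm_a3, fm_a4, fm_b4, fm_a5, fm_a6, fm_b6, fm_a7, fm_a8, fm_b8, ma1, ma2, mb2, ma4, ma6, ma8, mb8, na1, z_s0, z_s1, z_mz, z_zm, z_mo, z_om, z_az, z_za, z_op, z_p2, z_p3]) <;> ring1),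
        (by (try simp only [fm_a1, fm_a2, fm_b2, fm_a3, fm_a4, fm_b4, fm_a5, fm_a6, fm_b6, fm_a7, fm_a8, fm_b8, ma1, ma2, mb2, ma4, ma6, ma8, mb8, na1, z_s0, z_s1, z_mz, z_zm, z_mo, z_om, z_az, z_za, z_op, z_p2, z_p3]) <;> ring1),
        (by (try simp only [fm_a1, fm_a2, fm_b2, fm_a3, fm_a4, fm_b4, fm_a5, fm_a6, fm_b6, fm_a7, fm_a8, fm_b8, ma1, ma2, mb2, ma4, ma6, ma8, mb8, na1, z_s0, z_s1, z_mz, z_zm, z_mo, z_om, z_az, z_za, z_op, z_p2, z_p3]) <;> ring1),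
        (by (try simp only [fm_a1, fm_a2, fm_b2, fm_a3, fm_a4, fm_b4, fm_a5, fm_a6, fm_b6, fm_a7, fm_a8, fm_b8, ma1, ma2, mb2, ma4, ma6, ma8, mb8, na1, z_s0, z_s1, z_mz, z_zm, z_mo, z_om, z_az, z_za, z_op, z_p2, z_p3]) <;> ring1),
        (by (try simp only [fm_a1, fm_a2, fm_b2, fm_a3, fm_a4, fm_b4, fm_a5, fm_a6, fm_b6, fm_a7, fm_a8, fm_b8, ma1, ma2, mb2, ma4, ma6, ma8, mb8, na1, z_s0, z_s1, z_mz, z_zm, z_mo, z_om, z_az, z_za, z_op, z_p2, z_p3]) <;> ring1),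
        (by (try simp only [fm_a1, fm_a2, fm_b2, fm_a3, fm_a4, fm_b4, fm_a5, fm_a6, fm_b6, fm_a7, fm_a8, fm_b8, ma1, ma2, mb2, ma4, ma6, ma8, mb8, na1, z_s0, z_s1, z_mz, z_zm, z_mo, z_om, z_az, z_za, z_op, z_p2, z_p3]) <;> ring1)⟩
  · rintro ⟨h0, h⟩
    have ma1 := pB_iff.1 h0
    simp only [zc] at ma1
    have ma8 : c.a8 = 0 := by
      obtain ⟨-, -, -, -, e, -, -, -, -⟩ := pY_iff.1 (h ⟨0, 1, 0, 0, 0, 0, 0, 0, 0, 0, 0, 0⟩ rfl)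
      simp only [fm_a1, fm_a2, fm_b2, fm_a3, fm_a4, fm_b4, fm_a5, fm_a6, fm_b6, fm_a7, fm_a8, fm_b8, ma1, z_s0, z_s1, z_mz, z_zm, z_mo, z_om, z_az, z_za, z_op, z_p2, z_p3] at e
      linear_combination -e
    have ma4 : c.a4 = 0 := by
      obtain ⟨-, -, -, e, -, -, -, -, -⟩ := pY_iff.1 (h ⟨0, 1, 0, 0, 0, 0, 0, 0, 0, 0, 0, 0⟩ rfl)
      simp only [fm_a1, fm_a2, fm_b2, fm_a3, fm_a4, fm_b4, fm_a5, fm_a6, fm_b6, fm_a7, fm_a8, fm_b8, ma1, ma8, z_s0, z_s1, z_mz, z_zm, z_mo, z_om, z_az, z_za, z_op, z_p2, z_p3] at e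
      linear_combination -e
    have mb8 : c.b8 = 0 := by
      obtain ⟨-, -, -, -, -, -, e, -, -⟩ := pY_iff.1 (h ⟨0, 1, 0, 0, 0, 0, 0, 0, 0, 0, 0, 0⟩ rfl)
      simp only [fm_a1, fm_a2, fm_b2, fm_a3, fm_a4, fm_b4, fm_a5, fm_a6, fm_b6, fm_a7, fm_a8, fm_b8, ma1, ma8, ma4, z_s0, z_s1, z_mz, z_zm, z_mo, z_om, z_az, z_za, z_op, z_p2, z_p3] at e
      linear_combination -e
    have ma2 : c.a2 = 0 := by
      obtain ⟨-, -, -, e, -, -, -, -, -⟩ := pY_iff.1 (h ⟨0, 0, 0, 0, 1, 0, 0, 0, 0, 0, 0, 0⟩ rfl)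
      simp only [fm_a1, fm_a2, fm_b2, fm_a3, fm_a4, fm_b4, fm_a5, fm_a6, fm_b6, fm_a7, fm_a8, fm_b8, ma1, ma8, ma4, mb8, z_s0, z_s1, z_mz, z_zm, z_mo, z_om, z_az, z_za, z_op, z_p2, z_p3] at e
      linear_combination e
    have mb2 : c.b2 = 0 := by
      obtain ⟨-, -, -, e, -, -, -, -, -⟩ := pY_iff.1 (h ⟨0, 0, 0, 0, 0, 0, 0, 0, 0, 0, 1, 0⟩ rfl)
      simp only [fm_a1, fm_a2, fm_b2, fm_a3, fm_a4, fm_b4, fm_a5, fm_a6, fm_b6, fm_a7, fm_a8, fm_b8, ma1, ma8, ma4, mb8, ma2, z_s0, z_s1, z_mz, z_zm, z_mo, z_om, z_az, z_za, z_op, z_p2, z_p3] at e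
      linear_combination e
    have ma6 : c.a6 = 0 := by
      obtain ⟨-, -, -, -, -, -, e, -, -⟩ := pY_iff.1 (h ⟨0, 0, 0, 0, 0, 0, 0, 0, 0, 0, 1, 0⟩ rfl)
      simp only [fm_a1, fm_a2, fm_b2, fm_a3, fm_a4, fm_b4, fm_a5, fm_a6, fm_b6, fm_a7, fm_a8, fm_b8, ma1, ma8, ma4, mb8, ma2, mb2, z_s0, z_s1, z_mz, z_zm, z_mo, z_om, z_az, z_za, z_op, z_p2, z_p3] at e
      linear_combination e
    exact pA_iff.2 ⟨ma1, ma2, mb2, ma4, ma6, ma8, mb8⟩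

/-- `N = {x ∈ B | [Y, x] ≤ 1}` -/
theorem qb_N (c : Cd K) : (pN K) c = (pN K) zc ↔ (pB K) c = (pB K) zc ∧ ∀ d, (pY K) d = (pY K) zc →
    (fun c : Cd K => c) (mul σ d c) = (fun c : Cd K => c) (mul σ c d) := by
  constructor
  · intro h
    obtain ⟨ma1, ma2, ma8⟩ := pN_iff.1 h
    simp only [zc] at ma1 ma2 ma8
    refine ⟨?_, fun d hd => ?_⟩
    · exact pB_iff.2 ma1
    · obtain ⟨na1, na2, nb2, na3, na4, na6, na7, na8, nb8⟩ := pY_iff.1 hd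
      simp only [zc] at na1 na2 nb2 na3 na4 na6 na7 na8 nb8
      exact p1_iff.2 ⟨(by (try simp only [fm_a1, fm_a2, fm_b2, fm_a3, fm_a4, fm_b4, fm_a5, fm_a6, fm_b6, fm_a7, fm_a8, fm_b8, ma1, ma2, ma8, na1, na2, nb2, na3, na4, na6, na7, na8, nb8, z_s0, z_s1, z_mz, z_zm, z_mo, z_om, z_az, z_za, z_op, z_p2, z_p3]) <;> ring1),
        (by (try simp only [fm_a1, fm_a2, fm_b2, fm_a3, fm_a4, fm_b4, fm_a5, fm_a6, fm_b6, fm_a7, fm_a8, fm_b8, ma1, ma2, ma8, na1, na2, nb2, na3, na4, na6, na7, na8, nb8, z_s0, z_s1, z_mz, z_zm, z_mo, z_om, z_az, z_za, z_op, z_p2, z_p3]) <;> ring1),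
        (by (try simp only [fm_a1, fm_a2, fm_b2, fm_a3, fm_a4, fm_b4, fm_a5, fm_a6, fm_b6, fm_a7, fm_a8, fm_b8, ma1, ma2, ma8, na1, na2, nb2, na3, na4, na6, na7, na8, nb8, z_s0, z_s1, z_mz, z_zm, z_mo, z_om, z_az, z_za, z_op, z_p2, z_p3]) <;> ring1),
        (by (try simp only [fm_a1, fm_a2, fm_b2, fm_a3, fm_a4, fm_b4, fm_a5, fm_a6, fm_b6, fm_a7, fm_a8, fm_b8, ma1, ma2, ma8, na1, na2, nb2, na3, na4, na6, na7, na8, nb8, z_s0, z_s1, z_mz, z_zm, z_mo, z_om, z_az, z_za, z_op, z_p2, z_p3]) <;> ring1),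
        (by (try simp only [fm_a1, fm_a2, fm_b2, fm_a3, fm_a4, fm_b4, fm_a5, fm_a6, fm_b6, fm_a7, fm_a8, fm_b8, ma1, ma2, ma8, na1, na2, nb2, na3, na4, na6, na7, na8, nb8, z_s0, z_s1, z_mz, z_zm, z_mo, z_om, z_az, z_za, z_op, z_p2, z_p3]) <;> ring1),
        (by (try simp only [fm_a1, fm_a2, fm_b2, fm_a3, fm_a4, fm_b4, fm_a5, fm_a6, fm_b6, fm_a7, fm_a8, fm_b8, ma1, ma2, ma8, na1, na2, nb2, na3, na4, na6, na7, na8, nb8, z_s0, z_s1, z_mz, z_zm, z_mo, z_om, z_az, z_za, z_op, z_p2, z_p3]) <;> ring1),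
        (by (try simp only [fm_a1, fm_a2, fm_b2, fm_a3, fm_a4, fm_b4, fm_a5, fm_a6, fm_b6, fm_a7, fm_a8, fm_b8, ma1, ma2, ma8, na1, na2, nb2, na3, na4, na6, na7, na8, nb8, z_s0, z_s1, z_mz, z_zm, z_mo, z_om, z_az, z_za, z_op, z_p2, z_p3]) <;> ring1),
        (by (try simp only [fm_a1, fm_a2, fm_b2, fm_a3, fm_a4, fm_b4, fm_a5, fm_a6, fm_b6, fm_a7, fm_a8, fm_b8, ma1, ma2, ma8, na1, na2, nb2, na3, na4, na6, na7, na8, nb8, z_s0, z_s1, z_mz, z_zm, z_mo, z_om, z_az, z_za, z_op, z_p2, z_p3]) <;> ring1),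
        (by (try simp only [fm_a1, fm_a2, fm_b2, fm_a3, fm_a4, fm_b4, fm_a5, fm_a6, fm_b6, fm_a7, fm_a8, fm_b8, ma1, ma2, ma8, na1, na2, nb2, na3, na4, na6, na7, na8, nb8, z_s0, z_s1, z_mz, z_zm, z_mo, z_om, z_az, z_za, z_op, z_p2, z_p3]) <;> ring1),
        (by (try simp only [fm_a1, fm_a2, fm_b2, fm_a3, fm_a4, fm_b4, fm_a5, fm_a6, fm_b6, fm_a7, fm_a8, fm_b8, ma1, ma2, ma8, na1, na2, nb2, na3, na4, na6, na7, na8, nb8, z_s0, z_s1, z_mz, z_zm, z_mo, z_om, z_az, z_za, z_op, z_p2, z_p3]) <;> ring1),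
        (by (try simp only [fm_a1, fm_a2, fm_b2, fm_a3, fm_a4, fm_b4, fm_a5, fm_a6, fm_b6, fm_a7, fm_a8, fm_b8, ma1, ma2, ma8, na1, na2, nb2, na3, na4, na6, na7, na8, nb8, z_s0, z_s1, z_mz, z_zm, z_mo, z_om, z_az, z_za, z_op, z_p2, z_p3]) <;> ring1),
        (by (try simp only [fm_a1, fm_a2, fm_b2, fm_a3, fm_a4, fm_b4, fm_a5, fm_a6, fm_b6, fm_a7, fm_a8, fm_b8, ma1, ma2, ma8, na1, na2, nb2, na3, na4, na6, na7, na8, nb8, z_s0, z_s1, z_mz, z_zm, z_mo, z_om, z_az, z_za, z_op, z_p2, z_p3]) <;> ring1)⟩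
  · rintro ⟨h0, h⟩
    have ma1 := pB_iff.1 h0
    simp only [zc] at ma1
    have ma2 : c.a2 = 0 := by
      obtain ⟨-, -, -, -, -, e, -, -, -, -, -, -⟩ := p1_iff.1 (h ⟨0, 0, 0, 0, 0, 0, 1, 0, 0, 0, 0, 0⟩ rfl)
      simp only [fm_a1, fm_a2, fm_b2, fm_a3, fm_a4, fm_b4, fm_a5, fm_a6, fm_b6, fm_a7, fm_a8, fm_b8, ma1, z_s0, z_s1, z_mz, z_zm, z_mo, z_om, z_az, z_za, z_op, z_p2, z_p3] at e
      linear_combination e
    have ma8 : c.a8 = 0 := by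
      obtain ⟨-, -, -, -, -, -, -, -, e, -, -, -⟩ := p1_iff.1 (h ⟨0, 0, 0, 0, 0, 0, 1, 0, 0, 0, 0, 0⟩ rfl)
      simp only [fm_a1, fm_a2, fm_b2, fm_a3, fm_a4, fm_b4, fm_a5, fm_a6, fm_b6, fm_a7, fm_a8, fm_b8, ma1, ma2, z_s0, z_s1, z_mz, z_zm, z_mo, z_om, z_az, z_za, z_op, z_p2, z_p3] at e
      linear_combination -e
    exact pN_iff.2 ⟨ma1, ma2, ma8⟩

/-- `W = {x ∈ B | [Y, x] ≤ Z}` -/
theorem qb_W (c : Cd K) : (pW K) c = (pW K) zc ↔ (pB K) c = (pB K) zc ∧ ∀ d, (pY K) d = (pY K) zc →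
    (pZ K) (mul σ d c) = (pZ K) (mul σ c d) := by
  constructor
  · intro h
    obtain ⟨ma1, ma8⟩ := pW_iff.1 h
    simp only [zc] at ma1 ma8
    refine ⟨?_, fun d hd => ?_⟩
    · exact pB_iff.2 ma1
    · obtain ⟨na1, na2, nb2, na3, na4, na6, na7, na8, nb8⟩ := pY_iff.1 hd
      simp only [zc] at na1 na2 nb2 na3 na4 na6 na7 na8 nb8
      exact pZ_iff.2 ⟨(by (try simp only [fm_a1, fm_a2, fm_b2, fm_a3, fm_a4, fm_b4, fm_a5, fm_a6, fm_b6, fm_a7, fm_a8, fm_b8, ma1, ma8, na1, na2, nb2, na3, na4, na6, na7, na8, nb8, z_s0, z_s1, z_mz, z_zm, z_mo, z_om, z_az, z_za, z_op, z_p2, z_p3]) <;> ring1),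
        (by (try simp only [fm_a1, fm_a2, fm_b2, fm_a3, fm_a4, fm_b4, fm_a5, fm_a6, fm_b6, fm_a7, fm_a8, fm_b8, ma1, ma8, na1, na2, nb2, na3, na4, na6, na7, na8, nb8, z_s0, z_s1, z_mz, z_zm, z_mo, z_om, z_az, z_za, z_op, z_p2, z_p3]) <;> ring1),
        (by (try simp only [fm_a1, fm_a2, fm_b2, fm_a3, fm_a4, fm_b4, fm_a5, fm_a6, fm_b6, fm_a7, fm_a8, fm_b8, ma1, ma8, na1, na2, nb2, na3, na4, na6, na7, na8, nb8, z_s0, z_s1, z_mz, z_zm, z_mo, z_om, z_az, z_za, z_op, z_p2, z_p3]) <;> ring1),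
        (by (try simp only [fm_a1, fm_a2, fm_b2, fm_a3, fm_a4, fm_b4, fm_a5, fm_a6, fm_b6, fm_a7, fm_a8, fm_b8, ma1, ma8, na1, na2, nb2, na3, na4, na6, na7, na8, nb8, z_s0, z_s1, z_mz, z_zm, z_mo, z_om, z_az, z_za, z_op, z_p2, z_p3]) <;> ring1),
        (by (try simp only [fm_a1, fm_a2, fm_b2, fm_a3, fm_a4, fm_b4, fm_a5, fm_a6, fm_b6, fm_a7, fm_a8, fm_b8, ma1, ma8, na1, na2, nb2, na3, na4, na6, na7, na8, nb8, z_s0, z_s1, z_mz, z_zm, z_mo, z_om, z_az, z_za, z_op, z_p2, z_p3]) <;> ring1),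
        (by (try simp only [fm_a1, fm_a2, fm_b2, fm_a3, fm_a4, fm_b4, fm_a5, fm_a6, fm_b6, fm_a7, fm_a8, fm_b8, ma1, ma8, na1, na2, nb2, na3, na4, na6, na7, na8, nb8, z_s0, z_s1, z_mz, z_zm, z_mo, z_om, z_az, z_za, z_op, z_p2, z_p3]) <;> ring1),
        (by (try simp only [fm_a1, fm_a2, fm_b2, fm_a3, fm_a4, fm_b4, fm_a5, fm_a6, fm_b6, fm_a7, fm_a8, fm_b8, ma1, ma8, na1, na2, nb2, na3, na4, na6, na7, na8, nb8, z_s0, z_s1, z_mz, z_zm, z_mo, z_om, z_az, z_za, z_op, z_p2, z_p3]) <;> ring1),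
        (by (try simp only [fm_a1, fm_a2, fm_b2, fm_a3, fm_a4, fm_b4, fm_a5, fm_a6, fm_b6, fm_a7, fm_a8, fm_b8, ma1, ma8, na1, na2, nb2, na3, na4, na6, na7, na8, nb8, z_s0, z_s1, z_mz, z_zm, z_mo, z_om, z_az, z_za, z_op, z_p2, z_p3]) <;> ring1),
        (by (try simp only [fm_a1, fm_a2, fm_b2, fm_a3, fm_a4, fm_b4, fm_a5, fm_a6, fm_b6, fm_a7, fm_a8, fm_b8, ma1, ma8, na1, na2, nb2, na3, na4, na6, na7, na8, nb8, z_s0, z_s1, z_mz, z_zm, z_mo, z_om, z_az, z_za, z_op, z_p2, z_p3]) <;> ring1),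
        (by (try simp only [fm_a1, fm_a2, fm_b2, fm_a3, fm_a4, fm_b4, fm_a5, fm_a6, fm_b6, fm_a7, fm_a8, fm_b8, ma1, ma8, na1, na2, nb2, na3, na4, na6, na7, na8, nb8, z_s0, z_s1, z_mz, z_zm, z_mo, z_om, z_az, z_za, z_op, z_p2, z_p3]) <;> ring1),
        (by (try simp only [fm_a1, fm_a2, fm_b2, fm_a3, fm_a4, fm_b4, fm_a5, fm_a6, fm_b6, fm_a7, fm_a8, fm_b8, ma1, ma8, na1, na2, nb2, na3, na4, na6, na7, na8, nb8, z_s0, z_s1, z_mz, z_zm, z_mo, z_om, z_az, z_za, z_op, z_p2, z_p3]) <;> ring1)⟩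
  · rintro ⟨h0, h⟩
    have ma1 := pB_iff.1 h0
    simp only [zc] at ma1
    have ma8 : c.a8 = 0 := by
      obtain ⟨-, -, -, -, -, -, -, e, -, -, -⟩ := pZ_iff.1 (h ⟨0, 0, 0, 0, 0, 0, 1, 0, 0, 0, 0, 0⟩ rfl)
      simp only [fm_a1, fm_a2, fm_b2, fm_a3, fm_a4, fm_b4, fm_a5, fm_a6, fm_b6, fm_a7, fm_a8, fm_b8, ma1, z_s0, z_s1, z_mz, z_zm, z_mo, z_om, z_az, z_za, z_op, z_p2, z_p3] at e
      linear_combination -e
    exact pW_iff.2 ⟨ma1, ma8⟩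

/-- `E4 = {x ∈ A | [W, x] ≤ V}` -/
theorem qb_E4 (c : Cd K) : (pE4 K) c = (pE4 K) zc ↔ (pA K) c = (pA K) zc ∧ ∀ d, (pW K) d = (pW K) zc →
    (pV K) (mul σ d c) = (pV K) (mul σ c d) := by
  constructor
  · intro h
    obtain ⟨ma1, ma2, mb2, ma4, ma6, ma7, ma8, mb8⟩ := pE4_iff.1 h
    simp only [zc] at ma1 ma2 mb2 ma4 ma6 ma7 ma8 mb8
    refine ⟨?_, fun d hd => ?_⟩
    · exact pA_iff.2 ⟨ma1, ma2, mb2, ma4, ma6, ma8, mb8⟩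
    · obtain ⟨na1, na8⟩ := pW_iff.1 hd
      simp only [zc] at na1 na8
      exact pV_iff.2 ⟨(by (try simp only [fm_a1, fm_a2, fm_b2, fm_a3, fm_a4, fm_b4, fm_a5, fm_a6, fm_b6, fm_a7, fm_a8, fm_b8, ma1, ma2, mb2, ma4, ma6, ma7, ma8, mb8, na1, na8, z_s0, z_s1, z_mz, z_zm, z_mo, z_om, z_az, z_za, z_op, z_p2, z_p3]) <;> ring1),
        (by (try simp only [fm_a1, fm_a2, fm_b2, fm_a3, fm_a4, fm_b4, fm_a5, fm_a6, fm_b6, fm_a7, fm_a8, fm_b8, ma1, ma2, mb2, ma4, ma6, ma7, ma8, mb8, na1, na8, z_s0, z_s1, z_mz, z_zm, z_mo, z_om, z_az, z_za, z_op, z_p2, z_p3]) <;> ring1),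
        (by (try simp only [fm_a1, fm_a2, fm_b2, fm_a3, fm_a4, fm_b4, fm_a5, fm_a6, fm_b6, fm_a7, fm_a8, fm_b8, ma1, ma2, mb2, ma4, ma6, ma7, ma8, mb8, na1, na8, z_s0, z_s1, z_mz, z_zm, z_mo, z_om, z_az, z_za, z_op, z_p2, z_p3]) <;> ring1),
        (by (try simp only [fm_a1, fm_a2, fm_b2, fm_a3, fm_a4, fm_b4, fm_a5, fm_a6, fm_b6, fm_a7, fm_a8, fm_b8, ma1, ma2, mb2, ma4, ma6, ma7, ma8, mb8, na1, na8, z_s0, z_s1, z_mz, z_zm, z_mo, z_om, z_az, z_za, z_op, z_p2, z_p3]) <;> ring1),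
        (by (try simp only [fm_a1, fm_a2, fm_b2, fm_a3, fm_a4, fm_b4, fm_a5, fm_a6, fm_b6, fm_a7, fm_a8, fm_b8, ma1, ma2, mb2, ma4, ma6, ma7, ma8, mb8, na1, na8, z_s0, z_s1, z_mz, z_zm, z_mo, z_om, z_az, z_za, z_op, z_p2, z_p3]) <;> ring1),
        (by (try simp only [fm_a1, fm_a2, fm_b2, fm_a3, fm_a4, fm_b4, fm_a5, fm_a6, fm_b6, fm_a7, fm_a8, fm_b8, ma1, ma2, mb2, ma4, ma6, ma7, ma8, mb8, na1, na8, z_s0, z_s1, z_mz, z_zm, z_mo, z_om, z_az, z_za, z_op, z_p2, z_p3]) <;> ring1),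
        (by (try simp only [fm_a1, fm_a2, fm_b2, fm_a3, fm_a4, fm_b4, fm_a5, fm_a6, fm_b6, fm_a7, fm_a8, fm_b8, ma1, ma2, mb2, ma4, ma6, ma7, ma8, mb8, na1, na8, z_s0, z_s1, z_mz, z_zm, z_mo, z_om, z_az, z_za, z_op, z_p2, z_p3]) <;> ring1),
        (by (try simp only [fm_a1, fm_a2, fm_b2, fm_a3, fm_a4, fm_b4, fm_a5, fm_a6, fm_b6, fm_a7, fm_a8, fm_b8, ma1, ma2, mb2, ma4, ma6, ma7, ma8, mb8, na1, na8, z_s0, z_s1, z_mz, z_zm, z_mo, z_om, z_az, z_za, z_op, z_p2, z_p3]) <;> ring1),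
        (by (try simp only [fm_a1, fm_a2, fm_b2, fm_a3, fm_a4, fm_b4, fm_a5, fm_a6, fm_b6, fm_a7, fm_a8, fm_b8, ma1, ma2, mb2, ma4, ma6, ma7, ma8, mb8, na1, na8, z_s0, z_s1, z_mz, z_zm, z_mo, z_om, z_az, z_za, z_op, z_p2, z_p3]) <;> ring1),
        (by (try simp only [fm_a1, fm_a2, fm_b2, fm_a3, fm_a4, fm_b4, fm_a5, fm_a6, fm_b6, fm_a7, fm_a8, fm_b8, ma1, ma2, mb2, ma4, ma6, ma7, ma8, mb8, na1, na8, z_s0, z_s1, z_mz, z_zm, z_mo, z_om, z_az, z_za, z_op, z_p2, z_p3]) <;> ring1)⟩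
  · rintro ⟨h0, h⟩
    obtain ⟨ma1, ma2, mb2, ma4, ma6, ma8, mb8⟩ := pA_iff.1 h0
    simp only [zc] at ma1 ma2 mb2 ma4 ma6 ma8 mb8
    have ma7 : c.a7 = 0 := by
      obtain ⟨-, -, -, -, -, e, -, -, -, -⟩ := pV_iff.1 (h ⟨0, 1, 0, 0, 0, 0, 0, 0, 0, 0, 0, 0⟩ rfl)
      simp only [fm_a1, fm_a2, fm_b2, fm_a3, fm_a4, fm_b4, fm_a5, fm_a6, fm_b6, fm_a7, fm_a8, fm_b8, ma1, ma2, mb2, ma4, ma6, ma8, mb8, z_s0, z_s1, z_mz, z_zm, z_mo, z_om, z_az, z_za, z_op, z_p2, z_p3] at e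
      linear_combination -e
    exact pE4_iff.2 ⟨ma1, ma2, mb2, ma4, ma6, ma7, ma8, mb8⟩

/-- `F = {x ∈ N | [E4, x] ≤ Z}` -/
theorem qb_F (c : Cd K) : (pF K) c = (pF K) zc ↔ (pN K) c = (pN K) zc ∧ ∀ d, (pE4 K) d = (pE4 K) zc →
    (pZ K) (mul σ d c) = (pZ K) (mul σ c d) := by
  constructor
  · intro h
    obtain ⟨ma1, ma2, ma8, mb8⟩ := pF_iff.1 h
    simp only [zc] at ma1 ma2 ma8 mb8
    refine ⟨?_, fun d hd => ?_⟩
    · exact pN_iff.2 ⟨ma1, ma2, ma8⟩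
    · obtain ⟨na1, na2, nb2, na4, na6, na7, na8, nb8⟩ := pE4_iff.1 hd
      simp only [zc] at na1 na2 nb2 na4 na6 na7 na8 nb8
      exact pZ_iff.2 ⟨(by (try simp only [fm_a1, fm_a2, fm_b2, fm_a3, fm_a4, fm_b4, fm_a5, fm_a6, fm_b6, fm_a7, fm_a8, fm_b8, ma1, ma2, ma8, mb8, na1, na2, nb2, na4, na6, na7, na8, nb8, z_s0, z_s1, z_mz, z_zm, z_mo, z_om, z_az, z_za, z_op, z_p2, z_p3]) <;> ring1),
        (by (try simp only [fm_a1, fm_a2, fm_b2, fm_a3, fm_a4, fm_b4, fm_a5, fm_a6, fm_b6, fm_a7, fm_a8, fm_b8, ma1, ma2, ma8, mb8, na1, na2, nb2, na4, na6, na7, na8, nb8, z_s0, z_s1, z_mz, z_zm, z_mo, z_om, z_az, z_za, z_op, z_p2, z_p3]) <;> ring1),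
        (by (try simp only [fm_a1, fm_a2, fm_b2, fm_a3, fm_a4, fm_b4, fm_a5, fm_a6, fm_b6, fm_a7, fm_a8, fm_b8, ma1, ma2, ma8, mb8, na1, na2, nb2, na4, na6, na7, na8, nb8, z_s0, z_s1, z_mz, z_zm, z_mo, z_om, z_az, z_za, z_op, z_p2, z_p3]) <;> ring1),
        (by (try simp only [fm_a1, fm_a2, fm_b2, fm_a3, fm_a4, fm_b4, fm_a5, fm_a6, fm_b6, fm_a7, fm_a8, fm_b8, ma1, ma2, ma8, mb8, na1, na2, nb2, na4, na6, na7, na8, nb8, z_s0, z_s1, z_mz, z_zm, z_mo, z_om, z_az, z_za, z_op, z_p2, z_p3]) <;> ring1),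
        (by (try simp only [fm_a1, fm_a2, fm_b2, fm_a3, fm_a4, fm_b4, fm_a5, fm_a6, fm_b6, fm_a7, fm_a8, fm_b8, ma1, ma2, ma8, mb8, na1, na2, nb2, na4, na6, na7, na8, nb8, z_s0, z_s1, z_mz, z_zm, z_mo, z_om, z_az, z_za, z_op, z_p2, z_p3]) <;> ring1),
        (by (try simp only [fm_a1, fm_a2, fm_b2, fm_a3, fm_a4, fm_b4, fm_a5, fm_a6, fm_b6, fm_a7, fm_a8, fm_b8, ma1, ma2, ma8, mb8, na1, na2, nb2, na4, na6, na7, na8, nb8, z_s0, z_s1, z_mz, z_zm, z_mo, z_om, z_az, z_za, z_op, z_p2, z_p3]) <;> ring1),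
        (by (try simp only [fm_a1, fm_a2, fm_b2, fm_a3, fm_a4, fm_b4, fm_a5, fm_a6, fm_b6, fm_a7, fm_a8, fm_b8, ma1, ma2, ma8, mb8, na1, na2, nb2, na4, na6, na7, na8, nb8, z_s0, z_s1, z_mz, z_zm, z_mo, z_om, z_az, z_za, z_op, z_p2, z_p3]) <;> ring1),
        (by (try simp only [fm_a1, fm_a2, fm_b2, fm_a3, fm_a4, fm_b4, fm_a5, fm_a6, fm_b6, fm_a7, fm_a8, fm_b8, ma1, ma2, ma8, mb8, na1, na2, nb2, na4, na6, na7, na8, nb8, z_s0, z_s1, z_mz, z_zm, z_mo, z_om, z_az, z_za, z_op, z_p2, z_p3]) <;> ring1),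
        (by (try simp only [fm_a1, fm_a2, fm_b2, fm_a3, fm_a4, fm_b4, fm_a5, fm_a6, fm_b6, fm_a7, fm_a8, fm_b8, ma1, ma2, ma8, mb8, na1, na2, nb2, na4, na6, na7, na8, nb8, z_s0, z_s1, z_mz, z_zm, z_mo, z_om, z_az, z_za, z_op, z_p2, z_p3]) <;> ring1),
        (by (try simp only [fm_a1, fm_a2, fm_b2, fm_a3, fm_a4, fm_b4, fm_a5, fm_a6, fm_b6, fm_a7, fm_a8, fm_b8, ma1, ma2, ma8, mb8, na1, na2, nb2, na4, na6, na7, na8, nb8, z_s0, z_s1, z_mz, z_zm, z_mo, z_om, z_az, z_za, z_op, z_p2, z_p3]) <;> ring1),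
        (by (try simp only [fm_a1, fm_a2, fm_b2, fm_a3, fm_a4, fm_b4, fm_a5, fm_a6, fm_b6, fm_a7, fm_a8, fm_b8, ma1, ma2, ma8, mb8, na1, na2, nb2, na4, na6, na7, na8, nb8, z_s0, z_s1, z_mz, z_zm, z_mo, z_om, z_az, z_za, z_op, z_p2, z_p3]) <;> ring1)⟩
  · rintro ⟨h0, h⟩
    obtain ⟨ma1, ma2, ma8⟩ := pN_iff.1 h0
    simp only [zc] at ma1 ma2 ma8
    have mb8 : c.b8 = 0 := by
      obtain ⟨-, -, -, -, -, -, -, e, -, -, -⟩ := pZ_iff.1 (h ⟨0, 0, 0, 1, 0, 0, 0, 0, 0, 0, 0, 0⟩ rfl)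
      simp only [fm_a1, fm_a2, fm_b2, fm_a3, fm_a4, fm_b4, fm_a5, fm_a6, fm_b6, fm_a7, fm_a8, fm_b8, ma1, ma2, ma8, z_s0, z_s1, z_mz, z_zm, z_mo, z_om, z_az, z_za, z_op, z_p2, z_p3] at e
      linear_combination -e
    exact pF_iff.2 ⟨ma1, ma2, ma8, mb8⟩

/-- `F1 = {x ∈ N | [A, x] ≤ Z}` -/
theorem qb_F1 (c : Cd K) : (pF1 K) c = (pF1 K) zc ↔ (pN K) c = (pN K) zc ∧ ∀ d, (pA K) d = (pA K) zc →
    (pZ K) (mul σ d c) = (pZ K) (mul σ c d) := by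
  constructor
  · intro h
    obtain ⟨ma1, ma2, ma4, ma8, mb8⟩ := pF1_iff.1 h
    simp only [zc] at ma1 ma2 ma4 ma8 mb8
    refine ⟨?_, fun d hd => ?_⟩
    · exact pN_iff.2 ⟨ma1, ma2, ma8⟩
    · obtain ⟨na1, na2, nb2, na4, na6, na8, nb8⟩ := pA_iff.1 hd
      simp only [zc] at na1 na2 nb2 na4 na6 na8 nb8
      exact pZ_iff.2 ⟨(by (try simp only [fm_a1, fm_a2, fm_b2, fm_a3, fm_a4, fm_b4, fm_a5, fm_a6, fm_b6, fm_a7, fm_a8, fm_b8, ma1, ma2, ma4, ma8, mb8, na1, na2, nb2, na4, na6, na8, nb8, z_s0, z_s1, z_mz, z_zm, z_mo, z_om, z_az, z_za, z_op, z_p2, z_p3]) <;> ring1),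
        (by (try simp only [fm_a1, fm_a2, fm_b2, fm_a3, fm_a4, fm_b4, fm_a5, fm_a6, fm_b6, fm_a7, fm_a8, fm_b8, ma1, ma2, ma4, ma8, mb8, na1, na2, nb2, na4, na6, na8, nb8, z_s0, z_s1, z_mz, z_zm, z_mo, z_om, z_az, z_za, z_op, z_p2, z_p3]) <;> ring1),
        (by (try simp only [fm_a1, fm_a2, fm_b2, fm_a3, fm_a4, fm_b4, fm_a5, fm_a6, fm_b6, fm_a7, fm_a8, fm_b8, ma1, ma2, ma4, ma8, mb8, na1, na2, nb2, na4, na6, na8, nb8, z_s0, z_s1, z_mz, z_zm, z_mo, z_om, z_az, z_za, z_op, z_p2, z_p3]) <;> ring1),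
        (by (try simp only [fm_a1, fm_a2, fm_b2, fm_a3, fm_a4, fm_b4, fm_a5, fm_a6, fm_b6, fm_a7, fm_a8, fm_b8, ma1, ma2, ma4, ma8, mb8, na1, na2, nb2, na4, na6, na8, nb8, z_s0, z_s1, z_mz, z_zm, z_mo, z_om, z_az, z_za, z_op, z_p2, z_p3]) <;> ring1),
        (by (try simp only [fm_a1, fm_a2, fm_b2, fm_a3, fm_a4, fm_b4, fm_a5, fm_a6, fm_b6, fm_a7, fm_a8, fm_b8, ma1, ma2, ma4, ma8, mb8, na1, na2, nb2, na4, na6, na8, nb8, z_s0, z_s1, z_mz, z_zm, z_mo, z_om, z_az, z_za, z_op, z_p2, z_p3]) <;> ring1),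
        (by (try simp only [fm_a1, fm_a2, fm_b2, fm_a3, fm_a4, fm_b4, fm_a5, fm_a6, fm_b6, fm_a7, fm_a8, fm_b8, ma1, ma2, ma4, ma8, mb8, na1, na2, nb2, na4, na6, na8, nb8, z_s0, z_s1, z_mz, z_zm, z_mo, z_om, z_az, z_za, z_op, z_p2, z_p3]) <;> ring1),
        (by (try simp only [fm_a1, fm_a2, fm_b2, fm_a3, fm_a4, fm_b4, fm_a5, fm_a6, fm_b6, fm_a7, fm_a8, fm_b8, ma1, ma2, ma4, ma8, mb8, na1, na2, nb2, na4, na6, na8, nb8, z_s0, z_s1, z_mz, z_zm, z_mo, z_om, z_az, z_za, z_op, z_p2, z_p3]) <;> ring1),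
        (by (try simp only [fm_a1, fm_a2, fm_b2, fm_a3, fm_a4, fm_b4, fm_a5, fm_a6, fm_b6, fm_a7, fm_a8, fm_b8, ma1, ma2, ma4, ma8, mb8, na1, na2, nb2, na4, na6, na8, nb8, z_s0, z_s1, z_mz, z_zm, z_mo, z_om, z_az, z_za, z_op, z_p2, z_p3]) <;> ring1),
        (by (try simp only [fm_a1, fm_a2, fm_b2, fm_a3, fm_a4, fm_b4, fm_a5, fm_a6, fm_b6, fm_a7, fm_a8, fm_b8, ma1, ma2, ma4, ma8, mb8, na1, na2, nb2, na4, na6, na8, nb8, z_s0, z_s1, z_mz, z_zm, z_mo, z_om, z_az, z_za, z_op, z_p2, z_p3]) <;> ring1),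
        (by (try simp only [fm_a1, fm_a2, fm_b2, fm_a3, fm_a4, fm_b4, fm_a5, fm_a6, fm_b6, fm_a7, fm_a8, fm_b8, ma1, ma2, ma4, ma8, mb8, na1, na2, nb2, na4, na6, na8, nb8, z_s0, z_s1, z_mz, z_zm, z_mo, z_om, z_az, z_za, z_op, z_p2, z_p3]) <;> ring1),
        (by (try simp only [fm_a1, fm_a2, fm_b2, fm_a3, fm_a4, fm_b4, fm_a5, fm_a6, fm_b6, fm_a7, fm_a8, fm_b8, ma1, ma2, ma4, ma8, mb8, na1, na2, nb2, na4, na6, na8, nb8, z_s0, z_s1, z_mz, z_zm, z_mo, z_om, z_az, z_za, z_op, z_p2, z_p3]) <;> ring1)⟩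
  · rintro ⟨h0, h⟩
    obtain ⟨ma1, ma2, ma8⟩ := pN_iff.1 h0
    simp only [zc] at ma1 ma2 ma8
    have mb8 : c.b8 = 0 := by
      obtain ⟨-, -, -, -, -, -, -, e, -, -, -⟩ := pZ_iff.1 (h ⟨0, 0, 0, 1, 0, 0, 0, 0, 0, 0, 0, 0⟩ rfl)
      simp only [fm_a1, fm_a2, fm_b2, fm_a3, fm_a4, fm_b4, fm_a5, fm_a6, fm_b6, fm_a7, fm_a8, fm_b8, ma1, ma2, ma8, z_s0, z_s1, z_mz, z_zm, z_mo, z_om, z_az, z_za, z_op, z_p2, z_p3] at e
      linear_combination -e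
    have ma4 : c.a4 = 0 := by
      obtain ⟨-, -, -, -, -, -, -, e, -, -, -⟩ := pZ_iff.1 (h ⟨0, 0, 0, 0, 0, 0, 0, 0, 0, 1, 0, 0⟩ rfl)
      simp only [fm_a1, fm_a2, fm_b2, fm_a3, fm_a4, fm_b4, fm_a5, fm_a6, fm_b6, fm_a7, fm_a8, fm_b8, ma1, ma2, ma8, mb8, z_s0, z_s1, z_mz, z_zm, z_mo, z_om, z_az, z_za, z_op, z_p2, z_p3] at e
      linear_combination e
    exact pF1_iff.2 ⟨ma1, ma2, ma4, ma8, mb8⟩

/-- `F0 = {x ∈ F1 | [E4, x] ≤ 1}` -/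
theorem qb_F0 (c : Cd K) : (pF0 K) c = (pF0 K) zc ↔ (pF1 K) c = (pF1 K) zc ∧ ∀ d, (pE4 K) d = (pE4 K) zc →
    (fun c : Cd K => c) (mul σ d c) = (fun c : Cd K => c) (mul σ c d) := by
  constructor
  · intro h
    obtain ⟨ma1, ma2, ma4, ma6, ma8, mb8⟩ := pF0_iff.1 h
    simp only [zc] at ma1 ma2 ma4 ma6 ma8 mb8
    refine ⟨?_, fun d hd => ?_⟩
    · exact pF1_iff.2 ⟨ma1, ma2, ma4, ma8, mb8⟩
    · obtain ⟨na1, na2, nb2, na4, na6, na7, na8, nb8⟩ := pE4_iff.1 hd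
      simp only [zc] at na1 na2 nb2 na4 na6 na7 na8 nb8
      exact p1_iff.2 ⟨(by (try simp only [fm_a1, fm_a2, fm_b2, fm_a3, fm_a4, fm_b4, fm_a5, fm_a6, fm_b6, fm_a7, fm_a8, fm_b8, ma1, ma2, ma4, ma6, ma8, mb8, na1, na2, nb2, na4, na6, na7, na8, nb8, z_s0, z_s1, z_mz, z_zm, z_mo, z_om, z_az, z_za, z_op, z_p2, z_p3]) <;> ring1),
        (by (try simp only [fm_a1, fm_a2, fm_b2, fm_a3, fm_a4, fm_b4, fm_a5, fm_a6, fm_b6, fm_a7, fm_a8, fm_b8, ma1, ma2, ma4, ma6, ma8, mb8, na1, na2, nb2, na4, na6, na7, na8, nb8, z_s0, z_s1, z_mz, z_zm, z_mo, z_om, z_az, z_za, z_op, z_p2, z_p3]) <;> ring1),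
        (by (try simp only [fm_a1, fm_a2, fm_b2, fm_a3, fm_a4, fm_b4, fm_a5, fm_a6, fm_b6, fm_a7, fm_a8, fm_b8, ma1, ma2, ma4, ma6, ma8, mb8, na1, na2, nb2, na4, na6, na7, na8, nb8, z_s0, z_s1, z_mz, z_zm, z_mo, z_om, z_az, z_za, z_op, z_p2, z_p3]) <;> ring1),
        (by (try simp only [fm_a1, fm_a2, fm_b2, fm_a3, fm_a4, fm_b4, fm_a5, fm_a6, fm_b6, fm_a7, fm_a8, fm_b8, ma1, ma2, ma4, ma6, ma8, mb8, na1, na2, nb2, na4, na6, na7, na8, nb8, z_s0, z_s1, z_mz, z_zm, z_mo, z_om, z_az, z_za, z_op, z_p2, z_p3]) <;> ring1),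
        (by (try simp only [fm_a1, fm_a2, fm_b2, fm_a3, fm_a4, fm_b4, fm_a5, fm_a6, fm_b6, fm_a7, fm_a8, fm_b8, ma1, ma2, ma4, ma6, ma8, mb8, na1, na2, nb2, na4, na6, na7, na8, nb8, z_s0, z_s1, z_mz, z_zm, z_mo, z_om, z_az, z_za, z_op, z_p2, z_p3]) <;> ring1),
        (by (try simp only [fm_a1, fm_a2, fm_b2, fm_a3, fm_a4, fm_b4, fm_a5, fm_a6, fm_b6, fm_a7, fm_a8, fm_b8, ma1, ma2, ma4, ma6, ma8, mb8, na1, na2, nb2, na4, na6, na7, na8, nb8, z_s0, z_s1, z_mz, z_zm, z_mo, z_om, z_az, z_za, z_op, z_p2, z_p3]) <;> ring1),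
        (by (try simp only [fm_a1, fm_a2, fm_b2, fm_a3, fm_a4, fm_b4, fm_a5, fm_a6, fm_b6, fm_a7, fm_a8, fm_b8, ma1, ma2, ma4, ma6, ma8, mb8, na1, na2, nb2, na4, na6, na7, na8, nb8, z_s0, z_s1, z_mz, z_zm, z_mo, z_om, z_az, z_za, z_op, z_p2, z_p3]) <;> ring1),
        (by (try simp only [fm_a1, fm_a2, fm_b2, fm_a3, fm_a4, fm_b4, fm_a5, fm_a6, fm_b6, fm_a7, fm_a8, fm_b8, ma1, ma2, ma4, ma6, ma8, mb8, na1, na2, nb2, na4, na6, na7, na8, nb8, z_s0, z_s1, z_mz, z_zm, z_mo, z_om, z_az, z_za, z_op, z_p2, z_p3]) <;> ring1),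
        (by (try simp only [fm_a1, fm_a2, fm_b2, fm_a3, fm_a4, fm_b4, fm_a5, fm_a6, fm_b6, fm_a7, fm_a8, fm_b8, ma1, ma2, ma4, ma6, ma8, mb8, na1, na2, nb2, na4, na6, na7, na8, nb8, z_s0, z_s1, z_mz, z_zm, z_mo, z_om, z_az, z_za, z_op, z_p2, z_p3]) <;> ring1),
        (by (try simp only [fm_a1, fm_a2, fm_b2, fm_a3, fm_a4, fm_b4, fm_a5, fm_a6, fm_b6, fm_a7, fm_a8, fm_b8, ma1, ma2, ma4, ma6, ma8, mb8, na1, na2, nb2, na4, na6, na7, na8, nb8, z_s0, z_s1, z_mz, z_zm, z_mo, z_om, z_az, z_za, z_op, z_p2, z_p3]) <;> ring1),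
        (by (try simp only [fm_a1, fm_a2, fm_b2, fm_a3, fm_a4, fm_b4, fm_a5, fm_a6, fm_b6, fm_a7, fm_a8, fm_b8, ma1, ma2, ma4, ma6, ma8, mb8, na1, na2, nb2, na4, na6, na7, na8, nb8, z_s0, z_s1, z_mz, z_zm, z_mo, z_om, z_az, z_za, z_op, z_p2, z_p3]) <;> ring1),
        (by (try simp only [fm_a1, fm_a2, fm_b2, fm_a3, fm_a4, fm_b4, fm_a5, fm_a6, fm_b6, fm_a7, fm_a8, fm_b8, ma1, ma2, ma4, ma6, ma8, mb8, na1, na2, nb2, na4, na6, na7, na8, nb8, z_s0, z_s1, z_mz, z_zm, z_mo, z_om, z_az, z_za, z_op, z_p2, z_p3]) <;> ring1)⟩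
  · rintro ⟨h0, h⟩
    obtain ⟨ma1, ma2, ma4, ma8, mb8⟩ := pF1_iff.1 h0
    simp only [zc] at ma1 ma2 ma4 ma8 mb8
    have ma6 : c.a6 = 0 := by
      obtain ⟨-, -, -, -, -, e, -, -, -, -, -, -⟩ := p1_iff.1 (h ⟨0, 0, 0, 1, 0, 0, 0, 0, 0, 0, 0, 0⟩ rfl)
      simp only [fm_a1, fm_a2, fm_b2, fm_a3, fm_a4, fm_b4, fm_a5, fm_a6, fm_b6, fm_a7, fm_a8, fm_b8, ma1, ma2, ma4, ma8, mb8, z_s0, z_s1, z_mz, z_zm, z_mo, z_om, z_az, z_za, z_op, z_p2, z_p3] at e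
      linear_combination -e
    exact pF0_iff.2 ⟨ma1, ma2, ma4, ma6, ma8, mb8⟩

/-- `Z = {x ∈ Q | [Q, x] ≤ 1}` -/
theorem qa_Z (c : Cd K) : (pZ K) c = (pZ K) zc ↔ (pQ K) c = (pQ K) zc ∧ ∀ d, (pQ K) d = (pQ K) zc →
    (fun c : Cd K => c) (mul σ d c) = (fun c : Cd K => c) (mul σ c d) := by
  constructor
  · intro h
    obtain ⟨ma1, ma2, mb2, ma3, ma4, h88⟩ := pZ_iff.1 h
    revert h88; rintro ⟨ma5, ma6, mb6, ma7, ma8, mb8⟩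
    simp only [zc] at ma1 ma2 mb2 ma3 ma4 ma5 ma6 mb6 ma7 ma8 mb8
    refine ⟨?_, fun d hd => ?_⟩
    · exact pQ_iff.2 ⟨ma8, mb8⟩
    · obtain ⟨na8, nb8⟩ := pQ_iff.1 hd
      simp only [zc] at na8 nb8
      exact p1_iff.2 ⟨(by (try simp only [fm_a1, fm_a2, fm_b2, fm_a3, fm_a4, fm_b4, fm_a5, fm_a6, fm_b6, fm_a7, fm_a8, fm_b8, ma1, ma2, mb2, ma3, ma4, ma5, ma6, mb6, ma7, ma8, mb8, na8, nb8, z_s0, z_s1, z_mz, z_zm, z_mo, z_om, z_az, z_za, z_op, z_p2, z_p3]) <;> ring1),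
        (by (try simp only [fm_a1, fm_a2, fm_b2, fm_a3, fm_a4, fm_b4, fm_a5, fm_a6, fm_b6, fm_a7, fm_a8, fm_b8, ma1, ma2, mb2, ma3, ma4, ma5, ma6, mb6, ma7, ma8, mb8, na8, nb8, z_s0, z_s1, z_mz, z_zm, z_mo, z_om, z_az, z_za, z_op, z_p2, z_p3]) <;> ring1),
        (by (try simp only [fm_a1, fm_a2, fm_b2, fm_a3, fm_a4, fm_b4, fm_a5, fm_a6, fm_b6, fm_a7, fm_a8, fm_b8, ma1, ma2, mb2, ma3, ma4, ma5, ma6, mb6, ma7, ma8, mb8, na8, nb8, z_s0, z_s1, z_mz, z_zm, z_mo, z_om, z_az, z_za, z_op, z_p2, z_p3]) <;> ring1),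
        (by (try simp only [fm_a1, fm_a2, fm_b2, fm_a3, fm_a4, fm_b4, fm_a5, fm_a6, fm_b6, fm_a7, fm_a8, fm_b8, ma1, ma2, mb2, ma3, ma4, ma5, ma6, mb6, ma7, ma8, mb8, na8, nb8, z_s0, z_s1, z_mz, z_zm, z_mo, z_om, z_az, z_za, z_op, z_p2, z_p3]) <;> ring1),
        (by (try simp only [fm_a1, fm_a2, fm_b2, fm_a3, fm_a4, fm_b4, fm_a5, fm_a6, fm_b6, fm_a7, fm_a8, fm_b8, ma1, ma2, mb2, ma3, ma4, ma5, ma6, mb6, ma7, ma8, mb8, na8, nb8, z_s0, z_s1, z_mz, z_zm, z_mo, z_om, z_az, z_za, z_op, z_p2, z_p3]) <;> ring1),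
        (by (try simp only [fm_a1, fm_a2, fm_b2, fm_a3, fm_a4, fm_b4, fm_a5, fm_a6, fm_b6, fm_a7, fm_a8, fm_b8, ma1, ma2, mb2, ma3, ma4, ma5, ma6, mb6, ma7, ma8, mb8, na8, nb8, z_s0, z_s1, z_mz, z_zm, z_mo, z_om, z_az, z_za, z_op, z_p2, z_p3]) <;> ring1),
        (by (try simp only [fm_a1, fm_a2, fm_b2, fm_a3, fm_a4, fm_b4, fm_a5, fm_a6, fm_b6, fm_a7, fm_a8, fm_b8, ma1, ma2, mb2, ma3, ma4, ma5, ma6, mb6, ma7, ma8, mb8, na8, nb8, z_s0, z_s1, z_mz, z_zm, z_mo, z_om, z_az, z_za, z_op, z_p2, z_p3]) <;> ring1),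
        (by (try simp only [fm_a1, fm_a2, fm_b2, fm_a3, fm_a4, fm_b4, fm_a5, fm_a6, fm_b6, fm_a7, fm_a8, fm_b8, ma1, ma2, mb2, ma3, ma4, ma5, ma6, mb6, ma7, ma8, mb8, na8, nb8, z_s0, z_s1, z_mz, z_zm, z_mo, z_om, z_az, z_za, z_op, z_p2, z_p3]) <;> ring1),
        (by (try simp only [fm_a1, fm_a2, fm_b2, fm_a3, fm_a4, fm_b4, fm_a5, fm_a6, fm_b6, fm_a7, fm_a8, fm_b8, ma1, ma2, mb2, ma3, ma4, ma5, ma6, mb6, ma7, ma8, mb8, na8, nb8, z_s0, z_s1, z_mz, z_zm, z_mo, z_om, z_az, z_za, z_op, z_p2, z_p3]) <;> ring1),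
        (by (try simp only [fm_a1, fm_a2, fm_b2, fm_a3, fm_a4, fm_b4, fm_a5, fm_a6, fm_b6, fm_a7, fm_a8, fm_b8, ma1, ma2, mb2, ma3, ma4, ma5, ma6, mb6, ma7, ma8, mb8, na8, nb8, z_s0, z_s1, z_mz, z_zm, z_mo, z_om, z_az, z_za, z_op, z_p2, z_p3]) <;> ring1),
        (by (try simp only [fm_a1, fm_a2, fm_b2, fm_a3, fm_a4, fm_b4, fm_a5, fm_a6, fm_b6, fm_a7, fm_a8, fm_b8, ma1, ma2, mb2, ma3, ma4, ma5, ma6, mb6, ma7, ma8, mb8, na8, nb8, z_s0, z_s1, z_mz, z_zm, z_mo, z_om, z_az, z_za, z_op, z_p2, z_p3]) <;> ring1),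
        (by (try simp only [fm_a1, fm_a2, fm_b2, fm_a3, fm_a4, fm_b4, fm_a5, fm_a6, fm_b6, fm_a7, fm_a8, fm_b8, ma1, ma2, mb2, ma3, ma4, ma5, ma6, mb6, ma7, ma8, mb8, na8, nb8, z_s0, z_s1, z_mz, z_zm, z_mo, z_om, z_az, z_za, z_op, z_p2, z_p3]) <;> ring1)⟩
  · rintro ⟨h0, h⟩
    obtain ⟨ma8, mb8⟩ := pQ_iff.1 h0
    simp only [zc] at ma8 mb8
    have ma7 : c.a7 = 0 := by
      obtain ⟨-, -, -, -, -, h88⟩ := p1_iff.1 (h ⟨1, 0, 0, 0, 0, 0, 0, 0, 0, 0, 0, 0⟩ rfl)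
      revert h88; rintro ⟨-, e, -, -, -, h88⟩
      revert h88; rintro ⟨-, -⟩
      simp only [fm_a1, fm_a2, fm_b2, fm_a3, fm_a4, fm_b4, fm_a5, fm_a6, fm_b6, fm_a7, fm_a8, fm_b8, ma8, mb8, z_s0, z_s1, z_mz, z_zm, z_mo, z_om, z_az, z_za, z_op, z_p2, z_p3] at e
      exact (map_eq_zero σ).1 (by linear_combination -e)
    have ma6 : c.a6 = 0 := by
      obtain ⟨-, -, -, e, -, h88⟩ := p1_iff.1 (h ⟨1, 0, 0, 0, 0, 0, 0, 0, 0, 0, 0, 0⟩ rfl)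
      revert h88; rintro ⟨-, -, -, -, -, h88⟩
      revert h88; rintro ⟨-, -⟩
      simp only [fm_a1, fm_a2, fm_b2, fm_a3, fm_a4, fm_b4, fm_a5, fm_a6, fm_b6, fm_a7, fm_a8, fm_b8, ma8, mb8, ma7, z_s0, z_s1, z_mz, z_zm, z_mo, z_om, z_az, z_za, z_op, z_p2, z_p3] at e
      exact (map_eq_zero σ).1 (by linear_combination -e)
    have ma4 : c.a4 = 0 := by
      obtain ⟨-, -, e, -, -, h88⟩ := p1_iff.1 (h ⟨1, 0, 0, 0, 0, 0, 0, 0, 0, 0, 0, 0⟩ rfl)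
      revert h88; rintro ⟨-, -, -, -, -, h88⟩
      revert h88; rintro ⟨-, -⟩
      simp only [fm_a1, fm_a2, fm_b2, fm_a3, fm_a4, fm_b4, fm_a5, fm_a6, fm_b6, fm_a7, fm_a8, fm_b8, ma8, mb8, ma7, ma6, z_s0, z_s1, z_mz, z_zm, z_mo, z_om, z_az, z_za, z_op, z_p2, z_p3] at e
      linear_combination -e
    have mb6 : c.b6 = 0 := by
      obtain ⟨-, -, -, -, -, h88⟩ := p1_iff.1 (h ⟨1, 0, 0, 0, 0, 0, 0, 0, 0, 0, 0, 0⟩ rfl)
      revert h88; rintro ⟨e, -, -, -, -, h88⟩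
      revert h88; rintro ⟨-, -⟩
      simp only [fm_a1, fm_a2, fm_b2, fm_a3, fm_a4, fm_b4, fm_a5, fm_a6, fm_b6, fm_a7, fm_a8, fm_b8, ma8, mb8, ma7, ma6, ma4, z_s0, z_s1, z_mz, z_zm, z_mo, z_om, z_az, z_za, z_op, z_p2, z_p3] at e
      linear_combination -e
    have ma5 : c.a5 = 0 := by
      obtain ⟨-, -, -, -, -, h88⟩ := p1_iff.1 (h ⟨0, 1, 0, 0, 0, 0, 0, 0, 0, 0, 0, 0⟩ rfl)
      revert h88; rintro ⟨e, -, -, -, -, h88⟩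
      revert h88; rintro ⟨-, -⟩
      simp only [fm_a1, fm_a2, fm_b2, fm_a3, fm_a4, fm_b4, fm_a5, fm_a6, fm_b6, fm_a7, fm_a8, fm_b8, ma8, mb8, ma7, ma6, ma4, mb6, z_s0, z_s1, z_mz, z_zm, z_mo, z_om, z_az, z_za, z_op, z_p2, z_p3] at e
      linear_combination -e
    have ma1 : c.a1 = 0 := by
      obtain ⟨-, -, e, -, -, h88⟩ := p1_iff.1 (h ⟨0, 0, 0, 0, 1, 0, 0, 0, 0, 0, 0, 0⟩ rfl)
      revert h88; rintro ⟨-, -, -, -, -, h88⟩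
      revert h88; rintro ⟨-, -⟩
      simp only [fm_a1, fm_a2, fm_b2, fm_a3, fm_a4, fm_b4, fm_a5, fm_a6, fm_b6, fm_a7, fm_a8, fm_b8, ma8, mb8, ma7, ma6, ma4, mb6, ma5, z_s0, z_s1, z_mz, z_zm, z_mo, z_om, z_az, z_za, z_op, z_p2, z_p3] at e
      linear_combination e
    have ma2 : c.a2 = 0 := by
      obtain ⟨-, -, -, e, -, h88⟩ := p1_iff.1 (h ⟨0, 0, 0, 0, 1, 0, 0, 0, 0, 0, 0, 0⟩ rfl)
      revert h88; rintro ⟨-, -, -, -, -, h88⟩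
      revert h88; rintro ⟨-, -⟩
      simp only [fm_a1, fm_a2, fm_b2, fm_a3, fm_a4, fm_b4, fm_a5, fm_a6, fm_b6, fm_a7, fm_a8, fm_b8, ma8, mb8, ma7, ma6, ma4, mb6, ma5, ma1, z_s0, z_s1, z_mz, z_zm, z_mo, z_om, z_az, z_za, z_op, z_p2, z_p3] at e
      linear_combination e
    have ma3 : c.a3 = 0 := by
      obtain ⟨-, -, -, -, -, h88⟩ := p1_iff.1 (h ⟨0, 0, 0, 0, 0, 0, 0, 1, 0, 0, 0, 0⟩ rfl)
      revert h88; rintro ⟨e, -, -, -, -, h88⟩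
      revert h88; rintro ⟨-, -⟩
      simp only [fm_a1, fm_a2, fm_b2, fm_a3, fm_a4, fm_b4, fm_a5, fm_a6, fm_b6, fm_a7, fm_a8, fm_b8, ma8, mb8, ma7, ma6, ma4, mb6, ma5, ma1, ma2, z_s0, z_s1, z_mz, z_zm, z_mo, z_om, z_az, z_za, z_op, z_p2, z_p3] at e
      linear_combination e
    have mb2 : c.b2 = 0 := by
      obtain ⟨-, -, -, -, -, h88⟩ := p1_iff.1 (h ⟨0, 0, 0, 0, 0, 0, 0, 0, 0, 1, 0, 0⟩ rfl)
      revert h88; rintro ⟨e, -, -, -, -, h88⟩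
      revert h88; rintro ⟨-, -⟩
      simp only [fm_a1, fm_a2, fm_b2, fm_a3, fm_a4, fm_b4, fm_a5, fm_a6, fm_b6, fm_a7, fm_a8, fm_b8, ma8, mb8, ma7, ma6, ma4, mb6, ma5, ma1, ma2, ma3, z_s0, z_s1, z_mz, z_zm, z_mo, z_om, z_az, z_za, z_op, z_p2, z_p3] at e
      linear_combination e
    exact pZ_iff.2 ⟨ma1, ma2, mb2, ma3, ma4, ma5, ma6, mb6, ma7, ma8, mb8⟩

/-- `E = {x ∈ Q | [Q, x] ≤ Z}` -/
theorem qa_E (c : Cd K) : (pE K) c = (pE K) zc ↔ (pQ K) c = (pQ K) zc ∧ ∀ d, (pQ K) d = (pQ K) zc →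
    (pZ K) (mul σ d c) = (pZ K) (mul σ c d) := by
  constructor
  · intro h
    obtain ⟨ma1, ma2, ma4, ma6, ma7, ma8, mb8⟩ := pE_iff.1 h
    simp only [zc] at ma1 ma2 ma4 ma6 ma7 ma8 mb8
    refine ⟨?_, fun d hd => ?_⟩
    · exact pQ_iff.2 ⟨ma8, mb8⟩
    · obtain ⟨na8, nb8⟩ := pQ_iff.1 hd
      simp only [zc] at na8 nb8
      exact pZ_iff.2 ⟨(by (try simp only [fm_a1, fm_a2, fm_b2, fm_a3, fm_a4, fm_b4, fm_a5, fm_a6, fm_b6, fm_a7, fm_a8, fm_b8, ma1, ma2, ma4, ma6, ma7, ma8, mb8, na8, nb8, z_s0, z_s1, z_mz, z_zm, z_mo, z_om, z_az, z_za, z_op, z_p2, z_p3]) <;> ring1),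
        (by (try simp only [fm_a1, fm_a2, fm_b2, fm_a3, fm_a4, fm_b4, fm_a5, fm_a6, fm_b6, fm_a7, fm_a8, fm_b8, ma1, ma2, ma4, ma6, ma7, ma8, mb8, na8, nb8, z_s0, z_s1, z_mz, z_zm, z_mo, z_om, z_az, z_za, z_op, z_p2, z_p3]) <;> ring1),
        (by (try simp only [fm_a1, fm_a2, fm_b2, fm_a3, fm_a4, fm_b4, fm_a5, fm_a6, fm_b6, fm_a7, fm_a8, fm_b8, ma1, ma2, ma4, ma6, ma7, ma8, mb8, na8, nb8, z_s0, z_s1, z_mz, z_zm, z_mo, z_om, z_az, z_za, z_op, z_p2, z_p3]) <;> ring1),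
        (by (try simp only [fm_a1, fm_a2, fm_b2, fm_a3, fm_a4, fm_b4, fm_a5, fm_a6, fm_b6, fm_a7, fm_a8, fm_b8, ma1, ma2, ma4, ma6, ma7, ma8, mb8, na8, nb8, z_s0, z_s1, z_mz, z_zm, z_mo, z_om, z_az, z_za, z_op, z_p2, z_p3]) <;> ring1),
        (by (try simp only [fm_a1, fm_a2, fm_b2, fm_a3, fm_a4, fm_b4, fm_a5, fm_a6, fm_b6, fm_a7, fm_a8, fm_b8, ma1, ma2, ma4, ma6, ma7, ma8, mb8, na8, nb8, z_s0, z_s1, z_mz, z_zm, z_mo, z_om, z_az, z_za, z_op, z_p2, z_p3]) <;> ring1),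
        (by (try simp only [fm_a1, fm_a2, fm_b2, fm_a3, fm_a4, fm_b4, fm_a5, fm_a6, fm_b6, fm_a7, fm_a8, fm_b8, ma1, ma2, ma4, ma6, ma7, ma8, mb8, na8, nb8, z_s0, z_s1, z_mz, z_zm, z_mo, z_om, z_az, z_za, z_op, z_p2, z_p3]) <;> ring1),
        (by (try simp only [fm_a1, fm_a2, fm_b2, fm_a3, fm_a4, fm_b4, fm_a5, fm_a6, fm_b6, fm_a7, fm_a8, fm_b8, ma1, ma2, ma4, ma6, ma7, ma8, mb8, na8, nb8, z_s0, z_s1, z_mz, z_zm, z_mo, z_om, z_az, z_za, z_op, z_p2, z_p3]) <;> ring1),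
        (by (try simp only [fm_a1, fm_a2, fm_b2, fm_a3, fm_a4, fm_b4, fm_a5, fm_a6, fm_b6, fm_a7, fm_a8, fm_b8, ma1, ma2, ma4, ma6, ma7, ma8, mb8, na8, nb8, z_s0, z_s1, z_mz, z_zm, z_mo, z_om, z_az, z_za, z_op, z_p2, z_p3]) <;> ring1),
        (by (try simp only [fm_a1, fm_a2, fm_b2, fm_a3, fm_a4, fm_b4, fm_a5, fm_a6, fm_b6, fm_a7, fm_a8, fm_b8, ma1, ma2, ma4, ma6, ma7, ma8, mb8, na8, nb8, z_s0, z_s1, z_mz, z_zm, z_mo, z_om, z_az, z_za, z_op, z_p2, z_p3]) <;> ring1),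
        (by (try simp only [fm_a1, fm_a2, fm_b2, fm_a3, fm_a4, fm_b4, fm_a5, fm_a6, fm_b6, fm_a7, fm_a8, fm_b8, ma1, ma2, ma4, ma6, ma7, ma8, mb8, na8, nb8, z_s0, z_s1, z_mz, z_zm, z_mo, z_om, z_az, z_za, z_op, z_p2, z_p3]) <;> ring1),
        (by (try simp only [fm_a1, fm_a2, fm_b2, fm_a3, fm_a4, fm_b4, fm_a5, fm_a6, fm_b6, fm_a7, fm_a8, fm_b8, ma1, ma2, ma4, ma6, ma7, ma8, mb8, na8, nb8, z_s0, z_s1, z_mz, z_zm, z_mo, z_om, z_az, z_za, z_op, z_p2, z_p3]) <;> ring1)⟩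
  · rintro ⟨h0, h⟩
    obtain ⟨ma8, mb8⟩ := pQ_iff.1 h0
    simp only [zc] at ma8 mb8
    have ma7 : c.a7 = 0 := by
      obtain ⟨-, -, -, -, -, e, -, -, -, -, -⟩ := pZ_iff.1 (h ⟨1, 0, 0, 0, 0, 0, 0, 0, 0, 0, 0, 0⟩ rfl)
      simp only [fm_a1, fm_a2, fm_b2, fm_a3, fm_a4, fm_b4, fm_a5, fm_a6, fm_b6, fm_a7, fm_a8, fm_b8, ma8, mb8, z_s0, z_s1, z_mz, z_zm, z_mo, z_om, z_az, z_za, z_op, z_p2, z_p3] at e
      exact (map_eq_zero σ).1 (by linear_combination -e)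
    have ma6 : c.a6 = 0 := by
      obtain ⟨-, -, -, e, -, -, -, -, -, -, -⟩ := pZ_iff.1 (h ⟨1, 0, 0, 0, 0, 0, 0, 0, 0, 0, 0, 0⟩ rfl)
      simp only [fm_a1, fm_a2, fm_b2, fm_a3, fm_a4, fm_b4, fm_a5, fm_a6, fm_b6, fm_a7, fm_a8, fm_b8, ma8, mb8, ma7, z_s0, z_s1, z_mz, z_zm, z_mo, z_om, z_az, z_za, z_op, z_p2, z_p3] at e
      exact (map_eq_zero σ).1 (by linear_combination -e)
    have ma4 : c.a4 = 0 := by
      obtain ⟨-, -, e, -, -, -, -, -, -, -, -⟩ := pZ_iff.1 (h ⟨1, 0, 0, 0, 0, 0, 0, 0, 0, 0, 0, 0⟩ rfl)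
      simp only [fm_a1, fm_a2, fm_b2, fm_a3, fm_a4, fm_b4, fm_a5, fm_a6, fm_b6, fm_a7, fm_a8, fm_b8, ma8, mb8, ma7, ma6, z_s0, z_s1, z_mz, z_zm, z_mo, z_om, z_az, z_za, z_op, z_p2, z_p3] at e
      linear_combination -e
    have ma1 : c.a1 = 0 := by
      obtain ⟨-, -, e, -, -, -, -, -, -, -, -⟩ := pZ_iff.1 (h ⟨0, 0, 0, 0, 1, 0, 0, 0, 0, 0, 0, 0⟩ rfl)
      simp only [fm_a1, fm_a2, fm_b2, fm_a3, fm_a4, fm_b4, fm_a5, fm_a6, fm_b6, fm_a7, fm_a8, fm_b8, ma8, mb8, ma7, ma6, ma4, z_s0, z_s1, z_mz, z_zm, z_mo, z_om, z_az, z_za, z_op, z_p2, z_p3] at e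
      linear_combination e
    have ma2 : c.a2 = 0 := by
      obtain ⟨-, -, -, e, -, -, -, -, -, -, -⟩ := pZ_iff.1 (h ⟨0, 0, 0, 0, 1, 0, 0, 0, 0, 0, 0, 0⟩ rfl)
      simp only [fm_a1, fm_a2, fm_b2, fm_a3, fm_a4, fm_b4, fm_a5, fm_a6, fm_b6, fm_a7, fm_a8, fm_b8, ma8, mb8, ma7, ma6, ma4, ma1, z_s0, z_s1, z_mz, z_zm, z_mo, z_om, z_az, z_za, z_op, z_p2, z_p3] at e
      linear_combination e
    exact pE_iff.2 ⟨ma1, ma2, ma4, ma6, ma7, ma8, mb8⟩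

/-- `D = {x ∈ Q | [E, x] ≤ 1}` -/
theorem qa_D (c : Cd K) : (pD K) c = (pD K) zc ↔ (pQ K) c = (pQ K) zc ∧ ∀ d, (pE K) d = (pE K) zc →
    (fun c : Cd K => c) (mul σ d c) = (fun c : Cd K => c) (mul σ c d) := by
  constructor
  · intro h
    obtain ⟨ma1, ma2, ma6, ma7, ma8, mb8⟩ := pD_iff.1 h
    simp only [zc] at ma1 ma2 ma6 ma7 ma8 mb8
    refine ⟨?_, fun d hd => ?_⟩
    · exact pQ_iff.2 ⟨ma8, mb8⟩
    · obtain ⟨na1, na2, na4, na6, na7, na8, nb8⟩ := pE_iff.1 hd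
      simp only [zc] at na1 na2 na4 na6 na7 na8 nb8
      exact p1_iff.2 ⟨(by (try simp only [fm_a1, fm_a2, fm_b2, fm_a3, fm_a4, fm_b4, fm_a5, fm_a6, fm_b6, fm_a7, fm_a8, fm_b8, ma1, ma2, ma6, ma7, ma8, mb8, na1, na2, na4, na6, na7, na8, nb8, z_s0, z_s1, z_mz, z_zm, z_mo, z_om, z_az, z_za, z_op, z_p2, z_p3]) <;> ring1),
        (by (try simp only [fm_a1, fm_a2, fm_b2, fm_a3, fm_a4, fm_b4, fm_a5, fm_a6, fm_b6, fm_a7, fm_a8, fm_b8, ma1, ma2, ma6, ma7, ma8, mb8, na1, na2, na4, na6, na7, na8, nb8, z_s0, z_s1, z_mz, z_zm, z_mo, z_om, z_az, z_za, z_op, z_p2, z_p3]) <;> ring1),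
        (by (try simp only [fm_a1, fm_a2, fm_b2, fm_a3, fm_a4, fm_b4, fm_a5, fm_a6, fm_b6, fm_a7, fm_a8, fm_b8, ma1, ma2, ma6, ma7, ma8, mb8, na1, na2, na4, na6, na7, na8, nb8, z_s0, z_s1, z_mz, z_zm, z_mo, z_om, z_az, z_za, z_op, z_p2, z_p3]) <;> ring1),
        (by (try simp only [fm_a1, fm_a2, fm_b2, fm_a3, fm_a4, fm_b4, fm_a5, fm_a6, fm_b6, fm_a7, fm_a8, fm_b8, ma1, ma2, ma6, ma7, ma8, mb8, na1, na2, na4, na6, na7, na8, nb8, z_s0, z_s1, z_mz, z_zm, z_mo, z_om, z_az, z_za, z_op, z_p2, z_p3]) <;> ring1),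
        (by (try simp only [fm_a1, fm_a2, fm_b2, fm_a3, fm_a4, fm_b4, fm_a5, fm_a6, fm_b6, fm_a7, fm_a8, fm_b8, ma1, ma2, ma6, ma7, ma8, mb8, na1, na2, na4, na6, na7, na8, nb8, z_s0, z_s1, z_mz, z_zm, z_mo, z_om, z_az, z_za, z_op, z_p2, z_p3]) <;> ring1),
        (by (try simp only [fm_a1, fm_a2, fm_b2, fm_a3, fm_a4, fm_b4, fm_a5, fm_a6, fm_b6, fm_a7, fm_a8, fm_b8, ma1, ma2, ma6, ma7, ma8, mb8, na1, na2, na4, na6, na7, na8, nb8, z_s0, z_s1, z_mz, z_zm, z_mo, z_om, z_az, z_za, z_op, z_p2, z_p3]) <;> ring1),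
        (by (try simp only [fm_a1, fm_a2, fm_b2, fm_a3, fm_a4, fm_b4, fm_a5, fm_a6, fm_b6, fm_a7, fm_a8, fm_b8, ma1, ma2, ma6, ma7, ma8, mb8, na1, na2, na4, na6, na7, na8, nb8, z_s0, z_s1, z_mz, z_zm, z_mo, z_om, z_az, z_za, z_op, z_p2, z_p3]) <;> ring1),
        (by (try simp only [fm_a1, fm_a2, fm_b2, fm_a3, fm_a4, fm_b4, fm_a5, fm_a6, fm_b6, fm_a7, fm_a8, fm_b8, ma1, ma2, ma6, ma7, ma8, mb8, na1, na2, na4, na6, na7, na8, nb8, z_s0, z_s1, z_mz, z_zm, z_mo, z_om, z_az, z_za, z_op, z_p2, z_p3]) <;> ring1),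
        (by (try simp only [fm_a1, fm_a2, fm_b2, fm_a3, fm_a4, fm_b4, fm_a5, fm_a6, fm_b6, fm_a7, fm_a8, fm_b8, ma1, ma2, ma6, ma7, ma8, mb8, na1, na2, na4, na6, na7, na8, nb8, z_s0, z_s1, z_mz, z_zm, z_mo, z_om, z_az, z_za, z_op, z_p2, z_p3]) <;> ring1),
        (by (try simp only [fm_a1, fm_a2, fm_b2, fm_a3, fm_a4, fm_b4, fm_a5, fm_a6, fm_b6, fm_a7, fm_a8, fm_b8, ma1, ma2, ma6, ma7, ma8, mb8, na1, na2, na4, na6, na7, na8, nb8, z_s0, z_s1, z_mz, z_zm, z_mo, z_om, z_az, z_za, z_op, z_p2, z_p3]) <;> ring1),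
        (by (try simp only [fm_a1, fm_a2, fm_b2, fm_a3, fm_a4, fm_b4, fm_a5, fm_a6, fm_b6, fm_a7, fm_a8, fm_b8, ma1, ma2, ma6, ma7, ma8, mb8, na1, na2, na4, na6, na7, na8, nb8, z_s0, z_s1, z_mz, z_zm, z_mo, z_om, z_az, z_za, z_op, z_p2, z_p3]) <;> ring1),
        (by (try simp only [fm_a1, fm_a2, fm_b2, fm_a3, fm_a4, fm_b4, fm_a5, fm_a6, fm_b6, fm_a7, fm_a8, fm_b8, ma1, ma2, ma6, ma7, ma8, mb8, na1, na2, na4, na6, na7, na8, nb8, z_s0, z_s1, z_mz, z_zm, z_mo, z_om, z_az, z_za, z_op, z_p2, z_p3]) <;> ring1)⟩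
  · rintro ⟨h0, h⟩
    obtain ⟨ma8, mb8⟩ := pQ_iff.1 h0
    simp only [zc] at ma8 mb8
    have ma7 : c.a7 = 0 := by
      obtain ⟨-, -, -, -, -, e, -, -, -, -, -, -⟩ := p1_iff.1 (h ⟨0, 0, 1, 0, 0, 0, 0, 0, 0, 0, 0, 0⟩ rfl)
      simp only [fm_a1, fm_a2, fm_b2, fm_a3, fm_a4, fm_b4, fm_a5, fm_a6, fm_b6, fm_a7, fm_a8, fm_b8, ma8, mb8, z_s0, z_s1, z_mz, z_zm, z_mo, z_om, z_az, z_za, z_op, z_p2, z_p3] at e
      linear_combination -e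
    have ma6 : c.a6 = 0 := by
      obtain ⟨-, -, -, -, -, e, -, -, -, -, -, -⟩ := p1_iff.1 (h ⟨0, 0, 0, 1, 0, 0, 0, 0, 0, 0, 0, 0⟩ rfl)
      simp only [fm_a1, fm_a2, fm_b2, fm_a3, fm_a4, fm_b4, fm_a5, fm_a6, fm_b6, fm_a7, fm_a8, fm_b8, ma8, mb8, ma7, z_s0, z_s1, z_mz, z_zm, z_mo, z_om, z_az, z_za, z_op, z_p2, z_p3] at e
      linear_combination -e
    have ma2 : c.a2 = 0 := by
      obtain ⟨-, -, -, -, -, e, -, -, -, -, -, -⟩ := p1_iff.1 (h ⟨0, 0, 0, 0, 0, 0, 1, 0, 0, 0, 0, 0⟩ rfl)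
      simp only [fm_a1, fm_a2, fm_b2, fm_a3, fm_a4, fm_b4, fm_a5, fm_a6, fm_b6, fm_a7, fm_a8, fm_b8, ma8, mb8, ma7, ma6, z_s0, z_s1, z_mz, z_zm, z_mo, z_om, z_az, z_za, z_op, z_p2, z_p3] at e
      linear_combination e
    have ma1 : c.a1 = 0 := by
      obtain ⟨-, -, -, -, -, e, -, -, -, -, -, -⟩ := p1_iff.1 (h ⟨0, 0, 0, 0, 0, 0, 0, 0, 1, 0, 0, 0⟩ rfl)
      simp only [fm_a1, fm_a2, fm_b2, fm_a3, fm_a4, fm_b4, fm_a5, fm_a6, fm_b6, fm_a7, fm_a8, fm_b8, ma8, mb8, ma7, ma6, ma2, z_s0, z_s1, z_mz, z_zm, z_mo, z_om, z_az, z_za, z_op, z_p2, z_p3] at e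
      linear_combination e
    exact pD_iff.2 ⟨ma1, ma2, ma6, ma7, ma8, mb8⟩

/-- `F = {x ∈ Q | [Y, x] ≤ 1}` -/
theorem qa_F (c : Cd K) : (pF K) c = (pF K) zc ↔ (pQ K) c = (pQ K) zc ∧ ∀ d, (pY K) d = (pY K) zc →
    (fun c : Cd K => c) (mul σ d c) = (fun c : Cd K => c) (mul σ c d) := by
  constructor
  · intro h
    obtain ⟨ma1, ma2, ma8, mb8⟩ := pF_iff.1 h
    simp only [zc] at ma1 ma2 ma8 mb8
    refine ⟨?_, fun d hd => ?_⟩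
    · exact pQ_iff.2 ⟨ma8, mb8⟩
    · obtain ⟨na1, na2, nb2, na3, na4, na6, na7, na8, nb8⟩ := pY_iff.1 hd
      simp only [zc] at na1 na2 nb2 na3 na4 na6 na7 na8 nb8
      exact p1_iff.2 ⟨(by (try simp only [fm_a1, fm_a2, fm_b2, fm_a3, fm_a4, fm_b4, fm_a5, fm_a6, fm_b6, fm_a7, fm_a8, fm_b8, ma1, ma2, ma8, mb8, na1, na2, nb2, na3, na4, na6, na7, na8, nb8, z_s0, z_s1, z_mz, z_zm, z_mo, z_om, z_az, z_za, z_op, z_p2, z_p3]) <;> ring1),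
        (by (try simp only [fm_a1, fm_a2, fm_b2, fm_a3, fm_a4, fm_b4, fm_a5, fm_a6, fm_b6, fm_a7, fm_a8, fm_b8, ma1, ma2, ma8, mb8, na1, na2, nb2, na3, na4, na6, na7, na8, nb8, z_s0, z_s1, z_mz, z_zm, z_mo, z_om, z_az, z_za, z_op, z_p2, z_p3]) <;> ring1),
        (by (try simp only [fm_a1, fm_a2, fm_b2, fm_a3, fm_a4, fm_b4, fm_a5, fm_a6, fm_b6, fm_a7, fm_a8, fm_b8, ma1, ma2, ma8, mb8, na1, na2, nb2, na3, na4, na6, na7, na8, nb8, z_s0, z_s1, z_mz, z_zm, z_mo, z_om, z_az, z_za, z_op, z_p2, z_p3]) <;> ring1),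
        (by (try simp only [fm_a1, fm_a2, fm_b2, fm_a3, fm_a4, fm_b4, fm_a5, fm_a6, fm_b6, fm_a7, fm_a8, fm_b8, ma1, ma2, ma8, mb8, na1, na2, nb2, na3, na4, na6, na7, na8, nb8, z_s0, z_s1, z_mz, z_zm, z_mo, z_om, z_az, z_za, z_op, z_p2, z_p3]) <;> ring1),
        (by (try simp only [fm_a1, fm_a2, fm_b2, fm_a3, fm_a4, fm_b4, fm_a5, fm_a6, fm_b6, fm_a7, fm_a8, fm_b8, ma1, ma2, ma8, mb8, na1, na2, nb2, na3, na4, na6, na7, na8, nb8, z_s0, z_s1, z_mz, z_zm, z_mo, z_om, z_az, z_za, z_op, z_p2, z_p3]) <;> ring1),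
        (by (try simp only [fm_a1, fm_a2, fm_b2, fm_a3, fm_a4, fm_b4, fm_a5, fm_a6, fm_b6, fm_a7, fm_a8, fm_b8, ma1, ma2, ma8, mb8, na1, na2, nb2, na3, na4, na6, na7, na8, nb8, z_s0, z_s1, z_mz, z_zm, z_mo, z_om, z_az, z_za, z_op, z_p2, z_p3]) <;> ring1),
        (by (try simp only [fm_a1, fm_a2, fm_b2, fm_a3, fm_a4, fm_b4, fm_a5, fm_a6, fm_b6, fm_a7, fm_a8, fm_b8, ma1, ma2, ma8, mb8, na1, na2, nb2, na3, na4, na6, na7, na8, nb8, z_s0, z_s1, z_mz, z_zm, z_mo, z_om, z_az, z_za, z_op, z_p2, z_p3]) <;> ring1),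
        (by (try simp only [fm_a1, fm_a2, fm_b2, fm_a3, fm_a4, fm_b4, fm_a5, fm_a6, fm_b6, fm_a7, fm_a8, fm_b8, ma1, ma2, ma8, mb8, na1, na2, nb2, na3, na4, na6, na7, na8, nb8, z_s0, z_s1, z_mz, z_zm, z_mo, z_om, z_az, z_za, z_op, z_p2, z_p3]) <;> ring1),
        (by (try simp only [fm_a1, fm_a2, fm_b2, fm_a3, fm_a4, fm_b4, fm_a5, fm_a6, fm_b6, fm_a7, fm_a8, fm_b8, ma1, ma2, ma8, mb8, na1, na2, nb2, na3, na4, na6, na7, na8, nb8, z_s0, z_s1, z_mz, z_zm, z_mo, z_om, z_az, z_za, z_op, z_p2, z_p3]) <;> ring1),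
        (by (try simp only [fm_a1, fm_a2, fm_b2, fm_a3, fm_a4, fm_b4, fm_a5, fm_a6, fm_b6, fm_a7, fm_a8, fm_b8, ma1, ma2, ma8, mb8, na1, na2, nb2, na3, na4, na6, na7, na8, nb8, z_s0, z_s1, z_mz, z_zm, z_mo, z_om, z_az, z_za, z_op, z_p2, z_p3]) <;> ring1),
        (by (try simp only [fm_a1, fm_a2, fm_b2, fm_a3, fm_a4, fm_b4, fm_a5, fm_a6, fm_b6, fm_a7, fm_a8, fm_b8, ma1, ma2, ma8, mb8, na1, na2, nb2, na3, na4, na6, na7, na8, nb8, z_s0, z_s1, z_mz, z_zm, z_mo, z_om, z_az, z_za, z_op, z_p2, z_p3]) <;> ring1),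
        (by (try simp only [fm_a1, fm_a2, fm_b2, fm_a3, fm_a4, fm_b4, fm_a5, fm_a6, fm_b6, fm_a7, fm_a8, fm_b8, ma1, ma2, ma8, mb8, na1, na2, nb2, na3, na4, na6, na7, na8, nb8, z_s0, z_s1, z_mz, z_zm, z_mo, z_om, z_az, z_za, z_op, z_p2, z_p3]) <;> ring1)⟩
  · rintro ⟨h0, h⟩
    obtain ⟨ma8, mb8⟩ := pQ_iff.1 h0
    simp only [zc] at ma8 mb8
    have ma2 : c.a2 = 0 := by
      obtain ⟨-, -, -, -, -, e, -, -, -, -, -, -⟩ := p1_iff.1 (h ⟨0, 0, 0, 0, 0, 0, 1, 0, 0, 0, 0, 0⟩ rfl)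
      simp only [fm_a1, fm_a2, fm_b2, fm_a3, fm_a4, fm_b4, fm_a5, fm_a6, fm_b6, fm_a7, fm_a8, fm_b8, ma8, mb8, z_s0, z_s1, z_mz, z_zm, z_mo, z_om, z_az, z_za, z_op, z_p2, z_p3] at e
      linear_combination e
    have ma1 : c.a1 = 0 := by
      obtain ⟨-, -, -, -, -, e, -, -, -, -, -, -⟩ := p1_iff.1 (h ⟨0, 0, 0, 0, 0, 0, 0, 0, 1, 0, 0, 0⟩ rfl)
      simp only [fm_a1, fm_a2, fm_b2, fm_a3, fm_a4, fm_b4, fm_a5, fm_a6, fm_b6, fm_a7, fm_a8, fm_b8, ma8, mb8, ma2, z_s0, z_s1, z_mz, z_zm, z_mo, z_om, z_az, z_za, z_op, z_p2, z_p3] at e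
      linear_combination e
    exact pF_iff.2 ⟨ma1, ma2, ma8, mb8⟩

/-- `2 = {x ∈ Q | [V, x] ≤ 1}` -/
theorem qa_2 (c : Cd K) : (p2 K) c = (p2 K) zc ↔ (pQ K) c = (pQ K) zc ∧ ∀ d, (pV K) d = (pV K) zc →
    (fun c : Cd K => c) (mul σ d c) = (fun c : Cd K => c) (mul σ c d) := by
  constructor
  · intro h
    obtain ⟨ma1, ma8, mb8⟩ := p2_iff.1 h
    simp only [zc] at ma1 ma8 mb8
    refine ⟨?_, fun d hd => ?_⟩
    · exact pQ_iff.2 ⟨ma8, mb8⟩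
    · obtain ⟨na1, na2, nb2, na3, na4, na5, na6, na7, na8, nb8⟩ := pV_iff.1 hd
      simp only [zc] at na1 na2 nb2 na3 na4 na5 na6 na7 na8 nb8
      exact p1_iff.2 ⟨(by (try simp only [fm_a1, fm_a2, fm_b2, fm_a3, fm_a4, fm_b4, fm_a5, fm_a6, fm_b6, fm_a7, fm_a8, fm_b8, ma1, ma8, mb8, na1, na2, nb2, na3, na4, na5, na6, na7, na8, nb8, z_s0, z_s1, z_mz, z_zm, z_mo, z_om, z_az, z_za, z_op, z_p2, z_p3]) <;> ring1),
        (by (try simp only [fm_a1, fm_a2, fm_b2, fm_a3, fm_a4, fm_b4, fm_a5, fm_a6, fm_b6, fm_a7, fm_a8, fm_b8, ma1, ma8, mb8, na1, na2, nb2, na3, na4, na5, na6, na7, na8, nb8, z_s0, z_s1, z_mz, z_zm, z_mo, z_om, z_az, z_za, z_op, z_p2, z_p3]) <;> ring1),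
        (by (try simp only [fm_a1, fm_a2, fm_b2, fm_a3, fm_a4, fm_b4, fm_a5, fm_a6, fm_b6, fm_a7, fm_a8, fm_b8, ma1, ma8, mb8, na1, na2, nb2, na3, na4, na5, na6, na7, na8, nb8, z_s0, z_s1, z_mz, z_zm, z_mo, z_om, z_az, z_za, z_op, z_p2, z_p3]) <;> ring1),
        (by (try simp only [fm_a1, fm_a2, fm_b2, fm_a3, fm_a4, fm_b4, fm_a5, fm_a6, fm_b6, fm_a7, fm_a8, fm_b8, ma1, ma8, mb8, na1, na2, nb2, na3, na4, na5, na6, na7, na8, nb8, z_s0, z_s1, z_mz, z_zm, z_mo, z_om, z_az, z_za, z_op, z_p2, z_p3]) <;> ring1),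
        (by (try simp only [fm_a1, fm_a2, fm_b2, fm_a3, fm_a4, fm_b4, fm_a5, fm_a6, fm_b6, fm_a7, fm_a8, fm_b8, ma1, ma8, mb8, na1, na2, nb2, na3, na4, na5, na6, na7, na8, nb8, z_s0, z_s1, z_mz, z_zm, z_mo, z_om, z_az, z_za, z_op, z_p2, z_p3]) <;> ring1),
        (by (try simp only [fm_a1, fm_a2, fm_b2, fm_a3, fm_a4, fm_b4, fm_a5, fm_a6, fm_b6, fm_a7, fm_a8, fm_b8, ma1, ma8, mb8, na1, na2, nb2, na3, na4, na5, na6, na7, na8, nb8, z_s0, z_s1, z_mz, z_zm, z_mo, z_om, z_az, z_za, z_op, z_p2, z_p3]) <;> ring1),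
        (by (try simp only [fm_a1, fm_a2, fm_b2, fm_a3, fm_a4, fm_b4, fm_a5, fm_a6, fm_b6, fm_a7, fm_a8, fm_b8, ma1, ma8, mb8, na1, na2, nb2, na3, na4, na5, na6, na7, na8, nb8, z_s0, z_s1, z_mz, z_zm, z_mo, z_om, z_az, z_za, z_op, z_p2, z_p3]) <;> ring1),
        (by (try simp only [fm_a1, fm_a2, fm_b2, fm_a3, fm_a4, fm_b4, fm_a5, fm_a6, fm_b6, fm_a7, fm_a8, fm_b8, ma1, ma8, mb8, na1, na2, nb2, na3, na4, na5, na6, na7, na8, nb8, z_s0, z_s1, z_mz, z_zm, z_mo, z_om, z_az, z_za, z_op, z_p2, z_p3]) <;> ring1),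
        (by (try simp only [fm_a1, fm_a2, fm_b2, fm_a3, fm_a4, fm_b4, fm_a5, fm_a6, fm_b6, fm_a7, fm_a8, fm_b8, ma1, ma8, mb8, na1, na2, nb2, na3, na4, na5, na6, na7, na8, nb8, z_s0, z_s1, z_mz, z_zm, z_mo, z_om, z_az, z_za, z_op, z_p2, z_p3]) <;> ring1),
        (by (try simp only [fm_a1, fm_a2, fm_b2, fm_a3, fm_a4, fm_b4, fm_a5, fm_a6, fm_b6, fm_a7, fm_a8, fm_b8, ma1, ma8, mb8, na1, na2, nb2, na3, na4, na5, na6, na7, na8, nb8, z_s0, z_s1, z_mz, z_zm, z_mo, z_om, z_az, z_za, z_op, z_p2, z_p3]) <;> ring1),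
        (by (try simp only [fm_a1, fm_a2, fm_b2, fm_a3, fm_a4, fm_b4, fm_a5, fm_a6, fm_b6, fm_a7, fm_a8, fm_b8, ma1, ma8, mb8, na1, na2, nb2, na3, na4, na5, na6, na7, na8, nb8, z_s0, z_s1, z_mz, z_zm, z_mo, z_om, z_az, z_za, z_op, z_p2, z_p3]) <;> ring1),
        (by (try simp only [fm_a1, fm_a2, fm_b2, fm_a3, fm_a4, fm_b4, fm_a5, fm_a6, fm_b6, fm_a7, fm_a8, fm_b8, ma1, ma8, mb8, na1, na2, nb2, na3, na4, na5, na6, na7, na8, nb8, z_s0, z_s1, z_mz, z_zm, z_mo, z_om, z_az, z_za, z_op, z_p2, z_p3]) <;> ring1)⟩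
  · rintro ⟨h0, h⟩
    obtain ⟨ma8, mb8⟩ := pQ_iff.1 h0
    simp only [zc] at ma8 mb8
    have ma1 : c.a1 = 0 := by
      obtain ⟨-, -, -, -, -, e, -, -, -, -, -, -⟩ := p1_iff.1 (h ⟨0, 0, 0, 0, 0, 0, 0, 0, 1, 0, 0, 0⟩ rfl)
      simp only [fm_a1, fm_a2, fm_b2, fm_a3, fm_a4, fm_b4, fm_a5, fm_a6, fm_b6, fm_a7, fm_a8, fm_b8, ma8, mb8, z_s0, z_s1, z_mz, z_zm, z_mo, z_om, z_az, z_za, z_op, z_p2, z_p3] at e
      linear_combination e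
    exact p2_iff.2 ⟨ma1, ma8, mb8⟩

/-- `7 = {x ∈ Q | [D, x] ≤ V}` -/
theorem qa_7 (c : Cd K) : (p7 K) c = (p7 K) zc ↔ (pQ K) c = (pQ K) zc ∧ ∀ d, (pD K) d = (pD K) zc →
    (pV K) (mul σ d c) = (pV K) (mul σ c d) := by
  constructor
  · intro h
    obtain ⟨ma1, ma2, ma6, ma8, mb8⟩ := p7_iff.1 h
    simp only [zc] at ma1 ma2 ma6 ma8 mb8
    refine ⟨?_, fun d hd => ?_⟩
    · exact pQ_iff.2 ⟨ma8, mb8⟩
    · obtain ⟨na1, na2, na6, na7, na8, nb8⟩ := pD_iff.1 hd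
      simp only [zc] at na1 na2 na6 na7 na8 nb8
      exact pV_iff.2 ⟨(by (try simp only [fm_a1, fm_a2, fm_b2, fm_a3, fm_a4, fm_b4, fm_a5, fm_a6, fm_b6, fm_a7, fm_a8, fm_b8, ma1, ma2, ma6, ma8, mb8, na1, na2, na6, na7, na8, nb8, z_s0, z_s1, z_mz, z_zm, z_mo, z_om, z_az, z_za, z_op, z_p2, z_p3]) <;> ring1),
        (by (try simp only [fm_a1, fm_a2, fm_b2, fm_a3, fm_a4, fm_b4, fm_a5, fm_a6, fm_b6, fm_a7, fm_a8, fm_b8, ma1, ma2, ma6, ma8, mb8, na1, na2, na6, na7, na8, nb8, z_s0, z_s1, z_mz, z_zm, z_mo, z_om, z_az, z_za, z_op, z_p2, z_p3]) <;> ring1),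
        (by (try simp only [fm_a1, fm_a2, fm_b2, fm_a3, fm_a4, fm_b4, fm_a5, fm_a6, fm_b6, fm_a7, fm_a8, fm_b8, ma1, ma2, ma6, ma8, mb8, na1, na2, na6, na7, na8, nb8, z_s0, z_s1, z_mz, z_zm, z_mo, z_om, z_az, z_za, z_op, z_p2, z_p3]) <;> ring1),
        (by (try simp only [fm_a1, fm_a2, fm_b2, fm_a3, fm_a4, fm_b4, fm_a5, fm_a6, fm_b6, fm_a7, fm_a8, fm_b8, ma1, ma2, ma6, ma8, mb8, na1, na2, na6, na7, na8, nb8, z_s0, z_s1, z_mz, z_zm, z_mo, z_om, z_az, z_za, z_op, z_p2, z_p3]) <;> ring1),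
        (by (try simp only [fm_a1, fm_a2, fm_b2, fm_a3, fm_a4, fm_b4, fm_a5, fm_a6, fm_b6, fm_a7, fm_a8, fm_b8, ma1, ma2, ma6, ma8, mb8, na1, na2, na6, na7, na8, nb8, z_s0, z_s1, z_mz, z_zm, z_mo, z_om, z_az, z_za, z_op, z_p2, z_p3]) <;> ring1),
        (by (try simp only [fm_a1, fm_a2, fm_b2, fm_a3, fm_a4, fm_b4, fm_a5, fm_a6, fm_b6, fm_a7, fm_a8, fm_b8, ma1, ma2, ma6, ma8, mb8, na1, na2, na6, na7, na8, nb8, z_s0, z_s1, z_mz, z_zm, z_mo, z_om, z_az, z_za, z_op, z_p2, z_p3]) <;> ring1),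
        (by (try simp only [fm_a1, fm_a2, fm_b2, fm_a3, fm_a4, fm_b4, fm_a5, fm_a6, fm_b6, fm_a7, fm_a8, fm_b8, ma1, ma2, ma6, ma8, mb8, na1, na2, na6, na7, na8, nb8, z_s0, z_s1, z_mz, z_zm, z_mo, z_om, z_az, z_za, z_op, z_p2, z_p3]) <;> ring1),
        (by (try simp only [fm_a1, fm_a2, fm_b2, fm_a3, fm_a4, fm_b4, fm_a5, fm_a6, fm_b6, fm_a7, fm_a8, fm_b8, ma1, ma2, ma6, ma8, mb8, na1, na2, na6, na7, na8, nb8, z_s0, z_s1, z_mz, z_zm, z_mo, z_om, z_az, z_za, z_op, z_p2, z_p3]) <;> ring1),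
        (by (try simp only [fm_a1, fm_a2, fm_b2, fm_a3, fm_a4, fm_b4, fm_a5, fm_a6, fm_b6, fm_a7, fm_a8, fm_b8, ma1, ma2, ma6, ma8, mb8, na1, na2, na6, na7, na8, nb8, z_s0, z_s1, z_mz, z_zm, z_mo, z_om, z_az, z_za, z_op, z_p2, z_p3]) <;> ring1),
        (by (try simp only [fm_a1, fm_a2, fm_b2, fm_a3, fm_a4, fm_b4, fm_a5, fm_a6, fm_b6, fm_a7, fm_a8, fm_b8, ma1, ma2, ma6, ma8, mb8, na1, na2, na6, na7, na8, nb8, z_s0, z_s1, z_mz, z_zm, z_mo, z_om, z_az, z_za, z_op, z_p2, z_p3]) <;> ring1)⟩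
  · rintro ⟨h0, h⟩
    obtain ⟨ma8, mb8⟩ := pQ_iff.1 h0
    simp only [zc] at ma8 mb8
    have ma1 : c.a1 = 0 := by
      obtain ⟨-, -, e, -, -, -, -, -, -, -⟩ := pV_iff.1 (h ⟨0, 0, 0, 0, 1, 0, 0, 0, 0, 0, 0, 0⟩ rfl)
      simp only [fm_a1, fm_a2, fm_b2, fm_a3, fm_a4, fm_b4, fm_a5, fm_a6, fm_b6, fm_a7, fm_a8, fm_b8, ma8, mb8, z_s0, z_s1, z_mz, z_zm, z_mo, z_om, z_az, z_za, z_op, z_p2, z_p3] at e
      linear_combination e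
    have ma2 : c.a2 = 0 := by
      obtain ⟨-, -, -, e, -, -, -, -, -, -⟩ := pV_iff.1 (h ⟨0, 0, 0, 0, 1, 0, 0, 0, 0, 0, 0, 0⟩ rfl)
      simp only [fm_a1, fm_a2, fm_b2, fm_a3, fm_a4, fm_b4, fm_a5, fm_a6, fm_b6, fm_a7, fm_a8, fm_b8, ma8, mb8, ma1, z_s0, z_s1, z_mz, z_zm, z_mo, z_om, z_az, z_za, z_op, z_p2, z_p3] at e
      linear_combination e
    have ma6 : c.a6 = 0 := by
      obtain ⟨-, -, -, -, -, e, -, -, -, -⟩ := pV_iff.1 (h ⟨0, 0, 0, 0, 1, 0, 0, 0, 0, 0, 0, 0⟩ rfl)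
      simp only [fm_a1, fm_a2, fm_b2, fm_a3, fm_a4, fm_b4, fm_a5, fm_a6, fm_b6, fm_a7, fm_a8, fm_b8, ma8, mb8, ma1, ma2, z_s0, z_s1, z_mz, z_zm, z_mo, z_om, z_az, z_za, z_op, z_p2, z_p3] at e
      linear_combination -e
    exact p7_iff.2 ⟨ma1, ma2, ma6, ma8, mb8⟩

/-- `E4 = {x ∈ E | [7, x] ≤ 1}` -/
theorem qa_E4 (c : Cd K) : (pE4 K) c = (pE4 K) zc ↔ (pE K) c = (pE K) zc ∧ ∀ d, (p7 K) d = (p7 K) zc →
    (fun c : Cd K => c) (mul σ d c) = (fun c : Cd K => c) (mul σ c d) := by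
  constructor
  · intro h
    obtain ⟨ma1, ma2, mb2, ma4, ma6, ma7, ma8, mb8⟩ := pE4_iff.1 h
    simp only [zc] at ma1 ma2 mb2 ma4 ma6 ma7 ma8 mb8
    refine ⟨?_, fun d hd => ?_⟩
    · exact pE_iff.2 ⟨ma1, ma2, ma4, ma6, ma7, ma8, mb8⟩
    · obtain ⟨na1, na2, na6, na8, nb8⟩ := p7_iff.1 hd
      simp only [zc] at na1 na2 na6 na8 nb8
      exact p1_iff.2 ⟨(by (try simp only [fm_a1, fm_a2, fm_b2, fm_a3, fm_a4, fm_b4, fm_a5, fm_a6, fm_b6, fm_a7, fm_a8, fm_b8, ma1, ma2, mb2, ma4, ma6, ma7, ma8, mb8, na1, na2, na6, na8, nb8, z_s0, z_s1, z_mz, z_zm, z_mo, z_om, z_az, z_za, z_op, z_p2, z_p3]) <;> ring1),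
        (by (try simp only [fm_a1, fm_a2, fm_b2, fm_a3, fm_a4, fm_b4, fm_a5, fm_a6, fm_b6, fm_a7, fm_a8, fm_b8, ma1, ma2, mb2, ma4, ma6, ma7, ma8, mb8, na1, na2, na6, na8, nb8, z_s0, z_s1, z_mz, z_zm, z_mo, z_om, z_az, z_za, z_op, z_p2, z_p3]) <;> ring1),
        (by (try simp only [fm_a1, fm_a2, fm_b2, fm_a3, fm_a4, fm_b4, fm_a5, fm_a6, fm_b6, fm_a7, fm_a8, fm_b8, ma1, ma2, mb2, ma4, ma6, ma7, ma8, mb8, na1, na2, na6, na8, nb8, z_s0, z_s1, z_mz, z_zm, z_mo, z_om, z_az, z_za, z_op, z_p2, z_p3]) <;> ring1),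
        (by (try simp only [fm_a1, fm_a2, fm_b2, fm_a3, fm_a4, fm_b4, fm_a5, fm_a6, fm_b6, fm_a7, fm_a8, fm_b8, ma1, ma2, mb2, ma4, ma6, ma7, ma8, mb8, na1, na2, na6, na8, nb8, z_s0, z_s1, z_mz, z_zm, z_mo, z_om, z_az, z_za, z_op, z_p2, z_p3]) <;> ring1),
        (by (try simp only [fm_a1, fm_a2, fm_b2, fm_a3, fm_a4, fm_b4, fm_a5, fm_a6, fm_b6, fm_a7, fm_a8, fm_b8, ma1, ma2, mb2, ma4, ma6, ma7, ma8, mb8, na1, na2, na6, na8, nb8, z_s0, z_s1, z_mz, z_zm, z_mo, z_om, z_az, z_za, z_op, z_p2, z_p3]) <;> ring1),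
        (by (try simp only [fm_a1, fm_a2, fm_b2, fm_a3, fm_a4, fm_b4, fm_a5, fm_a6, fm_b6, fm_a7, fm_a8, fm_b8, ma1, ma2, mb2, ma4, ma6, ma7, ma8, mb8, na1, na2, na6, na8, nb8, z_s0, z_s1, z_mz, z_zm, z_mo, z_om, z_az, z_za, z_op, z_p2, z_p3]) <;> ring1),
        (by (try simp only [fm_a1, fm_a2, fm_b2, fm_a3, fm_a4, fm_b4, fm_a5, fm_a6, fm_b6, fm_a7, fm_a8, fm_b8, ma1, ma2, mb2, ma4, ma6, ma7, ma8, mb8, na1, na2, na6, na8, nb8, z_s0, z_s1, z_mz, z_zm, z_mo, z_om, z_az, z_za, z_op, z_p2, z_p3]) <;> ring1),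
        (by (try simp only [fm_a1, fm_a2, fm_b2, fm_a3, fm_a4, fm_b4, fm_a5, fm_a6, fm_b6, fm_a7, fm_a8, fm_b8, ma1, ma2, mb2, ma4, ma6, ma7, ma8, mb8, na1, na2, na6, na8, nb8, z_s0, z_s1, z_mz, z_zm, z_mo, z_om, z_az, z_za, z_op, z_p2, z_p3]) <;> ring1),
        (by (try simp only [fm_a1, fm_a2, fm_b2, fm_a3, fm_a4, fm_b4, fm_a5, fm_a6, fm_b6, fm_a7, fm_a8, fm_b8, ma1, ma2, mb2, ma4, ma6, ma7, ma8, mb8, na1, na2, na6, na8, nb8, z_s0, z_s1, z_mz, z_zm, z_mo, z_om, z_az, z_za, z_op, z_p2, z_p3]) <;> ring1),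
        (by (try simp only [fm_a1, fm_a2, fm_b2, fm_a3, fm_a4, fm_b4, fm_a5, fm_a6, fm_b6, fm_a7, fm_a8, fm_b8, ma1, ma2, mb2, ma4, ma6, ma7, ma8, mb8, na1, na2, na6, na8, nb8, z_s0, z_s1, z_mz, z_zm, z_mo, z_om, z_az, z_za, z_op, z_p2, z_p3]) <;> ring1),
        (by (try simp only [fm_a1, fm_a2, fm_b2, fm_a3, fm_a4, fm_b4, fm_a5, fm_a6, fm_b6, fm_a7, fm_a8, fm_b8, ma1, ma2, mb2, ma4, ma6, ma7, ma8, mb8, na1, na2, na6, na8, nb8, z_s0, z_s1, z_mz, z_zm, z_mo, z_om, z_az, z_za, z_op, z_p2, z_p3]) <;> ring1),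
        (by (try simp only [fm_a1, fm_a2, fm_b2, fm_a3, fm_a4, fm_b4, fm_a5, fm_a6, fm_b6, fm_a7, fm_a8, fm_b8, ma1, ma2, mb2, ma4, ma6, ma7, ma8, mb8, na1, na2, na6, na8, nb8, z_s0, z_s1, z_mz, z_zm, z_mo, z_om, z_az, z_za, z_op, z_p2, z_p3]) <;> ring1)⟩
  · rintro ⟨h0, h⟩
    obtain ⟨ma1, ma2, ma4, ma6, ma7, ma8, mb8⟩ := pE_iff.1 h0
    simp only [zc] at ma1 ma2 ma4 ma6 ma7 ma8 mb8
    have mb2 : c.b2 = 0 := by
      obtain ⟨-, -, -, -, -, e, -, -, -, -, -, -⟩ := p1_iff.1 (h ⟨0, 0, 0, 0, 0, 0, 0, 0, 0, 1, 0, 0⟩ rfl)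
      simp only [fm_a1, fm_a2, fm_b2, fm_a3, fm_a4, fm_b4, fm_a5, fm_a6, fm_b6, fm_a7, fm_a8, fm_b8, ma1, ma2, ma4, ma6, ma7, ma8, mb8, z_s0, z_s1, z_mz, z_zm, z_mo, z_om, z_az, z_za, z_op, z_p2, z_p3] at e
      linear_combination e
    exact pE4_iff.2 ⟨ma1, ma2, mb2, ma4, ma6, ma7, ma8, mb8⟩

/-- `Y = {x ∈ E | [F, x] ≤ 1}` -/
theorem qa_Y (c : Cd K) : (pY K) c = (pY K) zc ↔ (pE K) c = (pE K) zc ∧ ∀ d, (pF K) d = (pF K) zc →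
    (fun c : Cd K => c) (mul σ d c) = (fun c : Cd K => c) (mul σ c d) := by
  constructor
  · intro h
    obtain ⟨ma1, ma2, mb2, ma3, ma4, ma6, ma7, ma8, mb8⟩ := pY_iff.1 h
    simp only [zc] at ma1 ma2 mb2 ma3 ma4 ma6 ma7 ma8 mb8
    refine ⟨?_, fun d hd => ?_⟩
    · exact pE_iff.2 ⟨ma1, ma2, ma4, ma6, ma7, ma8, mb8⟩
    · obtain ⟨na1, na2, na8, nb8⟩ := pF_iff.1 hd
      simp only [zc] at na1 na2 na8 nb8
      exact p1_iff.2 ⟨(by (try simp only [fm_a1, fm_a2, fm_b2, fm_a3, fm_a4, fm_b4, fm_a5, fm_a6, fm_b6, fm_a7, fm_a8, fm_b8, ma1, ma2, mb2, ma3, ma4, ma6, ma7, ma8, mb8, na1, na2, na8, nb8, z_s0, z_s1, z_mz, z_zm, z_mo, z_om, z_az, z_za, z_op, z_p2, z_p3]) <;> ring1),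
        (by (try simp only [fm_a1, fm_a2, fm_b2, fm_a3, fm_a4, fm_b4, fm_a5, fm_a6, fm_b6, fm_a7, fm_a8, fm_b8, ma1, ma2, mb2, ma3, ma4, ma6, ma7, ma8, mb8, na1, na2, na8, nb8, z_s0, z_s1, z_mz, z_zm, z_mo, z_om, z_az, z_za, z_op, z_p2, z_p3]) <;> ring1),
        (by (try simp only [fm_a1, fm_a2, fm_b2, fm_a3, fm_a4, fm_b4, fm_a5, fm_a6, fm_b6, fm_a7, fm_a8, fm_b8, ma1, ma2, mb2, ma3, ma4, ma6, ma7, ma8, mb8, na1, na2, na8, nb8, z_s0, z_s1, z_mz, z_zm, z_mo, z_om, z_az, z_za, z_op, z_p2, z_p3]) <;> ring1),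
        (by (try simp only [fm_a1, fm_a2, fm_b2, fm_a3, fm_a4, fm_b4, fm_a5, fm_a6, fm_b6, fm_a7, fm_a8, fm_b8, ma1, ma2, mb2, ma3, ma4, ma6, ma7, ma8, mb8, na1, na2, na8, nb8, z_s0, z_s1, z_mz, z_zm, z_mo, z_om, z_az, z_za, z_op, z_p2, z_p3]) <;> ring1),
        (by (try simp only [fm_a1, fm_a2, fm_b2, fm_a3, fm_a4, fm_b4, fm_a5, fm_a6, fm_b6, fm_a7, fm_a8, fm_b8, ma1, ma2, mb2, ma3, ma4, ma6, ma7, ma8, mb8, na1, na2, na8, nb8, z_s0, z_s1, z_mz, z_zm, z_mo, z_om, z_az, z_za, z_op, z_p2, z_p3]) <;> ring1),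
        (by (try simp only [fm_a1, fm_a2, fm_b2, fm_a3, fm_a4, fm_b4, fm_a5, fm_a6, fm_b6, fm_a7, fm_a8, fm_b8, ma1, ma2, mb2, ma3, ma4, ma6, ma7, ma8, mb8, na1, na2, na8, nb8, z_s0, z_s1, z_mz, z_zm, z_mo, z_om, z_az, z_za, z_op, z_p2, z_p3]) <;> ring1),
        (by (try simp only [fm_a1, fm_a2, fm_b2, fm_a3, fm_a4, fm_b4, fm_a5, fm_a6, fm_b6, fm_a7, fm_a8, fm_b8, ma1, ma2, mb2, ma3, ma4, ma6, ma7, ma8, mb8, na1, na2, na8, nb8, z_s0, z_s1, z_mz, z_zm, z_mo, z_om, z_az, z_za, z_op, z_p2, z_p3]) <;> ring1),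
        (by (try simp only [fm_a1, fm_a2, fm_b2, fm_a3, fm_a4, fm_b4, fm_a5, fm_a6, fm_b6, fm_a7, fm_a8, fm_b8, ma1, ma2, mb2, ma3, ma4, ma6, ma7, ma8, mb8, na1, na2, na8, nb8, z_s0, z_s1, z_mz, z_zm, z_mo, z_om, z_az, z_za, z_op, z_p2, z_p3]) <;> ring1),
        (by (try simp only [fm_a1, fm_a2, fm_b2, fm_a3, fm_a4, fm_b4, fm_a5, fm_a6, fm_b6, fm_a7, fm_a8, fm_b8, ma1, ma2, mb2, ma3, ma4, ma6, ma7, ma8, mb8, na1, na2, na8, nb8, z_s0, z_s1, z_mz, z_zm, z_mo, z_om, z_az, z_za, z_op, z_p2, z_p3]) <;> ring1),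
        (by (try simp only [fm_a1, fm_a2, fm_b2, fm_a3, fm_a4, fm_b4, fm_a5, fm_a6, fm_b6, fm_a7, fm_a8, fm_b8, ma1, ma2, mb2, ma3, ma4, ma6, ma7, ma8, mb8, na1, na2, na8, nb8, z_s0, z_s1, z_mz, z_zm, z_mo, z_om, z_az, z_za, z_op, z_p2, z_p3]) <;> ring1),
        (by (try simp only [fm_a1, fm_a2, fm_b2, fm_a3, fm_a4, fm_b4, fm_a5, fm_a6, fm_b6, fm_a7, fm_a8, fm_b8, ma1, ma2, mb2, ma3, ma4, ma6, ma7, ma8, mb8, na1, na2, na8, nb8, z_s0, z_s1, z_mz, z_zm, z_mo, z_om, z_az, z_za, z_op, z_p2, z_p3]) <;> ring1),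
        (by (try simp only [fm_a1, fm_a2, fm_b2, fm_a3, fm_a4, fm_b4, fm_a5, fm_a6, fm_b6, fm_a7, fm_a8, fm_b8, ma1, ma2, mb2, ma3, ma4, ma6, ma7, ma8, mb8, na1, na2, na8, nb8, z_s0, z_s1, z_mz, z_zm, z_mo, z_om, z_az, z_za, z_op, z_p2, z_p3]) <;> ring1)⟩
  · rintro ⟨h0, h⟩
    obtain ⟨ma1, ma2, ma4, ma6, ma7, ma8, mb8⟩ := pE_iff.1 h0
    simp only [zc] at ma1 ma2 ma4 ma6 ma7 ma8 mb8
    have ma3 : c.a3 = 0 := by
      obtain ⟨-, -, -, -, -, e, -, -, -, -, -, -⟩ := p1_iff.1 (h ⟨0, 0, 0, 0, 0, 0, 0, 1, 0, 0, 0, 0⟩ rfl)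
      simp only [fm_a1, fm_a2, fm_b2, fm_a3, fm_a4, fm_b4, fm_a5, fm_a6, fm_b6, fm_a7, fm_a8, fm_b8, ma1, ma2, ma4, ma6, ma7, ma8, mb8, z_s0, z_s1, z_mz, z_zm, z_mo, z_om, z_az, z_za, z_op, z_p2, z_p3] at e
      linear_combination e
    have mb2 : c.b2 = 0 := by
      obtain ⟨-, -, -, -, -, e, -, -, -, -, -, -⟩ := p1_iff.1 (h ⟨0, 0, 0, 0, 0, 0, 0, 0, 0, 1, 0, 0⟩ rfl)
      simp only [fm_a1, fm_a2, fm_b2, fm_a3, fm_a4, fm_b4, fm_a5, fm_a6, fm_b6, fm_a7, fm_a8, fm_b8, ma1, ma2, ma4, ma6, ma7, ma8, mb8, ma3, z_s0, z_s1, z_mz, z_zm, z_mo, z_om, z_az, z_za, z_op, z_p2, z_p3] at e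
      linear_combination e
    exact pY_iff.2 ⟨ma1, ma2, mb2, ma3, ma4, ma6, ma7, ma8, mb8⟩

/-- `Z = {x ∈ U | [U, x] ≤ 1}` -/
theorem u_Z (c : Cd K) : (pZ K) c = (pZ K) zc ↔ (pU K) c = (pU K) zc ∧ ∀ d, (pU K) d = (pU K) zc →
    (fun c : Cd K => c) (mul σ d c) = (fun c : Cd K => c) (mul σ c d) := by
  constructor
  · intro h
    obtain ⟨ma1, ma2, mb2, ma3, ma4, h88⟩ := pZ_iff.1 h
    revert h88; rintro ⟨ma5, ma6, mb6, ma7, ma8, mb8⟩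
    simp only [zc] at ma1 ma2 mb2 ma3 ma4 ma5 ma6 mb6 ma7 ma8 mb8
    refine ⟨?_, fun d hd => ?_⟩
    · rfl
    · exact p1_iff.2 ⟨(by (try simp only [fm_a1, fm_a2, fm_b2, fm_a3, fm_a4, fm_b4, fm_a5, fm_a6, fm_b6, fm_a7, fm_a8, fm_b8, ma1, ma2, mb2, ma3, ma4, ma5, ma6, mb6, ma7, ma8, mb8, z_s0, z_s1, z_mz, z_zm, z_mo, z_om, z_az, z_za, z_op, z_p2, z_p3]) <;> ring1),
        (by (try simp only [fm_a1, fm_a2, fm_b2, fm_a3, fm_a4, fm_b4, fm_a5, fm_a6, fm_b6, fm_a7, fm_a8, fm_b8, ma1, ma2, mb2, ma3, ma4, ma5, ma6, mb6, ma7, ma8, mb8, z_s0, z_s1, z_mz, z_zm, z_mo, z_om, z_az, z_za, z_op, z_p2, z_p3]) <;> ring1),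
        (by (try simp only [fm_a1, fm_a2, fm_b2, fm_a3, fm_a4, fm_b4, fm_a5, fm_a6, fm_b6, fm_a7, fm_a8, fm_b8, ma1, ma2, mb2, ma3, ma4, ma5, ma6, mb6, ma7, ma8, mb8, z_s0, z_s1, z_mz, z_zm, z_mo, z_om, z_az, z_za, z_op, z_p2, z_p3]) <;> ring1),
        (by (try simp only [fm_a1, fm_a2, fm_b2, fm_a3, fm_a4, fm_b4, fm_a5, fm_a6, fm_b6, fm_a7, fm_a8, fm_b8, ma1, ma2, mb2, ma3, ma4, ma5, ma6, mb6, ma7, ma8, mb8, z_s0, z_s1, z_mz, z_zm, z_mo, z_om, z_az, z_za, z_op, z_p2, z_p3]) <;> ring1),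
        (by (try simp only [fm_a1, fm_a2, fm_b2, fm_a3, fm_a4, fm_b4, fm_a5, fm_a6, fm_b6, fm_a7, fm_a8, fm_b8, ma1, ma2, mb2, ma3, ma4, ma5, ma6, mb6, ma7, ma8, mb8, z_s0, z_s1, z_mz, z_zm, z_mo, z_om, z_az, z_za, z_op, z_p2, z_p3]) <;> ring1),
        (by (try simp only [fm_a1, fm_a2, fm_b2, fm_a3, fm_a4, fm_b4, fm_a5, fm_a6, fm_b6, fm_a7, fm_a8, fm_b8, ma1, ma2, mb2, ma3, ma4, ma5, ma6, mb6, ma7, ma8, mb8, z_s0, z_s1, z_mz, z_zm, z_mo, z_om, z_az, z_za, z_op, z_p2, z_p3]) <;> ring1),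
        (by (try simp only [fm_a1, fm_a2, fm_b2, fm_a3, fm_a4, fm_b4, fm_a5, fm_a6, fm_b6, fm_a7, fm_a8, fm_b8, ma1, ma2, mb2, ma3, ma4, ma5, ma6, mb6, ma7, ma8, mb8, z_s0, z_s1, z_mz, z_zm, z_mo, z_om, z_az, z_za, z_op, z_p2, z_p3]) <;> ring1),
        (by (try simp only [fm_a1, fm_a2, fm_b2, fm_a3, fm_a4, fm_b4, fm_a5, fm_a6, fm_b6, fm_a7, fm_a8, fm_b8, ma1, ma2, mb2, ma3, ma4, ma5, ma6, mb6, ma7, ma8, mb8, z_s0, z_s1, z_mz, z_zm, z_mo, z_om, z_az, z_za, z_op, z_p2, z_p3]) <;> ring1),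
        (by (try simp only [fm_a1, fm_a2, fm_b2, fm_a3, fm_a4, fm_b4, fm_a5, fm_a6, fm_b6, fm_a7, fm_a8, fm_b8, ma1, ma2, mb2, ma3, ma4, ma5, ma6, mb6, ma7, ma8, mb8, z_s0, z_s1, z_mz, z_zm, z_mo, z_om, z_az, z_za, z_op, z_p2, z_p3]) <;> ring1),
        (by (try simp only [fm_a1, fm_a2, fm_b2, fm_a3, fm_a4, fm_b4, fm_a5, fm_a6, fm_b6, fm_a7, fm_a8, fm_b8, ma1, ma2, mb2, ma3, ma4, ma5, ma6, mb6, ma7, ma8, mb8, z_s0, z_s1, z_mz, z_zm, z_mo, z_om, z_az, z_za, z_op, z_p2, z_p3]) <;> ring1),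
        (by (try simp only [fm_a1, fm_a2, fm_b2, fm_a3, fm_a4, fm_b4, fm_a5, fm_a6, fm_b6, fm_a7, fm_a8, fm_b8, ma1, ma2, mb2, ma3, ma4, ma5, ma6, mb6, ma7, ma8, mb8, z_s0, z_s1, z_mz, z_zm, z_mo, z_om, z_az, z_za, z_op, z_p2, z_p3]) <;> ring1),
        (by (try simp only [fm_a1, fm_a2, fm_b2, fm_a3, fm_a4, fm_b4, fm_a5, fm_a6, fm_b6, fm_a7, fm_a8, fm_b8, ma1, ma2, mb2, ma3, ma4, ma5, ma6, mb6, ma7, ma8, mb8, z_s0, z_s1, z_mz, z_zm, z_mo, z_om, z_az, z_za, z_op, z_p2, z_p3]) <;> ring1)⟩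
  · rintro ⟨h0, h⟩
    have ma8 : c.a8 = 0 := by
      obtain ⟨-, e, -, -, -, h88⟩ := p1_iff.1 (h ⟨1, 0, 0, 0, 0, 0, 0, 0, 0, 0, 0, 0⟩ rfl)
      revert h88; rintro ⟨-, -, -, -, -, h88⟩
      revert h88; rintro ⟨-, -⟩
      simp only [fm_a1, fm_a2, fm_b2, fm_a3, fm_a4, fm_b4, fm_a5, fm_a6, fm_b6, fm_a7, fm_a8, fm_b8, z_s0, z_s1, z_mz, z_zm, z_mo, z_om, z_az, z_za, z_op, z_p2, z_p3] at e
      linear_combination -e
    have mb8 : c.b8 = 0 := by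
      obtain ⟨-, -, -, -, e, h88⟩ := p1_iff.1 (h ⟨1, 0, 0, 0, 0, 0, 0, 0, 0, 0, 0, 0⟩ rfl)
      revert h88; rintro ⟨-, -, -, -, -, h88⟩
      revert h88; rintro ⟨-, -⟩
      simp only [fm_a1, fm_a2, fm_b2, fm_a3, fm_a4, fm_b4, fm_a5, fm_a6, fm_b6, fm_a7, fm_a8, fm_b8, ma8, z_s0, z_s1, z_mz, z_zm, z_mo, z_om, z_az, z_za, z_op, z_p2, z_p3] at e
      linear_combination -e
    have ma7 : c.a7 = 0 := by
      obtain ⟨-, -, -, -, -, h88⟩ := p1_iff.1 (h ⟨1, 0, 0, 0, 0, 0, 0, 0, 0, 0, 0, 0⟩ rfl)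
      revert h88; rintro ⟨-, e, -, -, -, h88⟩
      revert h88; rintro ⟨-, -⟩
      simp only [fm_a1, fm_a2, fm_b2, fm_a3, fm_a4, fm_b4, fm_a5, fm_a6, fm_b6, fm_a7, fm_a8, fm_b8, ma8, mb8, z_s0, z_s1, z_mz, z_zm, z_mo, z_om, z_az, z_za, z_op, z_p2, z_p3] at e
      exact (map_eq_zero σ).1 (by linear_combination -e)
    have ma6 : c.a6 = 0 := by
      obtain ⟨-, -, -, e, -, h88⟩ := p1_iff.1 (h ⟨1, 0, 0, 0, 0, 0, 0, 0, 0, 0, 0, 0⟩ rfl)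
      revert h88; rintro ⟨-, -, -, -, -, h88⟩
      revert h88; rintro ⟨-, -⟩
      simp only [fm_a1, fm_a2, fm_b2, fm_a3, fm_a4, fm_b4, fm_a5, fm_a6, fm_b6, fm_a7, fm_a8, fm_b8, ma8, mb8, ma7, z_s0, z_s1, z_mz, z_zm, z_mo, z_om, z_az, z_za, z_op, z_p2, z_p3] at e
      exact (map_eq_zero σ).1 (by linear_combination -e)
    have ma4 : c.a4 = 0 := by
      obtain ⟨-, -, e, -, -, h88⟩ := p1_iff.1 (h ⟨1, 0, 0, 0, 0, 0, 0, 0, 0, 0, 0, 0⟩ rfl)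
      revert h88; rintro ⟨-, -, -, -, -, h88⟩
      revert h88; rintro ⟨-, -⟩
      simp only [fm_a1, fm_a2, fm_b2, fm_a3, fm_a4, fm_b4, fm_a5, fm_a6, fm_b6, fm_a7, fm_a8, fm_b8, ma8, mb8, ma7, ma6, z_s0, z_s1, z_mz, z_zm, z_mo, z_om, z_az, z_za, z_op, z_p2, z_p3] at e
      linear_combination -e
    have mb6 : c.b6 = 0 := by
      obtain ⟨-, -, -, -, -, h88⟩ := p1_iff.1 (h ⟨1, 0, 0, 0, 0, 0, 0, 0, 0, 0, 0, 0⟩ rfl)
      revert h88; rintro ⟨e, -, -, -, -, h88⟩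
      revert h88; rintro ⟨-, -⟩
      simp only [fm_a1, fm_a2, fm_b2, fm_a3, fm_a4, fm_b4, fm_a5, fm_a6, fm_b6, fm_a7, fm_a8, fm_b8, ma8, mb8, ma7, ma6, ma4, z_s0, z_s1, z_mz, z_zm, z_mo, z_om, z_az, z_za, z_op, z_p2, z_p3] at e
      linear_combination -e
    have ma5 : c.a5 = 0 := by
      obtain ⟨-, -, -, -, -, h88⟩ := p1_iff.1 (h ⟨0, 1, 0, 0, 0, 0, 0, 0, 0, 0, 0, 0⟩ rfl)
      revert h88; rintro ⟨e, -, -, -, -, h88⟩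
      revert h88; rintro ⟨-, -⟩
      simp only [fm_a1, fm_a2, fm_b2, fm_a3, fm_a4, fm_b4, fm_a5, fm_a6, fm_b6, fm_a7, fm_a8, fm_b8, ma8, mb8, ma7, ma6, ma4, mb6, z_s0, z_s1, z_mz, z_zm, z_mo, z_om, z_az, z_za, z_op, z_p2, z_p3] at e
      linear_combination -e
    have ma1 : c.a1 = 0 := by
      obtain ⟨-, -, e, -, -, h88⟩ := p1_iff.1 (h ⟨0, 0, 0, 0, 1, 0, 0, 0, 0, 0, 0, 0⟩ rfl)
      revert h88; rintro ⟨-, -, -, -, -, h88⟩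
      revert h88; rintro ⟨-, -⟩
      simp only [fm_a1, fm_a2, fm_b2, fm_a3, fm_a4, fm_b4, fm_a5, fm_a6, fm_b6, fm_a7, fm_a8, fm_b8, ma8, mb8, ma7, ma6, ma4, mb6, ma5, z_s0, z_s1, z_mz, z_zm, z_mo, z_om, z_az, z_za, z_op, z_p2, z_p3] at e
      linear_combination e
    have ma2 : c.a2 = 0 := by
      obtain ⟨-, -, -, e, -, h88⟩ := p1_iff.1 (h ⟨0, 0, 0, 0, 1, 0, 0, 0, 0, 0, 0, 0⟩ rfl)
      revert h88; rintro ⟨-, -, -, -, -, h88⟩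
      revert h88; rintro ⟨-, -⟩
      simp only [fm_a1, fm_a2, fm_b2, fm_a3, fm_a4, fm_b4, fm_a5, fm_a6, fm_b6, fm_a7, fm_a8, fm_b8, ma8, mb8, ma7, ma6, ma4, mb6, ma5, ma1, z_s0, z_s1, z_mz, z_zm, z_mo, z_om, z_az, z_za, z_op, z_p2, z_p3] at e
      linear_combination e
    have ma3 : c.a3 = 0 := by
      obtain ⟨-, -, -, -, -, h88⟩ := p1_iff.1 (h ⟨0, 0, 0, 0, 0, 0, 0, 1, 0, 0, 0, 0⟩ rfl)
      revert h88; rintro ⟨e, -, -, -, -, h88⟩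
      revert h88; rintro ⟨-, -⟩
      simp only [fm_a1, fm_a2, fm_b2, fm_a3, fm_a4, fm_b4, fm_a5, fm_a6, fm_b6, fm_a7, fm_a8, fm_b8, ma8, mb8, ma7, ma6, ma4, mb6, ma5, ma1, ma2, z_s0, z_s1, z_mz, z_zm, z_mo, z_om, z_az, z_za, z_op, z_p2, z_p3] at e
      linear_combination e
    have mb2 : c.b2 = 0 := by
      obtain ⟨-, -, -, -, -, h88⟩ := p1_iff.1 (h ⟨0, 0, 0, 0, 0, 0, 0, 0, 0, 1, 0, 0⟩ rfl)
      revert h88; rintro ⟨e, -, -, -, -, h88⟩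
      revert h88; rintro ⟨-, -⟩
      simp only [fm_a1, fm_a2, fm_b2, fm_a3, fm_a4, fm_b4, fm_a5, fm_a6, fm_b6, fm_a7, fm_a8, fm_b8, ma8, mb8, ma7, ma6, ma4, mb6, ma5, ma1, ma2, ma3, z_s0, z_s1, z_mz, z_zm, z_mo, z_om, z_az, z_za, z_op, z_p2, z_p3] at e
      linear_combination e
    exact pZ_iff.2 ⟨ma1, ma2, mb2, ma3, ma4, ma5, ma6, mb6, ma7, ma8, mb8⟩

/-- `V = {x ∈ U | [U, x] ≤ Z}` -/
theorem u_V (c : Cd K) : (pV K) c = (pV K) zc ↔ (pU K) c = (pU K) zc ∧ ∀ d, (pU K) d = (pU K) zc →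
    (pZ K) (mul σ d c) = (pZ K) (mul σ c d) := by
  constructor
  · intro h
    obtain ⟨ma1, ma2, mb2, ma3, ma4, h88⟩ := pV_iff.1 h
    revert h88; rintro ⟨ma5, ma6, ma7, ma8, mb8⟩
    simp only [zc] at ma1 ma2 mb2 ma3 ma4 ma5 ma6 ma7 ma8 mb8
    refine ⟨?_, fun d hd => ?_⟩
    · rfl
    · exact pZ_iff.2 ⟨(by (try simp only [fm_a1, fm_a2, fm_b2, fm_a3, fm_a4, fm_b4, fm_a5, fm_a6, fm_b6, fm_a7, fm_a8, fm_b8, ma1, ma2, mb2, ma3, ma4, ma5, ma6, ma7, ma8, mb8, z_s0, z_s1, z_mz, z_zm, z_mo, z_om, z_az, z_za, z_op, z_p2, z_p3]) <;> ring1),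
        (by (try simp only [fm_a1, fm_a2, fm_b2, fm_a3, fm_a4, fm_b4, fm_a5, fm_a6, fm_b6, fm_a7, fm_a8, fm_b8, ma1, ma2, mb2, ma3, ma4, ma5, ma6, ma7, ma8, mb8, z_s0, z_s1, z_mz, z_zm, z_mo, z_om, z_az, z_za, z_op, z_p2, z_p3]) <;> ring1),
        (by (try simp only [fm_a1, fm_a2, fm_b2, fm_a3, fm_a4, fm_b4, fm_a5, fm_a6, fm_b6, fm_a7, fm_a8, fm_b8, ma1, ma2, mb2, ma3, ma4, ma5, ma6, ma7, ma8, mb8, z_s0, z_s1, z_mz, z_zm, z_mo, z_om, z_az, z_za, z_op, z_p2, z_p3]) <;> ring1),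
        (by (try simp only [fm_a1, fm_a2, fm_b2, fm_a3, fm_a4, fm_b4, fm_a5, fm_a6, fm_b6, fm_a7, fm_a8, fm_b8, ma1, ma2, mb2, ma3, ma4, ma5, ma6, ma7, ma8, mb8, z_s0, z_s1, z_mz, z_zm, z_mo, z_om, z_az, z_za, z_op, z_p2, z_p3]) <;> ring1),
        (by (try simp only [fm_a1, fm_a2, fm_b2, fm_a3, fm_a4, fm_b4, fm_a5, fm_a6, fm_b6, fm_a7, fm_a8, fm_b8, ma1, ma2, mb2, ma3, ma4, ma5, ma6, ma7, ma8, mb8, z_s0, z_s1, z_mz, z_zm, z_mo, z_om, z_az, z_za, z_op, z_p2, z_p3]) <;> ring1),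
        (by (try simp only [fm_a1, fm_a2, fm_b2, fm_a3, fm_a4, fm_b4, fm_a5, fm_a6, fm_b6, fm_a7, fm_a8, fm_b8, ma1, ma2, mb2, ma3, ma4, ma5, ma6, ma7, ma8, mb8, z_s0, z_s1, z_mz, z_zm, z_mo, z_om, z_az, z_za, z_op, z_p2, z_p3]) <;> ring1),
        (by (try simp only [fm_a1, fm_a2, fm_b2, fm_a3, fm_a4, fm_b4, fm_a5, fm_a6, fm_b6, fm_a7, fm_a8, fm_b8, ma1, ma2, mb2, ma3, ma4, ma5, ma6, ma7, ma8, mb8, z_s0, z_s1, z_mz, z_zm, z_mo, z_om, z_az, z_za, z_op, z_p2, z_p3]) <;> ring1),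
        (by (try simp only [fm_a1, fm_a2, fm_b2, fm_a3, fm_a4, fm_b4, fm_a5, fm_a6, fm_b6, fm_a7, fm_a8, fm_b8, ma1, ma2, mb2, ma3, ma4, ma5, ma6, ma7, ma8, mb8, z_s0, z_s1, z_mz, z_zm, z_mo, z_om, z_az, z_za, z_op, z_p2, z_p3]) <;> ring1),
        (by (try simp only [fm_a1, fm_a2, fm_b2, fm_a3, fm_a4, fm_b4, fm_a5, fm_a6, fm_b6, fm_a7, fm_a8, fm_b8, ma1, ma2, mb2, ma3, ma4, ma5, ma6, ma7, ma8, mb8, z_s0, z_s1, z_mz, z_zm, z_mo, z_om, z_az, z_za, z_op, z_p2, z_p3]) <;> ring1),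
        (by (try simp only [fm_a1, fm_a2, fm_b2, fm_a3, fm_a4, fm_b4, fm_a5, fm_a6, fm_b6, fm_a7, fm_a8, fm_b8, ma1, ma2, mb2, ma3, ma4, ma5, ma6, ma7, ma8, mb8, z_s0, z_s1, z_mz, z_zm, z_mo, z_om, z_az, z_za, z_op, z_p2, z_p3]) <;> ring1),
        (by (try simp only [fm_a1, fm_a2, fm_b2, fm_a3, fm_a4, fm_b4, fm_a5, fm_a6, fm_b6, fm_a7, fm_a8, fm_b8, ma1, ma2, mb2, ma3, ma4, ma5, ma6, ma7, ma8, mb8, z_s0, z_s1, z_mz, z_zm, z_mo, z_om, z_az, z_za, z_op, z_p2, z_p3]) <;> ring1)⟩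
  · rintro ⟨h0, h⟩
    have ma8 : c.a8 = 0 := by
      obtain ⟨-, e, -, -, -, h88⟩ := pZ_iff.1 (h ⟨1, 0, 0, 0, 0, 0, 0, 0, 0, 0, 0, 0⟩ rfl)
      revert h88; rintro ⟨-, -, -, -, -, -⟩
      simp only [fm_a1, fm_a2, fm_b2, fm_a3, fm_a4, fm_b4, fm_a5, fm_a6, fm_b6, fm_a7, fm_a8, fm_b8, z_s0, z_s1, z_mz, z_zm, z_mo, z_om, z_az, z_za, z_op, z_p2, z_p3] at e
      linear_combination -e
    have mb8 : c.b8 = 0 := by
      obtain ⟨-, -, -, -, e, h88⟩ := pZ_iff.1 (h ⟨1, 0, 0, 0, 0, 0, 0, 0, 0, 0, 0, 0⟩ rfl)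
      revert h88; rintro ⟨-, -, -, -, -, -⟩
      simp only [fm_a1, fm_a2, fm_b2, fm_a3, fm_a4, fm_b4, fm_a5, fm_a6, fm_b6, fm_a7, fm_a8, fm_b8, ma8, z_s0, z_s1, z_mz, z_zm, z_mo, z_om, z_az, z_za, z_op, z_p2, z_p3] at e
      linear_combination -e
    have ma7 : c.a7 = 0 := by
      obtain ⟨-, -, -, -, -, h88⟩ := pZ_iff.1 (h ⟨1, 0, 0, 0, 0, 0, 0, 0, 0, 0, 0, 0⟩ rfl)
      revert h88; rintro ⟨e, -, -, -, -, -⟩
      simp only [fm_a1, fm_a2, fm_b2, fm_a3, fm_a4, fm_b4, fm_a5, fm_a6, fm_b6, fm_a7, fm_a8, fm_b8, ma8, mb8, z_s0, z_s1, z_mz, z_zm, z_mo, z_om, z_az, z_za, z_op, z_p2, z_p3] at e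
      exact (map_eq_zero σ).1 (by linear_combination -e)
    have ma6 : c.a6 = 0 := by
      obtain ⟨-, -, -, e, -, h88⟩ := pZ_iff.1 (h ⟨1, 0, 0, 0, 0, 0, 0, 0, 0, 0, 0, 0⟩ rfl)
      revert h88; rintro ⟨-, -, -, -, -, -⟩
      simp only [fm_a1, fm_a2, fm_b2, fm_a3, fm_a4, fm_b4, fm_a5, fm_a6, fm_b6, fm_a7, fm_a8, fm_b8, ma8, mb8, ma7, z_s0, z_s1, z_mz, z_zm, z_mo, z_om, z_az, z_za, z_op, z_p2, z_p3] at e
      exact (map_eq_zero σ).1 (by linear_combination -e)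
    have ma4 : c.a4 = 0 := by
      obtain ⟨-, -, e, -, -, h88⟩ := pZ_iff.1 (h ⟨1, 0, 0, 0, 0, 0, 0, 0, 0, 0, 0, 0⟩ rfl)
      revert h88; rintro ⟨-, -, -, -, -, -⟩
      simp only [fm_a1, fm_a2, fm_b2, fm_a3, fm_a4, fm_b4, fm_a5, fm_a6, fm_b6, fm_a7, fm_a8, fm_b8, ma8, mb8, ma7, ma6, z_s0, z_s1, z_mz, z_zm, z_mo, z_om, z_az, z_za, z_op, z_p2, z_p3] at e
      linear_combination -e
    have ma1 : c.a1 = 0 := by
      obtain ⟨-, -, e, -, -, h88⟩ := pZ_iff.1 (h ⟨0, 0, 0, 0, 1, 0, 0, 0, 0, 0, 0, 0⟩ rfl)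
      revert h88; rintro ⟨-, -, -, -, -, -⟩
      simp only [fm_a1, fm_a2, fm_b2, fm_a3, fm_a4, fm_b4, fm_a5, fm_a6, fm_b6, fm_a7, fm_a8, fm_b8, ma8, mb8, ma7, ma6, ma4, z_s0, z_s1, z_mz, z_zm, z_mo, z_om, z_az, z_za, z_op, z_p2, z_p3] at e
      linear_combination e
    have ma2 : c.a2 = 0 := by
      obtain ⟨-, -, -, e, -, h88⟩ := pZ_iff.1 (h ⟨0, 0, 0, 0, 1, 0, 0, 0, 0, 0, 0, 0⟩ rfl)
      revert h88; rintro ⟨-, -, -, -, -, -⟩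
      simp only [fm_a1, fm_a2, fm_b2, fm_a3, fm_a4, fm_b4, fm_a5, fm_a6, fm_b6, fm_a7, fm_a8, fm_b8, ma8, mb8, ma7, ma6, ma4, ma1, z_s0, z_s1, z_mz, z_zm, z_mo, z_om, z_az, z_za, z_op, z_p2, z_p3] at e
      linear_combination e
    have mb2 : c.b2 = 0 := by
      obtain ⟨-, -, -, e, -, h88⟩ := pZ_iff.1 (h ⟨0, 0, 0, 0, 0, 0, 0, 0, 0, 0, 1, 0⟩ rfl)
      revert h88; rintro ⟨-, -, -, -, -, -⟩
      simp only [fm_a1, fm_a2, fm_b2, fm_a3, fm_a4, fm_b4, fm_a5, fm_a6, fm_b6, fm_a7, fm_a8, fm_b8, ma8, mb8, ma7, ma6, ma4, ma1, ma2, z_s0, z_s1, z_mz, z_zm, z_mo, z_om, z_az, z_za, z_op, z_p2, z_p3] at e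
      linear_combination e
    have ma3 : c.a3 = 0 := by
      obtain ⟨-, -, -, -, -, h88⟩ := pZ_iff.1 (h ⟨0, 0, 0, 0, 0, 0, 0, 0, 0, 0, 1, 0⟩ rfl)
      revert h88; rintro ⟨e, -, -, -, -, -⟩
      simp only [fm_a1, fm_a2, fm_b2, fm_a3, fm_a4, fm_b4, fm_a5, fm_a6, fm_b6, fm_a7, fm_a8, fm_b8, ma8, mb8, ma7, ma6, ma4, ma1, ma2, mb2, z_s0, z_s1, z_mz, z_zm, z_mo, z_om, z_az, z_za, z_op, z_p2, z_p3] at e
      linear_combination e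
    have ma5 : c.a5 = 0 := by
      obtain ⟨-, -, -, -, -, h88⟩ := pZ_iff.1 (h ⟨0, 0, 0, 0, 0, 0, 0, 0, 0, 0, 1, 0⟩ rfl)
      revert h88; rintro ⟨-, -, e, -, -, -⟩
      simp only [fm_a1, fm_a2, fm_b2, fm_a3, fm_a4, fm_b4, fm_a5, fm_a6, fm_b6, fm_a7, fm_a8, fm_b8, ma8, mb8, ma7, ma6, ma4, ma1, ma2, mb2, ma3, z_s0, z_s1, z_mz, z_zm, z_mo, z_om, z_az, z_za, z_op, z_p2, z_p3] at e
      linear_combination e
    exact pV_iff.2 ⟨ma1, ma2, mb2, ma3, ma4, ma5, ma6, ma7, ma8, mb8⟩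

/-- `Y = {x ∈ U | [U, x] ≤ V}` -/
theorem u_Y (c : Cd K) : (pY K) c = (pY K) zc ↔ (pU K) c = (pU K) zc ∧ ∀ d, (pU K) d = (pU K) zc →
    (pV K) (mul σ d c) = (pV K) (mul σ c d) := by
  constructor
  · intro h
    obtain ⟨ma1, ma2, mb2, ma3, ma4, ma6, ma7, ma8, mb8⟩ := pY_iff.1 h
    simp only [zc] at ma1 ma2 mb2 ma3 ma4 ma6 ma7 ma8 mb8
    refine ⟨?_, fun d hd => ?_⟩
    · rfl
    · exact pV_iff.2 ⟨(by (try simp only [fm_a1, fm_a2, fm_b2, fm_a3, fm_a4, fm_b4, fm_a5, fm_a6, fm_b6, fm_a7, fm_a8, fm_b8, ma1, ma2, mb2, ma3, ma4, ma6, ma7, ma8, mb8, z_s0, z_s1, z_mz, z_zm, z_mo, z_om, z_az, z_za, z_op, z_p2, z_p3]) <;> ring1),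
        (by (try simp only [fm_a1, fm_a2, fm_b2, fm_a3, fm_a4, fm_b4, fm_a5, fm_a6, fm_b6, fm_a7, fm_a8, fm_b8, ma1, ma2, mb2, ma3, ma4, ma6, ma7, ma8, mb8, z_s0, z_s1, z_mz, z_zm, z_mo, z_om, z_az, z_za, z_op, z_p2, z_p3]) <;> ring1),
        (by (try simp only [fm_a1, fm_a2, fm_b2, fm_a3, fm_a4, fm_b4, fm_a5, fm_a6, fm_b6, fm_a7, fm_a8, fm_b8, ma1, ma2, mb2, ma3, ma4, ma6, ma7, ma8, mb8, z_s0, z_s1, z_mz, z_zm, z_mo, z_om, z_az, z_za, z_op, z_p2, z_p3]) <;> ring1),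
        (by (try simp only [fm_a1, fm_a2, fm_b2, fm_a3, fm_a4, fm_b4, fm_a5, fm_a6, fm_b6, fm_a7, fm_a8, fm_b8, ma1, ma2, mb2, ma3, ma4, ma6, ma7, ma8, mb8, z_s0, z_s1, z_mz, z_zm, z_mo, z_om, z_az, z_za, z_op, z_p2, z_p3]) <;> ring1),
        (by (try simp only [fm_a1, fm_a2, fm_b2, fm_a3, fm_a4, fm_b4, fm_a5, fm_a6, fm_b6, fm_a7, fm_a8, fm_b8, ma1, ma2, mb2, ma3, ma4, ma6, ma7, ma8, mb8, z_s0, z_s1, z_mz, z_zm, z_mo, z_om, z_az, z_za, z_op, z_p2, z_p3]) <;> ring1),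
        (by (try simp only [fm_a1, fm_a2, fm_b2, fm_a3, fm_a4, fm_b4, fm_a5, fm_a6, fm_b6, fm_a7, fm_a8, fm_b8, ma1, ma2, mb2, ma3, ma4, ma6, ma7, ma8, mb8, z_s0, z_s1, z_mz, z_zm, z_mo, z_om, z_az, z_za, z_op, z_p2, z_p3]) <;> ring1),
        (by (try simp only [fm_a1, fm_a2, fm_b2, fm_a3, fm_a4, fm_b4, fm_a5, fm_a6, fm_b6, fm_a7, fm_a8, fm_b8, ma1, ma2, mb2, ma3, ma4, ma6, ma7, ma8, mb8, z_s0, z_s1, z_mz, z_zm, z_mo, z_om, z_az, z_za, z_op, z_p2, z_p3]) <;> ring1),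
        (by (try simp only [fm_a1, fm_a2, fm_b2, fm_a3, fm_a4, fm_b4, fm_a5, fm_a6, fm_b6, fm_a7, fm_a8, fm_b8, ma1, ma2, mb2, ma3, ma4, ma6, ma7, ma8, mb8, z_s0, z_s1, z_mz, z_zm, z_mo, z_om, z_az, z_za, z_op, z_p2, z_p3]) <;> ring1),
        (by (try simp only [fm_a1, fm_a2, fm_b2, fm_a3, fm_a4, fm_b4, fm_a5, fm_a6, fm_b6, fm_a7, fm_a8, fm_b8, ma1, ma2, mb2, ma3, ma4, ma6, ma7, ma8, mb8, z_s0, z_s1, z_mz, z_zm, z_mo, z_om, z_az, z_za, z_op, z_p2, z_p3]) <;> ring1),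
        (by (try simp only [fm_a1, fm_a2, fm_b2, fm_a3, fm_a4, fm_b4, fm_a5, fm_a6, fm_b6, fm_a7, fm_a8, fm_b8, ma1, ma2, mb2, ma3, ma4, ma6, ma7, ma8, mb8, z_s0, z_s1, z_mz, z_zm, z_mo, z_om, z_az, z_za, z_op, z_p2, z_p3]) <;> ring1)⟩
  · rintro ⟨h0, h⟩
    have ma8 : c.a8 = 0 := by
      obtain ⟨-, e, -, -, -, h88⟩ := pV_iff.1 (h ⟨1, 0, 0, 0, 0, 0, 0, 0, 0, 0, 0, 0⟩ rfl)
      revert h88; rintro ⟨-, -, -, -, -⟩
      simp only [fm_a1, fm_a2, fm_b2, fm_a3, fm_a4, fm_b4, fm_a5, fm_a6, fm_b6, fm_a7, fm_a8, fm_b8, z_s0, z_s1, z_mz, z_zm, z_mo, z_om, z_az, z_za, z_op, z_p2, z_p3] at e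
      linear_combination -e
    have mb8 : c.b8 = 0 := by
      obtain ⟨-, -, -, -, e, h88⟩ := pV_iff.1 (h ⟨1, 0, 0, 0, 0, 0, 0, 0, 0, 0, 0, 0⟩ rfl)
      revert h88; rintro ⟨-, -, -, -, -⟩
      simp only [fm_a1, fm_a2, fm_b2, fm_a3, fm_a4, fm_b4, fm_a5, fm_a6, fm_b6, fm_a7, fm_a8, fm_b8, ma8, z_s0, z_s1, z_mz, z_zm, z_mo, z_om, z_az, z_za, z_op, z_p2, z_p3] at e
      linear_combination -e
    have ma7 : c.a7 = 0 := by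
      obtain ⟨-, -, -, -, -, h88⟩ := pV_iff.1 (h ⟨1, 0, 0, 0, 0, 0, 0, 0, 0, 0, 0, 0⟩ rfl)
      revert h88; rintro ⟨e, -, -, -, -⟩
      simp only [fm_a1, fm_a2, fm_b2, fm_a3, fm_a4, fm_b4, fm_a5, fm_a6, fm_b6, fm_a7, fm_a8, fm_b8, ma8, mb8, z_s0, z_s1, z_mz, z_zm, z_mo, z_om, z_az, z_za, z_op, z_p2, z_p3] at e
      exact (map_eq_zero σ).1 (by linear_combination -e)
    have ma6 : c.a6 = 0 := by
      obtain ⟨-, -, -, e, -, h88⟩ := pV_iff.1 (h ⟨1, 0, 0, 0, 0, 0, 0, 0, 0, 0, 0, 0⟩ rfl)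
      revert h88; rintro ⟨-, -, -, -, -⟩
      simp only [fm_a1, fm_a2, fm_b2, fm_a3, fm_a4, fm_b4, fm_a5, fm_a6, fm_b6, fm_a7, fm_a8, fm_b8, ma8, mb8, ma7, z_s0, z_s1, z_mz, z_zm, z_mo, z_om, z_az, z_za, z_op, z_p2, z_p3] at e
      exact (map_eq_zero σ).1 (by linear_combination -e)
    have ma4 : c.a4 = 0 := by
      obtain ⟨-, -, e, -, -, h88⟩ := pV_iff.1 (h ⟨1, 0, 0, 0, 0, 0, 0, 0, 0, 0, 0, 0⟩ rfl)
      revert h88; rintro ⟨-, -, -, -, -⟩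
      simp only [fm_a1, fm_a2, fm_b2, fm_a3, fm_a4, fm_b4, fm_a5, fm_a6, fm_b6, fm_a7, fm_a8, fm_b8, ma8, mb8, ma7, ma6, z_s0, z_s1, z_mz, z_zm, z_mo, z_om, z_az, z_za, z_op, z_p2, z_p3] at e
      linear_combination -e
    have ma1 : c.a1 = 0 := by
      obtain ⟨-, -, e, -, -, h88⟩ := pV_iff.1 (h ⟨0, 0, 0, 0, 1, 0, 0, 0, 0, 0, 0, 0⟩ rfl)
      revert h88; rintro ⟨-, -, -, -, -⟩
      simp only [fm_a1, fm_a2, fm_b2, fm_a3, fm_a4, fm_b4, fm_a5, fm_a6, fm_b6, fm_a7, fm_a8, fm_b8, ma8, mb8, ma7, ma6, ma4, z_s0, z_s1, z_mz, z_zm, z_mo, z_om, z_az, z_za, z_op, z_p2, z_p3] at e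
      linear_combination e
    have ma2 : c.a2 = 0 := by
      obtain ⟨-, -, -, e, -, h88⟩ := pV_iff.1 (h ⟨0, 0, 0, 0, 1, 0, 0, 0, 0, 0, 0, 0⟩ rfl)
      revert h88; rintro ⟨-, -, -, -, -⟩
      simp only [fm_a1, fm_a2, fm_b2, fm_a3, fm_a4, fm_b4, fm_a5, fm_a6, fm_b6, fm_a7, fm_a8, fm_b8, ma8, mb8, ma7, ma6, ma4, ma1, z_s0, z_s1, z_mz, z_zm, z_mo, z_om, z_az, z_za, z_op, z_p2, z_p3] at e
      linear_combination e
    have mb2 : c.b2 = 0 := by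
      obtain ⟨-, -, -, e, -, h88⟩ := pV_iff.1 (h ⟨0, 0, 0, 0, 0, 0, 0, 0, 0, 0, 1, 0⟩ rfl)
      revert h88; rintro ⟨-, -, -, -, -⟩
      simp only [fm_a1, fm_a2, fm_b2, fm_a3, fm_a4, fm_b4, fm_a5, fm_a6, fm_b6, fm_a7, fm_a8, fm_b8, ma8, mb8, ma7, ma6, ma4, ma1, ma2, z_s0, z_s1, z_mz, z_zm, z_mo, z_om, z_az, z_za, z_op, z_p2, z_p3] at e
      linear_combination e
    have ma3 : c.a3 = 0 := by
      obtain ⟨-, -, -, -, -, h88⟩ := pV_iff.1 (h ⟨0, 0, 0, 0, 0, 0, 0, 0, 0, 0, 1, 0⟩ rfl)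
      revert h88; rintro ⟨e, -, -, -, -⟩
      simp only [fm_a1, fm_a2, fm_b2, fm_a3, fm_a4, fm_b4, fm_a5, fm_a6, fm_b6, fm_a7, fm_a8, fm_b8, ma8, mb8, ma7, ma6, ma4, ma1, ma2, mb2, z_s0, z_s1, z_mz, z_zm, z_mo, z_om, z_az, z_za, z_op, z_p2, z_p3] at e
      linear_combination e
    exact pY_iff.2 ⟨ma1, ma2, mb2, ma3, ma4, ma6, ma7, ma8, mb8⟩

/-- `E4 = {x ∈ U | [U, x] ≤ Y}` -/
theorem u_E4 (c : Cd K) : (pE4 K) c = (pE4 K) zc ↔ (pU K) c = (pU K) zc ∧ ∀ d, (pU K) d = (pU K) zc →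
    (pY K) (mul σ d c) = (pY K) (mul σ c d) := by
  constructor
  · intro h
    obtain ⟨ma1, ma2, mb2, ma4, ma6, ma7, ma8, mb8⟩ := pE4_iff.1 h
    simp only [zc] at ma1 ma2 mb2 ma4 ma6 ma7 ma8 mb8
    refine ⟨?_, fun d hd => ?_⟩
    · rfl
    · exact pY_iff.2 ⟨(by (try simp only [fm_a1, fm_a2, fm_b2, fm_a3, fm_a4, fm_b4, fm_a5, fm_a6, fm_b6, fm_a7, fm_a8, fm_b8, ma1, ma2, mb2, ma4, ma6, ma7, ma8, mb8, z_s0, z_s1, z_mz, z_zm, z_mo, z_om, z_az, z_za, z_op, z_p2, z_p3]) <;> ring1),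
        (by (try simp only [fm_a1, fm_a2, fm_b2, fm_a3, fm_a4, fm_b4, fm_a5, fm_a6, fm_b6, fm_a7, fm_a8, fm_b8, ma1, ma2, mb2, ma4, ma6, ma7, ma8, mb8, z_s0, z_s1, z_mz, z_zm, z_mo, z_om, z_az, z_za, z_op, z_p2, z_p3]) <;> ring1),
        (by (try simp only [fm_a1, fm_a2, fm_b2, fm_a3, fm_a4, fm_b4, fm_a5, fm_a6, fm_b6, fm_a7, fm_a8, fm_b8, ma1, ma2, mb2, ma4, ma6, ma7, ma8, mb8, z_s0, z_s1, z_mz, z_zm, z_mo, z_om, z_az, z_za, z_op, z_p2, z_p3]) <;> ring1),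
        (by (try simp only [fm_a1, fm_a2, fm_b2, fm_a3, fm_a4, fm_b4, fm_a5, fm_a6, fm_b6, fm_a7, fm_a8, fm_b8, ma1, ma2, mb2, ma4, ma6, ma7, ma8, mb8, z_s0, z_s1, z_mz, z_zm, z_mo, z_om, z_az, z_za, z_op, z_p2, z_p3]) <;> ring1),
        (by (try simp only [fm_a1, fm_a2, fm_b2, fm_a3, fm_a4, fm_b4, fm_a5, fm_a6, fm_b6, fm_a7, fm_a8, fm_b8, ma1, ma2, mb2, ma4, ma6, ma7, ma8, mb8, z_s0, z_s1, z_mz, z_zm, z_mo, z_om, z_az, z_za, z_op, z_p2, z_p3]) <;> ring1),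
        (by (try simp only [fm_a1, fm_a2, fm_b2, fm_a3, fm_a4, fm_b4, fm_a5, fm_a6, fm_b6, fm_a7, fm_a8, fm_b8, ma1, ma2, mb2, ma4, ma6, ma7, ma8, mb8, z_s0, z_s1, z_mz, z_zm, z_mo, z_om, z_az, z_za, z_op, z_p2, z_p3]) <;> ring1),
        (by (try simp only [fm_a1, fm_a2, fm_b2, fm_a3, fm_a4, fm_b4, fm_a5, fm_a6, fm_b6, fm_a7, fm_a8, fm_b8, ma1, ma2, mb2, ma4, ma6, ma7, ma8, mb8, z_s0, z_s1, z_mz, z_zm, z_mo, z_om, z_az, z_za, z_op, z_p2, z_p3]) <;> ring1),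
        (by (try simp only [fm_a1, fm_a2, fm_b2, fm_a3, fm_a4, fm_b4, fm_a5, fm_a6, fm_b6, fm_a7, fm_a8, fm_b8, ma1, ma2, mb2, ma4, ma6, ma7, ma8, mb8, z_s0, z_s1, z_mz, z_zm, z_mo, z_om, z_az, z_za, z_op, z_p2, z_p3]) <;> ring1),
        (by (try simp only [fm_a1, fm_a2, fm_b2, fm_a3, fm_a4, fm_b4, fm_a5, fm_a6, fm_b6, fm_a7, fm_a8, fm_b8, ma1, ma2, mb2, ma4, ma6, ma7, ma8, mb8, z_s0, z_s1, z_mz, z_zm, z_mo, z_om, z_az, z_za, z_op, z_p2, z_p3]) <;> ring1)⟩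
  · rintro ⟨h0, h⟩
    have ma8 : c.a8 = 0 := by
      obtain ⟨-, e, -, -, -, -, -, -, -⟩ := pY_iff.1 (h ⟨1, 0, 0, 0, 0, 0, 0, 0, 0, 0, 0, 0⟩ rfl)
      simp only [fm_a1, fm_a2, fm_b2, fm_a3, fm_a4, fm_b4, fm_a5, fm_a6, fm_b6, fm_a7, fm_a8, fm_b8, z_s0, z_s1, z_mz, z_zm, z_mo, z_om, z_az, z_za, z_op, z_p2, z_p3] at e
      linear_combination -e
    have mb8 : c.b8 = 0 := by
      obtain ⟨-, -, -, -, e, -, -, -, -⟩ := pY_iff.1 (h ⟨1, 0, 0, 0, 0, 0, 0, 0, 0, 0, 0, 0⟩ rfl)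
      simp only [fm_a1, fm_a2, fm_b2, fm_a3, fm_a4, fm_b4, fm_a5, fm_a6, fm_b6, fm_a7, fm_a8, fm_b8, ma8, z_s0, z_s1, z_mz, z_zm, z_mo, z_om, z_az, z_za, z_op, z_p2, z_p3] at e
      linear_combination -e
    have ma4 : c.a4 = 0 := by
      obtain ⟨-, -, -, e, -, -, -, -, -⟩ := pY_iff.1 (h ⟨0, 1, 0, 0, 0, 0, 0, 0, 0, 0, 0, 0⟩ rfl)
      simp only [fm_a1, fm_a2, fm_b2, fm_a3, fm_a4, fm_b4, fm_a5, fm_a6, fm_b6, fm_a7, fm_a8, fm_b8, ma8, mb8, z_s0, z_s1, z_mz, z_zm, z_mo, z_om, z_az, z_za, z_op, z_p2, z_p3] at e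
      linear_combination -e
    have ma6 : c.a6 = 0 := by
      obtain ⟨-, -, e, -, -, -, -, -, -⟩ := pY_iff.1 (h ⟨1, 0, 0, 0, 0, 0, 0, 0, 0, 0, 0, 0⟩ rfl)
      simp only [fm_a1, fm_a2, fm_b2, fm_a3, fm_a4, fm_b4, fm_a5, fm_a6, fm_b6, fm_a7, fm_a8, fm_b8, ma8, mb8, ma4, z_s0, z_s1, z_mz, z_zm, z_mo, z_om, z_az, z_za, z_op, z_p2, z_p3] at e
      linear_combination -e
    have ma7 : c.a7 = 0 := by
      obtain ⟨-, -, -, e, -, -, -, -, -⟩ := pY_iff.1 (h ⟨1, 0, 0, 0, 0, 0, 0, 0, 0, 0, 0, 0⟩ rfl)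
      simp only [fm_a1, fm_a2, fm_b2, fm_a3, fm_a4, fm_b4, fm_a5, fm_a6, fm_b6, fm_a7, fm_a8, fm_b8, ma8, mb8, ma4, ma6, z_s0, z_s1, z_mz, z_zm, z_mo, z_om, z_az, z_za, z_op, z_p2, z_p3] at e
      linear_combination -e
    have ma1 : c.a1 = 0 := by
      obtain ⟨-, -, e, -, -, -, -, -, -⟩ := pY_iff.1 (h ⟨0, 0, 0, 0, 1, 0, 0, 0, 0, 0, 0, 0⟩ rfl)
      simp only [fm_a1, fm_a2, fm_b2, fm_a3, fm_a4, fm_b4, fm_a5, fm_a6, fm_b6, fm_a7, fm_a8, fm_b8, ma8, mb8, ma4, ma6, ma7, z_s0, z_s1, z_mz, z_zm, z_mo, z_om, z_az, z_za, z_op, z_p2, z_p3] at e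
      linear_combination e
    have ma2 : c.a2 = 0 := by
      obtain ⟨-, -, -, e, -, -, -, -, -⟩ := pY_iff.1 (h ⟨0, 0, 0, 0, 1, 0, 0, 0, 0, 0, 0, 0⟩ rfl)
      simp only [fm_a1, fm_a2, fm_b2, fm_a3, fm_a4, fm_b4, fm_a5, fm_a6, fm_b6, fm_a7, fm_a8, fm_b8, ma8, mb8, ma4, ma6, ma7, ma1, z_s0, z_s1, z_mz, z_zm, z_mo, z_om, z_az, z_za, z_op, z_p2, z_p3] at e
      linear_combination e
    have mb2 : c.b2 = 0 := by
      obtain ⟨-, -, -, e, -, -, -, -, -⟩ := pY_iff.1 (h ⟨0, 0, 0, 0, 0, 0, 0, 0, 0, 0, 1, 0⟩ rfl)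
      simp only [fm_a1, fm_a2, fm_b2, fm_a3, fm_a4, fm_b4, fm_a5, fm_a6, fm_b6, fm_a7, fm_a8, fm_b8, ma8, mb8, ma4, ma6, ma7, ma1, ma2, z_s0, z_s1, z_mz, z_zm, z_mo, z_om, z_az, z_za, z_op, z_p2, z_p3] at e
      linear_combination e
    exact pE4_iff.2 ⟨ma1, ma2, mb2, ma4, ma6, ma7, ma8, mb8⟩

/-- `B = {x ∈ U | [V, x] ≤ 1}` -/
theorem u_B (c : Cd K) : (pB K) c = (pB K) zc ↔ (pU K) c = (pU K) zc ∧ ∀ d, (pV K) d = (pV K) zc →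
    (fun c : Cd K => c) (mul σ d c) = (fun c : Cd K => c) (mul σ c d) := by
  constructor
  · intro h
    have ma1 := pB_iff.1 h
    simp only [zc] at ma1
    refine ⟨?_, fun d hd => ?_⟩
    · rfl
    · obtain ⟨na1, na2, nb2, na3, na4, na5, na6, na7, na8, nb8⟩ := pV_iff.1 hd
      simp only [zc] at na1 na2 nb2 na3 na4 na5 na6 na7 na8 nb8
      exact p1_iff.2 ⟨(by (try simp only [fm_a1, fm_a2, fm_b2, fm_a3, fm_a4, fm_b4, fm_a5, fm_a6, fm_b6, fm_a7, fm_a8, fm_b8, ma1, na1, na2, nb2, na3, na4, na5, na6, na7, na8, nb8, z_s0, z_s1, z_mz, z_zm, z_mo, z_om, z_az, z_za, z_op, z_p2, z_p3]) <;> ring1),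
        (by (try simp only [fm_a1, fm_a2, fm_b2, fm_a3, fm_a4, fm_b4, fm_a5, fm_a6, fm_b6, fm_a7, fm_a8, fm_b8, ma1, na1, na2, nb2, na3, na4, na5, na6, na7, na8, nb8, z_s0, z_s1, z_mz, z_zm, z_mo, z_om, z_az, z_za, z_op, z_p2, z_p3]) <;> ring1),
        (by (try simp only [fm_a1, fm_a2, fm_b2, fm_a3, fm_a4, fm_b4, fm_a5, fm_a6, fm_b6, fm_a7, fm_a8, fm_b8, ma1, na1, na2, nb2, na3, na4, na5, na6, na7, na8, nb8, z_s0, z_s1, z_mz, z_zm, z_mo, z_om, z_az, z_za, z_op, z_p2, z_p3]) <;> ring1),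
        (by (try simp only [fm_a1, fm_a2, fm_b2, fm_a3, fm_a4, fm_b4, fm_a5, fm_a6, fm_b6, fm_a7, fm_a8, fm_b8, ma1, na1, na2, nb2, na3, na4, na5, na6, na7, na8, nb8, z_s0, z_s1, z_mz, z_zm, z_mo, z_om, z_az, z_za, z_op, z_p2, z_p3]) <;> ring1),
        (by (try simp only [fm_a1, fm_a2, fm_b2, fm_a3, fm_a4, fm_b4, fm_a5, fm_a6, fm_b6, fm_a7, fm_a8, fm_b8, ma1, na1, na2, nb2, na3, na4, na5, na6, na7, na8, nb8, z_s0, z_s1, z_mz, z_zm, z_mo, z_om, z_az, z_za, z_op, z_p2, z_p3]) <;> ring1),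
        (by (try simp only [fm_a1, fm_a2, fm_b2, fm_a3, fm_a4, fm_b4, fm_a5, fm_a6, fm_b6, fm_a7, fm_a8, fm_b8, ma1, na1, na2, nb2, na3, na4, na5, na6, na7, na8, nb8, z_s0, z_s1, z_mz, z_zm, z_mo, z_om, z_az, z_za, z_op, z_p2, z_p3]) <;> ring1),
        (by (try simp only [fm_a1, fm_a2, fm_b2, fm_a3, fm_a4, fm_b4, fm_a5, fm_a6, fm_b6, fm_a7, fm_a8, fm_b8, ma1, na1, na2, nb2, na3, na4, na5, na6, na7, na8, nb8, z_s0, z_s1, z_mz, z_zm, z_mo, z_om, z_az, z_za, z_op, z_p2, z_p3]) <;> ring1),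
        (by (try simp only [fm_a1, fm_a2, fm_b2, fm_a3, fm_a4, fm_b4, fm_a5, fm_a6, fm_b6, fm_a7, fm_a8, fm_b8, ma1, na1, na2, nb2, na3, na4, na5, na6, na7, na8, nb8, z_s0, z_s1, z_mz, z_zm, z_mo, z_om, z_az, z_za, z_op, z_p2, z_p3]) <;> ring1),
        (by (try simp only [fm_a1, fm_a2, fm_b2, fm_a3, fm_a4, fm_b4, fm_a5, fm_a6, fm_b6, fm_a7, fm_a8, fm_b8, ma1, na1, na2, nb2, na3, na4, na5, na6, na7, na8, nb8, z_s0, z_s1, z_mz, z_zm, z_mo, z_om, z_az, z_za, z_op, z_p2, z_p3]) <;> ring1),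
        (by (try simp only [fm_a1, fm_a2, fm_b2, fm_a3, fm_a4, fm_b4, fm_a5, fm_a6, fm_b6, fm_a7, fm_a8, fm_b8, ma1, na1, na2, nb2, na3, na4, na5, na6, na7, na8, nb8, z_s0, z_s1, z_mz, z_zm, z_mo, z_om, z_az, z_za, z_op, z_p2, z_p3]) <;> ring1),
        (by (try simp only [fm_a1, fm_a2, fm_b2, fm_a3, fm_a4, fm_b4, fm_a5, fm_a6, fm_b6, fm_a7, fm_a8, fm_b8, ma1, na1, na2, nb2, na3, na4, na5, na6, na7, na8, nb8, z_s0, z_s1, z_mz, z_zm, z_mo, z_om, z_az, z_za, z_op, z_p2, z_p3]) <;> ring1),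
        (by (try simp only [fm_a1, fm_a2, fm_b2, fm_a3, fm_a4, fm_b4, fm_a5, fm_a6, fm_b6, fm_a7, fm_a8, fm_b8, ma1, na1, na2, nb2, na3, na4, na5, na6, na7, na8, nb8, z_s0, z_s1, z_mz, z_zm, z_mo, z_om, z_az, z_za, z_op, z_p2, z_p3]) <;> ring1)⟩
  · rintro ⟨h0, h⟩
    have ma1 : c.a1 = 0 := by
      obtain ⟨-, -, -, -, -, e, -, -, -, -, -, -⟩ := p1_iff.1 (h ⟨0, 0, 0, 0, 0, 0, 0, 0, 1, 0, 0, 0⟩ rfl)
      simp only [fm_a1, fm_a2, fm_b2, fm_a3, fm_a4, fm_b4, fm_a5, fm_a6, fm_b6, fm_a7, fm_a8, fm_b8, z_s0, z_s1, z_mz, z_zm, z_mo, z_om, z_az, z_za, z_op, z_p2, z_p3] at e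
      linear_combination e
    exact pB_iff.2 ma1

/-- `Q = {x ∈ U | [E4, x] ≤ Z}` -/
theorem u_Q (c : Cd K) : (pQ K) c = (pQ K) zc ↔ (pU K) c = (pU K) zc ∧ ∀ d, (pE4 K) d = (pE4 K) zc →
    (pZ K) (mul σ d c) = (pZ K) (mul σ c d) := by
  constructor
  · intro h
    obtain ⟨ma8, mb8⟩ := pQ_iff.1 h
    simp only [zc] at ma8 mb8
    refine ⟨?_, fun d hd => ?_⟩
    · rfl
    · obtain ⟨na1, na2, nb2, na4, na6, na7, na8, nb8⟩ := pE4_iff.1 hd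
      simp only [zc] at na1 na2 nb2 na4 na6 na7 na8 nb8
      exact pZ_iff.2 ⟨(by (try simp only [fm_a1, fm_a2, fm_b2, fm_a3, fm_a4, fm_b4, fm_a5, fm_a6, fm_b6, fm_a7, fm_a8, fm_b8, ma8, mb8, na1, na2, nb2, na4, na6, na7, na8, nb8, z_s0, z_s1, z_mz, z_zm, z_mo, z_om, z_az, z_za, z_op, z_p2, z_p3]) <;> ring1),
        (by (try simp only [fm_a1, fm_a2, fm_b2, fm_a3, fm_a4, fm_b4, fm_a5, fm_a6, fm_b6, fm_a7, fm_a8, fm_b8, ma8, mb8, na1, na2, nb2, na4, na6, na7, na8, nb8, z_s0, z_s1, z_mz, z_zm, z_mo, z_om, z_az, z_za, z_op, z_p2, z_p3]) <;> ring1),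
        (by (try simp only [fm_a1, fm_a2, fm_b2, fm_a3, fm_a4, fm_b4, fm_a5, fm_a6, fm_b6, fm_a7, fm_a8, fm_b8, ma8, mb8, na1, na2, nb2, na4, na6, na7, na8, nb8, z_s0, z_s1, z_mz, z_zm, z_mo, z_om, z_az, z_za, z_op, z_p2, z_p3]) <;> ring1),
        (by (try simp only [fm_a1, fm_a2, fm_b2, fm_a3, fm_a4, fm_b4, fm_a5, fm_a6, fm_b6, fm_a7, fm_a8, fm_b8, ma8, mb8, na1, na2, nb2, na4, na6, na7, na8, nb8, z_s0, z_s1, z_mz, z_zm, z_mo, z_om, z_az, z_za, z_op, z_p2, z_p3]) <;> ring1),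
        (by (try simp only [fm_a1, fm_a2, fm_b2, fm_a3, fm_a4, fm_b4, fm_a5, fm_a6, fm_b6, fm_a7, fm_a8, fm_b8, ma8, mb8, na1, na2, nb2, na4, na6, na7, na8, nb8, z_s0, z_s1, z_mz, z_zm, z_mo, z_om, z_az, z_za, z_op, z_p2, z_p3]) <;> ring1),
        (by (try simp only [fm_a1, fm_a2, fm_b2, fm_a3, fm_a4, fm_b4, fm_a5, fm_a6, fm_b6, fm_a7, fm_a8, fm_b8, ma8, mb8, na1, na2, nb2, na4, na6, na7, na8, nb8, z_s0, z_s1, z_mz, z_zm, z_mo, z_om, z_az, z_za, z_op, z_p2, z_p3]) <;> ring1),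
        (by (try simp only [fm_a1, fm_a2, fm_b2, fm_a3, fm_a4, fm_b4, fm_a5, fm_a6, fm_b6, fm_a7, fm_a8, fm_b8, ma8, mb8, na1, na2, nb2, na4, na6, na7, na8, nb8, z_s0, z_s1, z_mz, z_zm, z_mo, z_om, z_az, z_za, z_op, z_p2, z_p3]) <;> ring1),
        (by (try simp only [fm_a1, fm_a2, fm_b2, fm_a3, fm_a4, fm_b4, fm_a5, fm_a6, fm_b6, fm_a7, fm_a8, fm_b8, ma8, mb8, na1, na2, nb2, na4, na6, na7, na8, nb8, z_s0, z_s1, z_mz, z_zm, z_mo, z_om, z_az, z_za, z_op, z_p2, z_p3]) <;> ring1),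
        (by (try simp only [fm_a1, fm_a2, fm_b2, fm_a3, fm_a4, fm_b4, fm_a5, fm_a6, fm_b6, fm_a7, fm_a8, fm_b8, ma8, mb8, na1, na2, nb2, na4, na6, na7, na8, nb8, z_s0, z_s1, z_mz, z_zm, z_mo, z_om, z_az, z_za, z_op, z_p2, z_p3]) <;> ring1),
        (by (try simp only [fm_a1, fm_a2, fm_b2, fm_a3, fm_a4, fm_b4, fm_a5, fm_a6, fm_b6, fm_a7, fm_a8, fm_b8, ma8, mb8, na1, na2, nb2, na4, na6, na7, na8, nb8, z_s0, z_s1, z_mz, z_zm, z_mo, z_om, z_az, z_za, z_op, z_p2, z_p3]) <;> ring1),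
        (by (try simp only [fm_a1, fm_a2, fm_b2, fm_a3, fm_a4, fm_b4, fm_a5, fm_a6, fm_b6, fm_a7, fm_a8, fm_b8, ma8, mb8, na1, na2, nb2, na4, na6, na7, na8, nb8, z_s0, z_s1, z_mz, z_zm, z_mo, z_om, z_az, z_za, z_op, z_p2, z_p3]) <;> ring1)⟩
  · rintro ⟨h0, h⟩
    have ma8 : c.a8 = 0 := by
      obtain ⟨-, -, -, -, -, e, -, -, -, -, -⟩ := pZ_iff.1 (h ⟨0, 0, 0, 1, 0, 0, 0, 0, 0, 0, 0, 0⟩ rfl)
      simp only [fm_a1, fm_a2, fm_b2, fm_a3, fm_a4, fm_b4, fm_a5, fm_a6, fm_b6, fm_a7, fm_a8, fm_b8, z_s0, z_s1, z_mz, z_zm, z_mo, z_om, z_az, z_za, z_op, z_p2, z_p3] at e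
      exact (map_eq_zero σ).1 (by linear_combination -e)
    have mb8 : c.b8 = 0 := by
      obtain ⟨-, -, -, -, -, -, -, e, -, -, -⟩ := pZ_iff.1 (h ⟨0, 0, 0, 1, 0, 0, 0, 0, 0, 0, 0, 0⟩ rfl)
      simp only [fm_a1, fm_a2, fm_b2, fm_a3, fm_a4, fm_b4, fm_a5, fm_a6, fm_b6, fm_a7, fm_a8, fm_b8, ma8, z_s0, z_s1, z_mz, z_zm, z_mo, z_om, z_az, z_za, z_op, z_p2, z_p3] at e
      linear_combination -e
    exact pQ_iff.2 ⟨ma8, mb8⟩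

/-- `D = {x ∈ U | [E, x] ≤ 1}` -/
theorem u_D (c : Cd K) : (pD K) c = (pD K) zc ↔ (pU K) c = (pU K) zc ∧ ∀ d, (pE K) d = (pE K) zc →
    (fun c : Cd K => c) (mul σ d c) = (fun c : Cd K => c) (mul σ c d) := by
  constructor
  · intro h
    obtain ⟨ma1, ma2, ma6, ma7, ma8, mb8⟩ := pD_iff.1 h
    simp only [zc] at ma1 ma2 ma6 ma7 ma8 mb8
    refine ⟨?_, fun d hd => ?_⟩
    · rfl
    · obtain ⟨na1, na2, na4, na6, na7, na8, nb8⟩ := pE_iff.1 hd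
      simp only [zc] at na1 na2 na4 na6 na7 na8 nb8
      exact p1_iff.2 ⟨(by (try simp only [fm_a1, fm_a2, fm_b2, fm_a3, fm_a4, fm_b4, fm_a5, fm_a6, fm_b6, fm_a7, fm_a8, fm_b8, ma1, ma2, ma6, ma7, ma8, mb8, na1, na2, na4, na6, na7, na8, nb8, z_s0, z_s1, z_mz, z_zm, z_mo, z_om, z_az, z_za, z_op, z_p2, z_p3]) <;> ring1),
        (by (try simp only [fm_a1, fm_a2, fm_b2, fm_a3, fm_a4, fm_b4, fm_a5, fm_a6, fm_b6, fm_a7, fm_a8, fm_b8, ma1, ma2, ma6, ma7, ma8, mb8, na1, na2, na4, na6, na7, na8, nb8, z_s0, z_s1, z_mz, z_zm, z_mo, z_om, z_az, z_za, z_op, z_p2, z_p3]) <;> ring1),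
        (by (try simp only [fm_a1, fm_a2, fm_b2, fm_a3, fm_a4, fm_b4, fm_a5, fm_a6, fm_b6, fm_a7, fm_a8, fm_b8, ma1, ma2, ma6, ma7, ma8, mb8, na1, na2, na4, na6, na7, na8, nb8, z_s0, z_s1, z_mz, z_zm, z_mo, z_om, z_az, z_za, z_op, z_p2, z_p3]) <;> ring1),
        (by (try simp only [fm_a1, fm_a2, fm_b2, fm_a3, fm_a4, fm_b4, fm_a5, fm_a6, fm_b6, fm_a7, fm_a8, fm_b8, ma1, ma2, ma6, ma7, ma8, mb8, na1, na2, na4, na6, na7, na8, nb8, z_s0, z_s1, z_mz, z_zm, z_mo, z_om, z_az, z_za, z_op, z_p2, z_p3]) <;> ring1),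
        (by (try simp only [fm_a1, fm_a2, fm_b2, fm_a3, fm_a4, fm_b4, fm_a5, fm_a6, fm_b6, fm_a7, fm_a8, fm_b8, ma1, ma2, ma6, ma7, ma8, mb8, na1, na2, na4, na6, na7, na8, nb8, z_s0, z_s1, z_mz, z_zm, z_mo, z_om, z_az, z_za, z_op, z_p2, z_p3]) <;> ring1),
        (by (try simp only [fm_a1, fm_a2, fm_b2, fm_a3, fm_a4, fm_b4, fm_a5, fm_a6, fm_b6, fm_a7, fm_a8, fm_b8, ma1, ma2, ma6, ma7, ma8, mb8, na1, na2, na4, na6, na7, na8, nb8, z_s0, z_s1, z_mz, z_zm, z_mo, z_om, z_az, z_za, z_op, z_p2, z_p3]) <;> ring1),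
        (by (try simp only [fm_a1, fm_a2, fm_b2, fm_a3, fm_a4, fm_b4, fm_a5, fm_a6, fm_b6, fm_a7, fm_a8, fm_b8, ma1, ma2, ma6, ma7, ma8, mb8, na1, na2, na4, na6, na7, na8, nb8, z_s0, z_s1, z_mz, z_zm, z_mo, z_om, z_az, z_za, z_op, z_p2, z_p3]) <;> ring1),
        (by (try simp only [fm_a1, fm_a2, fm_b2, fm_a3, fm_a4, fm_b4, fm_a5, fm_a6, fm_b6, fm_a7, fm_a8, fm_b8, ma1, ma2, ma6, ma7, ma8, mb8, na1, na2, na4, na6, na7, na8, nb8, z_s0, z_s1, z_mz, z_zm, z_mo, z_om, z_az, z_za, z_op, z_p2, z_p3]) <;> ring1),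
        (by (try simp only [fm_a1, fm_a2, fm_b2, fm_a3, fm_a4, fm_b4, fm_a5, fm_a6, fm_b6, fm_a7, fm_a8, fm_b8, ma1, ma2, ma6, ma7, ma8, mb8, na1, na2, na4, na6, na7, na8, nb8, z_s0, z_s1, z_mz, z_zm, z_mo, z_om, z_az, z_za, z_op, z_p2, z_p3]) <;> ring1),
        (by (try simp only [fm_a1, fm_a2, fm_b2, fm_a3, fm_a4, fm_b4, fm_a5, fm_a6, fm_b6, fm_a7, fm_a8, fm_b8, ma1, ma2, ma6, ma7, ma8, mb8, na1, na2, na4, na6, na7, na8, nb8, z_s0, z_s1, z_mz, z_zm, z_mo, z_om, z_az, z_za, z_op, z_p2, z_p3]) <;> ring1),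
        (by (try simp only [fm_a1, fm_a2, fm_b2, fm_a3, fm_a4, fm_b4, fm_a5, fm_a6, fm_b6, fm_a7, fm_a8, fm_b8, ma1, ma2, ma6, ma7, ma8, mb8, na1, na2, na4, na6, na7, na8, nb8, z_s0, z_s1, z_mz, z_zm, z_mo, z_om, z_az, z_za, z_op, z_p2, z_p3]) <;> ring1),
        (by (try simp only [fm_a1, fm_a2, fm_b2, fm_a3, fm_a4, fm_b4, fm_a5, fm_a6, fm_b6, fm_a7, fm_a8, fm_b8, ma1, ma2, ma6, ma7, ma8, mb8, na1, na2, na4, na6, na7, na8, nb8, z_s0, z_s1, z_mz, z_zm, z_mo, z_om, z_az, z_za, z_op, z_p2, z_p3]) <;> ring1)⟩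
  · rintro ⟨h0, h⟩
    have ma8 : c.a8 = 0 := by
      obtain ⟨-, -, -, e, -, -, -, -, -, -, -, -⟩ := p1_iff.1 (h ⟨0, 0, 1, 0, 0, 0, 0, 0, 0, 0, 0, 0⟩ rfl)
      simp only [fm_a1, fm_a2, fm_b2, fm_a3, fm_a4, fm_b4, fm_a5, fm_a6, fm_b6, fm_a7, fm_a8, fm_b8, z_s0, z_s1, z_mz, z_zm, z_mo, z_om, z_az, z_za, z_op, z_p2, z_p3] at e
      linear_combination -e
    have mb8 : c.b8 = 0 := by
      obtain ⟨-, -, -, -, -, -, e, -, -, -, -, -⟩ := p1_iff.1 (h ⟨0, 0, 1, 0, 0, 0, 0, 0, 0, 0, 0, 0⟩ rfl)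
      simp only [fm_a1, fm_a2, fm_b2, fm_a3, fm_a4, fm_b4, fm_a5, fm_a6, fm_b6, fm_a7, fm_a8, fm_b8, ma8, z_s0, z_s1, z_mz, z_zm, z_mo, z_om, z_az, z_za, z_op, z_p2, z_p3] at e
      linear_combination -e
    have ma7 : c.a7 = 0 := by
      obtain ⟨-, -, -, -, -, e, -, -, -, -, -, -⟩ := p1_iff.1 (h ⟨0, 0, 1, 0, 0, 0, 0, 0, 0, 0, 0, 0⟩ rfl)
      simp only [fm_a1, fm_a2, fm_b2, fm_a3, fm_a4, fm_b4, fm_a5, fm_a6, fm_b6, fm_a7, fm_a8, fm_b8, ma8, mb8, z_s0, z_s1, z_mz, z_zm, z_mo, z_om, z_az, z_za, z_op, z_p2, z_p3] at e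
      linear_combination -e
    have ma6 : c.a6 = 0 := by
      obtain ⟨-, -, -, -, -, e, -, -, -, -, -, -⟩ := p1_iff.1 (h ⟨0, 0, 0, 1, 0, 0, 0, 0, 0, 0, 0, 0⟩ rfl)
      simp only [fm_a1, fm_a2, fm_b2, fm_a3, fm_a4, fm_b4, fm_a5, fm_a6, fm_b6, fm_a7, fm_a8, fm_b8, ma8, mb8, ma7, z_s0, z_s1, z_mz, z_zm, z_mo, z_om, z_az, z_za, z_op, z_p2, z_p3] at e
      linear_combination -e
    have ma2 : c.a2 = 0 := by
      obtain ⟨-, -, -, -, -, e, -, -, -, -, -, -⟩ := p1_iff.1 (h ⟨0, 0, 0, 0, 0, 0, 1, 0, 0, 0, 0, 0⟩ rfl)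
      simp only [fm_a1, fm_a2, fm_b2, fm_a3, fm_a4, fm_b4, fm_a5, fm_a6, fm_b6, fm_a7, fm_a8, fm_b8, ma8, mb8, ma7, ma6, z_s0, z_s1, z_mz, z_zm, z_mo, z_om, z_az, z_za, z_op, z_p2, z_p3] at e
      linear_combination e
    have ma1 : c.a1 = 0 := by
      obtain ⟨-, -, -, -, -, e, -, -, -, -, -, -⟩ := p1_iff.1 (h ⟨0, 0, 0, 0, 0, 0, 0, 0, 1, 0, 0, 0⟩ rfl)
      simp only [fm_a1, fm_a2, fm_b2, fm_a3, fm_a4, fm_b4, fm_a5, fm_a6, fm_b6, fm_a7, fm_a8, fm_b8, ma8, mb8, ma7, ma6, ma2, z_s0, z_s1, z_mz, z_zm, z_mo, z_om, z_az, z_za, z_op, z_p2, z_p3] at e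
      linear_combination e
    exact pD_iff.2 ⟨ma1, ma2, ma6, ma7, ma8, mb8⟩

end Cfsg.Agent.H181.TF
end

-- part: H181/TF/Facts2
section
prune_inst 0x30104500742202000800000002000060200000020043400011000000090f1041a945060142300a1081d41cb07800404000000109422800000a003a00400700208007000206100f041e0009802802000000000000000000000000000000041000000000000
set_option linter.all false

/-!
# S5262: chains, in coordinates (helper181, generated)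

`ch_M_N : p_M c = p_M 0 → p_N (d c) = p_N (c d)`, i.e. `[U, M] ≤ N`.
-/

set_option autoImplicit false
set_option linter.all false
set_option maxHeartbeats 1000000

namespace Cfsg.Agent.H181.TF

open Cfsg.Agent.H745.TF

universe u v w

private theorem fm_a1_v3 {K : Type u} [Field K] (σ : K →+* K) (c d : Cd K) : (mul σ c d).a1 = c.a1 + d.a1 := rfl
private theorem fm_a2_v3 {K : Type u} [Field K] (σ : K →+* K) (c d : Cd K) : (mul σ c d).a2 = c.a2 + d.a2 + c.a8 * d.a1 := rfl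
private theorem fm_b2_v3 {K : Type u} [Field K] (σ : K →+* K) (c d : Cd K) : (mul σ c d).b2 = c.b2 + d.b2 + c.a2 * σ d.a2 + c.a4 * d.a1 + c.a6 * σ d.a1 + c.a2 * σ c.a8 * σ d.a1 + c.a8 * d.a1 * σ d.a2 + c.b8 *
    d.a1 * σ d.a1 := rfl
private theorem fm_a3_v3 {K : Type u} [Field K] (σ : K →+* K) (c d : Cd K) : (mul σ c d).a3 = c.a3 + d.a3 + c.a4 * d.a2 + σ c.a6 * d.a1 + c.a7 * σ d.a1 + c.a8 * d.b2 + c.a4 * c.a8 * d.a1 + c.a8 * d.a2 * σ d.a2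
    + σ c.b8 * d.a1 * σ d.a1 + c.b8 * σ d.a1 * d.a2 + c.a8 * c.b8 * d.a1 * σ d.a1 + c.a8 ^ 2 * σ c.a8 * d.a1 * σ d.a1 := rfl
private theorem fm_a4_v3 {K : Type u} [Field K] (σ : K →+* K) (c d : Cd K) : (mul σ c d).a4 = c.a4 + d.a4 + c.a8 * σ d.a2 + c.b8 * σ d.a1 := rfl
private theorem fm_b4_v3 {K : Type u} [Field K] (σ : K →+* K) (c d : Cd K) : (mul σ c d).b4 = c.b4 + d.b4 + c.a4 * σ d.a4 + c.a5 * d.a2 + c.a6 * d.a3 + c.a7 * d.b2 + c.a8 * σ d.a3 + c.b6 * d.a1 + c.b8 * σ d.b2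
    + c.a5 * c.a8 * d.a1 + c.a6 * c.a7 * σ d.a1 + c.a6 * c.a8 * d.b2 + σ c.a7 * d.a1 * d.a2 + c.a7 * d.a2 * σ d.a2 + σ
    c.a8 * d.a2 * d.a3 + c.a8 * σ d.a2 * σ d.a4 + σ c.b8 * d.a1 * d.b2 + c.b8 * σ d.a1 * σ d.a4 + c.b8 * d.a1 * d.a3 +
    c.b8 * d.a2 * d.b2 + c.a4 * σ c.a8 * d.a2 ^ 2 + c.a4 * σ c.b8 * d.a1 ^ 2 + c.a6 * c.a8 * d.a2 * σ d.a2 + c.a6 * σ
    c.b8 * d.a1 * σ d.a1 + c.a6 * c.b8 * σ d.a1 * d.a2 + σ c.a7 * c.a8 * d.a1 ^ 2 + c.a7 * σ c.a8 * σ d.a1 * d.a2 + c.a7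
    * c.b8 * d.a1 * σ d.a1 + c.a8 * σ c.a8 * d.a1 * d.a3 + c.a8 * σ c.a8 * d.a2 * d.b2 + σ c.b8 * d.a1 * d.a2 * σ d.a2 +
    c.b8 * d.a2 ^ 2 * σ d.a2 + c.a6 * c.a8 * c.b8 * d.a1 * σ d.a1 + c.a7 * c.a8 * σ c.a8 * d.a1 * σ d.a1 + σ c.a8 * σ
    c.b8 * d.a1 * σ d.a1 * d.a2 + σ c.a8 * c.b8 * σ d.a1 * d.a2 ^ 2 + c.a8 * σ c.a8 * d.a2 ^ 2 * σ d.a2 + c.b8 * σ c.b8
    * d.a1 ^ 2 * σ d.a1 + c.b8 ^ 2 * d.a1 * σ d.a1 * d.a2 + c.a6 * c.a8 ^ 2 * σ c.a8 * d.a1 * σ d.a1 + c.a8 * c.b8 ^ 2 *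
    d.a1 ^ 2 * σ d.a1 + c.a8 * σ c.a8 * σ c.b8 * d.a1 ^ 2 * σ d.a1 + c.a8 ^ 2 * (σ c.a8) ^ 2 * d.a1 * σ d.a1 * d.a2 +
    c.a8 ^ 3 * (σ c.a8) ^ 2 * d.a1 ^ 2 * σ d.a1 := rfl
private theorem fm_a5_v3 {K : Type u} [Field K] (σ : K →+* K) (c d : Cd K) : (mul σ c d).a5 = c.a5 + d.a5 + c.a6 * d.a4 + σ c.a7 * d.a1 + c.a7 * σ d.a2 + σ c.a8 * d.a3 + c.b8 * d.b2 + c.a6 * c.a8 * σ d.a2 +
    c.a6 * c.b8 * σ d.a1 + c.a7 * σ c.a8 * σ d.a1 + σ c.a8 * d.a2 * d.a4 + c.a8 * σ c.a8 * d.b2 + σ c.b8 * d.a1 * σ d.a2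
    + c.b8 * d.a1 * d.a4 + σ c.a8 * σ c.b8 * d.a1 * σ d.a1 + c.a8 * σ c.a8 * d.a1 * d.a4 + c.b8 ^ 2 * d.a1 * σ d.a1 +
    c.a8 ^ 2 * (σ c.a8) ^ 2 * d.a1 * σ d.a1 := rfl
private theorem fm_a6_v3 {K : Type u} [Field K] (σ : K →+* K) (c d : Cd K) : (mul σ c d).a6 = c.a6 + d.a6 + σ c.a8 * d.a2 + c.b8 * d.a1 + c.a8 * σ c.a8 * d.a1 := rfl
private theorem fm_b6_v3 {K : Type u} [Field K] (σ : K →+* K) (c d : Cd K) : (mul σ c d).b6 = c.b6 + d.b6 + c.a6 * σ d.a6 + σ c.a7 * d.a2 + c.a7 * d.a4 + c.a8 * d.a5 + σ c.b8 * d.b2 + c.b8 * d.a3 + c.a6 * σ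
    c.b8 * σ d.a1 + σ c.a7 * c.a8 * d.a1 + c.a7 * c.a8 * σ d.a2 + c.a7 * c.b8 * σ d.a1 + σ c.a8 * d.a2 * σ d.a6 + c.a8 *
    c.b8 * d.b2 + σ c.b8 * d.a1 * d.a4 + σ c.b8 * d.a2 * σ d.a2 + c.b8 * d.a1 * σ d.a6 + c.b8 * d.a2 * d.a4 + c.a6 *
    c.a8 ^ 2 * σ d.a2 + σ c.a8 * σ c.b8 * σ d.a1 * d.a2 + c.a8 * σ c.b8 * d.a1 * σ d.a2 + c.a8 * c.b8 * d.a1 * d.a4 +
    c.a8 * σ c.a8 * d.a1 * σ d.a6 + c.a8 ^ 2 * σ c.a8 * d.b2 + c.b8 ^ 2 * σ d.a1 * d.a2 + c.a6 * c.a8 ^ 2 * σ c.a8 * σ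
    d.a1 + c.a8 * c.b8 ^ 2 * d.a1 * σ d.a1 + c.a8 * σ c.a8 * σ c.b8 * d.a1 * σ d.a1 + c.a8 ^ 2 * σ c.a8 * d.a1 * d.a4 +
    c.a8 ^ 2 * (σ c.a8) ^ 2 * σ d.a1 * d.a2 + c.a8 ^ 3 * (σ c.a8) ^ 2 * d.a1 * σ d.a1 := rfl
private theorem fm_a7_v3 {K : Type u} [Field K] (σ : K →+* K) (c d : Cd K) : (mul σ c d).a7 = c.a7 + d.a7 + c.a8 * d.a6 + σ c.b8 * d.a1 + c.b8 * d.a2 + c.a8 * c.b8 * d.a1 + c.a8 ^ 2 * σ c.a8 * d.a1 := rfl
private theorem fm_a8_v3 {K : Type u} [Field K] (σ : K →+* K) (c d : Cd K) : (mul σ c d).a8 = c.a8 + d.a8 := rfl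
private theorem fm_b8_v3 {K : Type u} [Field K] (σ : K →+* K) (c d : Cd K) : (mul σ c d).b8 = c.b8 + d.b8 + c.a8 * σ d.a8 := rfl
private theorem z_s0_v3 {K : Type u} [Field K] (σ : K →+* K) : σ 0 = 0 := map_zero σ
private theorem z_s1_v3 {K : Type u} [Field K] (σ : K →+* K) : σ 1 = 1 := map_one σ
private theorem z_mz_v3 {K : Type u} [Field K] (a : K) : a * 0 = 0 := mul_zero a
private theorem z_zm_v3 {K : Type u} [Field K] (a : K) : 0 * a = 0 := zero_mul a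
private theorem z_mo_v3 {K : Type u} [Field K] (a : K) : a * 1 = a := mul_one a
private theorem z_om_v3 {K : Type u} [Field K] (a : K) : 1 * a = a := one_mul a
private theorem z_az_v3 {K : Type u} [Field K] (a : K) : a + 0 = a := add_zero a
private theorem z_za_v3 {K : Type u} [Field K] (a : K) : 0 + a = a := zero_add a
private theorem z_op_v3 {K : Type u} [Field K] (n : ℕ) : (1 : K) ^ n = 1 := one_pow n
private theorem z_p2_v3 {K : Type u} [Field K] : (0 : K) ^ 2 = 0 := zero_pow two_ne_zero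
private theorem z_p3_v3 {K : Type u} [Field K] : (0 : K) ^ 3 = 0 := zero_pow three_ne_zero

variable {K : Type u} [Field K] (σ : K →+* K)

/-- `[U, B] ≤ W` -/
theorem ch_B_W (c d : Cd K) (h : (pB K) c = (pB K) zc) : (pW K) (mul σ d c) = (pW K) (mul σ c d) := by
  have ma1 := pB_iff.1 h
  simp only [zc] at ma1
  exact pW_iff.2 ⟨(by (try simp only [fm_a1_v3, fm_a2_v3, fm_b2_v3, fm_a3_v3, fm_a4_v3, fm_b4_v3, fm_a5_v3, fm_a6_v3, fm_b6_v3, fm_a7_v3, fm_a8_v3, fm_b8_v3, ma1, z_s0_v3, z_s1_v3, z_mz_v3, z_zm_v3, z_mo_v3, z_om_v3, z_az_v3, z_za_v3, z_op_v3, z_p2_v3, z_p3_v3]) <;> ring1),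
    (by (try simp only [fm_a1_v3, fm_a2_v3, fm_b2_v3, fm_a3_v3, fm_a4_v3, fm_b4_v3, fm_a5_v3, fm_a6_v3, fm_b6_v3, fm_a7_v3, fm_a8_v3, fm_b8_v3, ma1, z_s0_v3, z_s1_v3, z_mz_v3, z_zm_v3, z_mo_v3, z_om_v3, z_az_v3, z_za_v3, z_op_v3, z_p2_v3, z_p3_v3]) <;> ring1)⟩

/-- `[U, W] ≤ N` -/
theorem ch_W_N (c d : Cd K) (h : (pW K) c = (pW K) zc) : (pN K) (mul σ d c) = (pN K) (mul σ c d) := by
  obtain ⟨ma1, ma8⟩ := pW_iff.1 h
  simp only [zc] at ma1 ma8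
  exact pN_iff.2 ⟨(by (try simp only [fm_a1_v3, fm_a2_v3, fm_b2_v3, fm_a3_v3, fm_a4_v3, fm_b4_v3, fm_a5_v3, fm_a6_v3, fm_b6_v3, fm_a7_v3, fm_a8_v3, fm_b8_v3, ma1, ma8, z_s0_v3, z_s1_v3, z_mz_v3, z_zm_v3, z_mo_v3, z_om_v3, z_az_v3, z_za_v3, z_op_v3, z_p2_v3, z_p3_v3]) <;> ring1),
    (by (try simp only [fm_a1_v3, fm_a2_v3, fm_b2_v3, fm_a3_v3, fm_a4_v3, fm_b4_v3, fm_a5_v3, fm_a6_v3, fm_b6_v3, fm_a7_v3, fm_a8_v3, fm_b8_v3, ma1, ma8, z_s0_v3, z_s1_v3, z_mz_v3, z_zm_v3, z_mo_v3, z_om_v3, z_az_v3, z_za_v3, z_op_v3, z_p2_v3, z_p3_v3]) <;> ring1),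
    (by (try simp only [fm_a1_v3, fm_a2_v3, fm_b2_v3, fm_a3_v3, fm_a4_v3, fm_b4_v3, fm_a5_v3, fm_a6_v3, fm_b6_v3, fm_a7_v3, fm_a8_v3, fm_b8_v3, ma1, ma8, z_s0_v3, z_s1_v3, z_mz_v3, z_zm_v3, z_mo_v3, z_om_v3, z_az_v3, z_za_v3, z_op_v3, z_p2_v3, z_p3_v3]) <;> ring1)⟩

/-- `[U, N] ≤ F` -/
theorem ch_N_F (c d : Cd K) (h : (pN K) c = (pN K) zc) : (pF K) (mul σ d c) = (pF K) (mul σ c d) := by
  obtain ⟨ma1, ma2, ma8⟩ := pN_iff.1 h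
  simp only [zc] at ma1 ma2 ma8
  exact pF_iff.2 ⟨(by (try simp only [fm_a1_v3, fm_a2_v3, fm_b2_v3, fm_a3_v3, fm_a4_v3, fm_b4_v3, fm_a5_v3, fm_a6_v3, fm_b6_v3, fm_a7_v3, fm_a8_v3, fm_b8_v3, ma1, ma2, ma8, z_s0_v3, z_s1_v3, z_mz_v3, z_zm_v3, z_mo_v3, z_om_v3, z_az_v3, z_za_v3, z_op_v3, z_p2_v3, z_p3_v3]) <;> ring1),
    (by (try simp only [fm_a1_v3, fm_a2_v3, fm_b2_v3, fm_a3_v3, fm_a4_v3, fm_b4_v3, fm_a5_v3, fm_a6_v3, fm_b6_v3, fm_a7_v3, fm_a8_v3, fm_b8_v3, ma1, ma2, ma8, z_s0_v3, z_s1_v3, z_mz_v3, z_zm_v3, z_mo_v3, z_om_v3, z_az_v3, z_za_v3, z_op_v3, z_p2_v3, z_p3_v3]) <;> ring1),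
    (by (try simp only [fm_a1_v3, fm_a2_v3, fm_b2_v3, fm_a3_v3, fm_a4_v3, fm_b4_v3, fm_a5_v3, fm_a6_v3, fm_b6_v3, fm_a7_v3, fm_a8_v3, fm_b8_v3, ma1, ma2, ma8, z_s0_v3, z_s1_v3, z_mz_v3, z_zm_v3, z_mo_v3, z_om_v3, z_az_v3, z_za_v3, z_op_v3, z_p2_v3, z_p3_v3]) <;> ring1),
    (by (try simp only [fm_a1_v3, fm_a2_v3, fm_b2_v3, fm_a3_v3, fm_a4_v3, fm_b4_v3, fm_a5_v3, fm_a6_v3, fm_b6_v3, fm_a7_v3, fm_a8_v3, fm_b8_v3, ma1, ma2, ma8, z_s0_v3, z_s1_v3, z_mz_v3, z_zm_v3, z_mo_v3, z_om_v3, z_az_v3, z_za_v3, z_op_v3, z_p2_v3, z_p3_v3]) <;> ring1)⟩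

/-- `[U, F] ≤ F0` -/
theorem ch_F_F0 (c d : Cd K) (h : (pF K) c = (pF K) zc) : (pF0 K) (mul σ d c) = (pF0 K) (mul σ c d) := by
  obtain ⟨ma1, ma2, ma8, mb8⟩ := pF_iff.1 h
  simp only [zc] at ma1 ma2 ma8 mb8
  exact pF0_iff.2 ⟨(by (try simp only [fm_a1_v3, fm_a2_v3, fm_b2_v3, fm_a3_v3, fm_a4_v3, fm_b4_v3, fm_a5_v3, fm_a6_v3, fm_b6_v3, fm_a7_v3, fm_a8_v3, fm_b8_v3, ma1, ma2, ma8, mb8, z_s0_v3, z_s1_v3, z_mz_v3, z_zm_v3, z_mo_v3, z_om_v3, z_az_v3, z_za_v3, z_op_v3, z_p2_v3, z_p3_v3]) <;> ring1),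
    (by (try simp only [fm_a1_v3, fm_a2_v3, fm_b2_v3, fm_a3_v3, fm_a4_v3, fm_b4_v3, fm_a5_v3, fm_a6_v3, fm_b6_v3, fm_a7_v3, fm_a8_v3, fm_b8_v3, ma1, ma2, ma8, mb8, z_s0_v3, z_s1_v3, z_mz_v3, z_zm_v3, z_mo_v3, z_om_v3, z_az_v3, z_za_v3, z_op_v3, z_p2_v3, z_p3_v3]) <;> ring1),
    (by (try simp only [fm_a1_v3, fm_a2_v3, fm_b2_v3, fm_a3_v3, fm_a4_v3, fm_b4_v3, fm_a5_v3, fm_a6_v3, fm_b6_v3, fm_a7_v3, fm_a8_v3, fm_b8_v3, ma1, ma2, ma8, mb8, z_s0_v3, z_s1_v3, z_mz_v3, z_zm_v3, z_mo_v3, z_om_v3, z_az_v3, z_za_v3, z_op_v3, z_p2_v3, z_p3_v3]) <;> ring1),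
    (by (try simp only [fm_a1_v3, fm_a2_v3, fm_b2_v3, fm_a3_v3, fm_a4_v3, fm_b4_v3, fm_a5_v3, fm_a6_v3, fm_b6_v3, fm_a7_v3, fm_a8_v3, fm_b8_v3, ma1, ma2, ma8, mb8, z_s0_v3, z_s1_v3, z_mz_v3, z_zm_v3, z_mo_v3, z_om_v3, z_az_v3, z_za_v3, z_op_v3, z_p2_v3, z_p3_v3]) <;> ring1),
    (by (try simp only [fm_a1_v3, fm_a2_v3, fm_b2_v3, fm_a3_v3, fm_a4_v3, fm_b4_v3, fm_a5_v3, fm_a6_v3, fm_b6_v3, fm_a7_v3, fm_a8_v3, fm_b8_v3, ma1, ma2, ma8, mb8, z_s0_v3, z_s1_v3, z_mz_v3, z_zm_v3, z_mo_v3, z_om_v3, z_az_v3, z_za_v3, z_op_v3, z_p2_v3, z_p3_v3]) <;> ring1),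
    (by (try simp only [fm_a1_v3, fm_a2_v3, fm_b2_v3, fm_a3_v3, fm_a4_v3, fm_b4_v3, fm_a5_v3, fm_a6_v3, fm_b6_v3, fm_a7_v3, fm_a8_v3, fm_b8_v3, ma1, ma2, ma8, mb8, z_s0_v3, z_s1_v3, z_mz_v3, z_zm_v3, z_mo_v3, z_om_v3, z_az_v3, z_za_v3, z_op_v3, z_p2_v3, z_p3_v3]) <;> ring1)⟩

/-- `[U, F0] ≤ A` -/
theorem ch_F0_A (c d : Cd K) (h : (pF0 K) c = (pF0 K) zc) : (pA K) (mul σ d c) = (pA K) (mul σ c d) := by
  obtain ⟨ma1, ma2, ma4, ma6, ma8, mb8⟩ := pF0_iff.1 h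
  simp only [zc] at ma1 ma2 ma4 ma6 ma8 mb8
  exact pA_iff.2 ⟨(by (try simp only [fm_a1_v3, fm_a2_v3, fm_b2_v3, fm_a3_v3, fm_a4_v3, fm_b4_v3, fm_a5_v3, fm_a6_v3, fm_b6_v3, fm_a7_v3, fm_a8_v3, fm_b8_v3, ma1, ma2, ma4, ma6, ma8, mb8, z_s0_v3, z_s1_v3, z_mz_v3, z_zm_v3, z_mo_v3, z_om_v3, z_az_v3, z_za_v3, z_op_v3, z_p2_v3, z_p3_v3]) <;> ring1),
    (by (try simp only [fm_a1_v3, fm_a2_v3, fm_b2_v3, fm_a3_v3, fm_a4_v3, fm_b4_v3, fm_a5_v3, fm_a6_v3, fm_b6_v3, fm_a7_v3, fm_a8_v3, fm_b8_v3, ma1, ma2, ma4, ma6, ma8, mb8, z_s0_v3, z_s1_v3, z_mz_v3, z_zm_v3, z_mo_v3, z_om_v3, z_az_v3, z_za_v3, z_op_v3, z_p2_v3, z_p3_v3]) <;> ring1),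
    (by (try simp only [fm_a1_v3, fm_a2_v3, fm_b2_v3, fm_a3_v3, fm_a4_v3, fm_b4_v3, fm_a5_v3, fm_a6_v3, fm_b6_v3, fm_a7_v3, fm_a8_v3, fm_b8_v3, ma1, ma2, ma4, ma6, ma8, mb8, z_s0_v3, z_s1_v3, z_mz_v3, z_zm_v3, z_mo_v3, z_om_v3, z_az_v3, z_za_v3, z_op_v3, z_p2_v3, z_p3_v3]) <;> ring1),
    (by (try simp only [fm_a1_v3, fm_a2_v3, fm_b2_v3, fm_a3_v3, fm_a4_v3, fm_b4_v3, fm_a5_v3, fm_a6_v3, fm_b6_v3, fm_a7_v3, fm_a8_v3, fm_b8_v3, ma1, ma2, ma4, ma6, ma8, mb8, z_s0_v3, z_s1_v3, z_mz_v3, z_zm_v3, z_mo_v3, z_om_v3, z_az_v3, z_za_v3, z_op_v3, z_p2_v3, z_p3_v3]) <;> ring1),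
    (by (try simp only [fm_a1_v3, fm_a2_v3, fm_b2_v3, fm_a3_v3, fm_a4_v3, fm_b4_v3, fm_a5_v3, fm_a6_v3, fm_b6_v3, fm_a7_v3, fm_a8_v3, fm_b8_v3, ma1, ma2, ma4, ma6, ma8, mb8, z_s0_v3, z_s1_v3, z_mz_v3, z_zm_v3, z_mo_v3, z_om_v3, z_az_v3, z_za_v3, z_op_v3, z_p2_v3, z_p3_v3]) <;> ring1),
    (by (try simp only [fm_a1_v3, fm_a2_v3, fm_b2_v3, fm_a3_v3, fm_a4_v3, fm_b4_v3, fm_a5_v3, fm_a6_v3, fm_b6_v3, fm_a7_v3, fm_a8_v3, fm_b8_v3, ma1, ma2, ma4, ma6, ma8, mb8, z_s0_v3, z_s1_v3, z_mz_v3, z_zm_v3, z_mo_v3, z_om_v3, z_az_v3, z_za_v3, z_op_v3, z_p2_v3, z_p3_v3]) <;> ring1),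
    (by (try simp only [fm_a1_v3, fm_a2_v3, fm_b2_v3, fm_a3_v3, fm_a4_v3, fm_b4_v3, fm_a5_v3, fm_a6_v3, fm_b6_v3, fm_a7_v3, fm_a8_v3, fm_b8_v3, ma1, ma2, ma4, ma6, ma8, mb8, z_s0_v3, z_s1_v3, z_mz_v3, z_zm_v3, z_mo_v3, z_om_v3, z_az_v3, z_za_v3, z_op_v3, z_p2_v3, z_p3_v3]) <;> ring1)⟩

/-- `[U, A] ≤ E4` -/
theorem ch_A_E4 (c d : Cd K) (h : (pA K) c = (pA K) zc) : (pE4 K) (mul σ d c) = (pE4 K) (mul σ c d) := by
  obtain ⟨ma1, ma2, mb2, ma4, ma6, ma8, mb8⟩ := pA_iff.1 h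
  simp only [zc] at ma1 ma2 mb2 ma4 ma6 ma8 mb8
  exact pE4_iff.2 ⟨(by (try simp only [fm_a1_v3, fm_a2_v3, fm_b2_v3, fm_a3_v3, fm_a4_v3, fm_b4_v3, fm_a5_v3, fm_a6_v3, fm_b6_v3, fm_a7_v3, fm_a8_v3, fm_b8_v3, ma1, ma2, mb2, ma4, ma6, ma8, mb8, z_s0_v3, z_s1_v3, z_mz_v3, z_zm_v3, z_mo_v3, z_om_v3, z_az_v3, z_za_v3, z_op_v3, z_p2_v3, z_p3_v3]) <;> ring1),
    (by (try simp only [fm_a1_v3, fm_a2_v3, fm_b2_v3, fm_a3_v3, fm_a4_v3, fm_b4_v3, fm_a5_v3, fm_a6_v3, fm_b6_v3, fm_a7_v3, fm_a8_v3, fm_b8_v3, ma1, ma2, mb2, ma4, ma6, ma8, mb8, z_s0_v3, z_s1_v3, z_mz_v3, z_zm_v3, z_mo_v3, z_om_v3, z_az_v3, z_za_v3, z_op_v3, z_p2_v3, z_p3_v3]) <;> ring1),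
    (by (try simp only [fm_a1_v3, fm_a2_v3, fm_b2_v3, fm_a3_v3, fm_a4_v3, fm_b4_v3, fm_a5_v3, fm_a6_v3, fm_b6_v3, fm_a7_v3, fm_a8_v3, fm_b8_v3, ma1, ma2, mb2, ma4, ma6, ma8, mb8, z_s0_v3, z_s1_v3, z_mz_v3, z_zm_v3, z_mo_v3, z_om_v3, z_az_v3, z_za_v3, z_op_v3, z_p2_v3, z_p3_v3]) <;> ring1),
    (by (try simp only [fm_a1_v3, fm_a2_v3, fm_b2_v3, fm_a3_v3, fm_a4_v3, fm_b4_v3, fm_a5_v3, fm_a6_v3, fm_b6_v3, fm_a7_v3, fm_a8_v3, fm_b8_v3, ma1, ma2, mb2, ma4, ma6, ma8, mb8, z_s0_v3, z_s1_v3, z_mz_v3, z_zm_v3, z_mo_v3, z_om_v3, z_az_v3, z_za_v3, z_op_v3, z_p2_v3, z_p3_v3]) <;> ring1),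
    (by (try simp only [fm_a1_v3, fm_a2_v3, fm_b2_v3, fm_a3_v3, fm_a4_v3, fm_b4_v3, fm_a5_v3, fm_a6_v3, fm_b6_v3, fm_a7_v3, fm_a8_v3, fm_b8_v3, ma1, ma2, mb2, ma4, ma6, ma8, mb8, z_s0_v3, z_s1_v3, z_mz_v3, z_zm_v3, z_mo_v3, z_om_v3, z_az_v3, z_za_v3, z_op_v3, z_p2_v3, z_p3_v3]) <;> ring1),
    (by (try simp only [fm_a1_v3, fm_a2_v3, fm_b2_v3, fm_a3_v3, fm_a4_v3, fm_b4_v3, fm_a5_v3, fm_a6_v3, fm_b6_v3, fm_a7_v3, fm_a8_v3, fm_b8_v3, ma1, ma2, mb2, ma4, ma6, ma8, mb8, z_s0_v3, z_s1_v3, z_mz_v3, z_zm_v3, z_mo_v3, z_om_v3, z_az_v3, z_za_v3, z_op_v3, z_p2_v3, z_p3_v3]) <;> ring1),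
    (by (try simp only [fm_a1_v3, fm_a2_v3, fm_b2_v3, fm_a3_v3, fm_a4_v3, fm_b4_v3, fm_a5_v3, fm_a6_v3, fm_b6_v3, fm_a7_v3, fm_a8_v3, fm_b8_v3, ma1, ma2, mb2, ma4, ma6, ma8, mb8, z_s0_v3, z_s1_v3, z_mz_v3, z_zm_v3, z_mo_v3, z_om_v3, z_az_v3, z_za_v3, z_op_v3, z_p2_v3, z_p3_v3]) <;> ring1),
    (by (try simp only [fm_a1_v3, fm_a2_v3, fm_b2_v3, fm_a3_v3, fm_a4_v3, fm_b4_v3, fm_a5_v3, fm_a6_v3, fm_b6_v3, fm_a7_v3, fm_a8_v3, fm_b8_v3, ma1, ma2, mb2, ma4, ma6, ma8, mb8, z_s0_v3, z_s1_v3, z_mz_v3, z_zm_v3, z_mo_v3, z_om_v3, z_az_v3, z_za_v3, z_op_v3, z_p2_v3, z_p3_v3]) <;> ring1)⟩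

/-- `[U, E4] ≤ Y` -/
theorem ch_E4_Y (c d : Cd K) (h : (pE4 K) c = (pE4 K) zc) : (pY K) (mul σ d c) = (pY K) (mul σ c d) := by
  obtain ⟨ma1, ma2, mb2, ma4, ma6, ma7, ma8, mb8⟩ := pE4_iff.1 h
  simp only [zc] at ma1 ma2 mb2 ma4 ma6 ma7 ma8 mb8
  exact pY_iff.2 ⟨(by (try simp only [fm_a1_v3, fm_a2_v3, fm_b2_v3, fm_a3_v3, fm_a4_v3, fm_b4_v3, fm_a5_v3, fm_a6_v3, fm_b6_v3, fm_a7_v3, fm_a8_v3, fm_b8_v3, ma1, ma2, mb2, ma4, ma6, ma7, ma8, mb8, z_s0_v3, z_s1_v3, z_mz_v3, z_zm_v3, z_mo_v3, z_om_v3, z_az_v3, z_za_v3, z_op_v3, z_p2_v3, z_p3_v3]) <;> ring1),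
    (by (try simp only [fm_a1_v3, fm_a2_v3, fm_b2_v3, fm_a3_v3, fm_a4_v3, fm_b4_v3, fm_a5_v3, fm_a6_v3, fm_b6_v3, fm_a7_v3, fm_a8_v3, fm_b8_v3, ma1, ma2, mb2, ma4, ma6, ma7, ma8, mb8, z_s0_v3, z_s1_v3, z_mz_v3, z_zm_v3, z_mo_v3, z_om_v3, z_az_v3, z_za_v3, z_op_v3, z_p2_v3, z_p3_v3]) <;> ring1),
    (by (try simp only [fm_a1_v3, fm_a2_v3, fm_b2_v3, fm_a3_v3, fm_a4_v3, fm_b4_v3, fm_a5_v3, fm_a6_v3, fm_b6_v3, fm_a7_v3, fm_a8_v3, fm_b8_v3, ma1, ma2, mb2, ma4, ma6, ma7, ma8, mb8, z_s0_v3, z_s1_v3, z_mz_v3, z_zm_v3, z_mo_v3, z_om_v3, z_az_v3, z_za_v3, z_op_v3, z_p2_v3, z_p3_v3]) <;> ring1),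
    (by (try simp only [fm_a1_v3, fm_a2_v3, fm_b2_v3, fm_a3_v3, fm_a4_v3, fm_b4_v3, fm_a5_v3, fm_a6_v3, fm_b6_v3, fm_a7_v3, fm_a8_v3, fm_b8_v3, ma1, ma2, mb2, ma4, ma6, ma7, ma8, mb8, z_s0_v3, z_s1_v3, z_mz_v3, z_zm_v3, z_mo_v3, z_om_v3, z_az_v3, z_za_v3, z_op_v3, z_p2_v3, z_p3_v3]) <;> ring1),
    (by (try simp only [fm_a1_v3, fm_a2_v3, fm_b2_v3, fm_a3_v3, fm_a4_v3, fm_b4_v3, fm_a5_v3, fm_a6_v3, fm_b6_v3, fm_a7_v3, fm_a8_v3, fm_b8_v3, ma1, ma2, mb2, ma4, ma6, ma7, ma8, mb8, z_s0_v3, z_s1_v3, z_mz_v3, z_zm_v3, z_mo_v3, z_om_v3, z_az_v3, z_za_v3, z_op_v3, z_p2_v3, z_p3_v3]) <;> ring1),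
    (by (try simp only [fm_a1_v3, fm_a2_v3, fm_b2_v3, fm_a3_v3, fm_a4_v3, fm_b4_v3, fm_a5_v3, fm_a6_v3, fm_b6_v3, fm_a7_v3, fm_a8_v3, fm_b8_v3, ma1, ma2, mb2, ma4, ma6, ma7, ma8, mb8, z_s0_v3, z_s1_v3, z_mz_v3, z_zm_v3, z_mo_v3, z_om_v3, z_az_v3, z_za_v3, z_op_v3, z_p2_v3, z_p3_v3]) <;> ring1),
    (by (try simp only [fm_a1_v3, fm_a2_v3, fm_b2_v3, fm_a3_v3, fm_a4_v3, fm_b4_v3, fm_a5_v3, fm_a6_v3, fm_b6_v3, fm_a7_v3, fm_a8_v3, fm_b8_v3, ma1, ma2, mb2, ma4, ma6, ma7, ma8, mb8, z_s0_v3, z_s1_v3, z_mz_v3, z_zm_v3, z_mo_v3, z_om_v3, z_az_v3, z_za_v3, z_op_v3, z_p2_v3, z_p3_v3]) <;> ring1),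
    (by (try simp only [fm_a1_v3, fm_a2_v3, fm_b2_v3, fm_a3_v3, fm_a4_v3, fm_b4_v3, fm_a5_v3, fm_a6_v3, fm_b6_v3, fm_a7_v3, fm_a8_v3, fm_b8_v3, ma1, ma2, mb2, ma4, ma6, ma7, ma8, mb8, z_s0_v3, z_s1_v3, z_mz_v3, z_zm_v3, z_mo_v3, z_om_v3, z_az_v3, z_za_v3, z_op_v3, z_p2_v3, z_p3_v3]) <;> ring1),
    (by (try simp only [fm_a1_v3, fm_a2_v3, fm_b2_v3, fm_a3_v3, fm_a4_v3, fm_b4_v3, fm_a5_v3, fm_a6_v3, fm_b6_v3, fm_a7_v3, fm_a8_v3, fm_b8_v3, ma1, ma2, mb2, ma4, ma6, ma7, ma8, mb8, z_s0_v3, z_s1_v3, z_mz_v3, z_zm_v3, z_mo_v3, z_om_v3, z_az_v3, z_za_v3, z_op_v3, z_p2_v3, z_p3_v3]) <;> ring1)⟩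

/-- `[U, Y] ≤ V` -/
theorem ch_Y_V (c d : Cd K) (h : (pY K) c = (pY K) zc) : (pV K) (mul σ d c) = (pV K) (mul σ c d) := by
  obtain ⟨ma1, ma2, mb2, ma3, ma4, ma6, ma7, ma8, mb8⟩ := pY_iff.1 h
  simp only [zc] at ma1 ma2 mb2 ma3 ma4 ma6 ma7 ma8 mb8
  exact pV_iff.2 ⟨(by (try simp only [fm_a1_v3, fm_a2_v3, fm_b2_v3, fm_a3_v3, fm_a4_v3, fm_b4_v3, fm_a5_v3, fm_a6_v3, fm_b6_v3, fm_a7_v3, fm_a8_v3, fm_b8_v3, ma1, ma2, mb2, ma3, ma4, ma6, ma7, ma8, mb8, z_s0_v3, z_s1_v3, z_mz_v3, z_zm_v3, z_mo_v3, z_om_v3, z_az_v3, z_za_v3, z_op_v3, z_p2_v3, z_p3_v3]) <;> ring1),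
    (by (try simp only [fm_a1_v3, fm_a2_v3, fm_b2_v3, fm_a3_v3, fm_a4_v3, fm_b4_v3, fm_a5_v3, fm_a6_v3, fm_b6_v3, fm_a7_v3, fm_a8_v3, fm_b8_v3, ma1, ma2, mb2, ma3, ma4, ma6, ma7, ma8, mb8, z_s0_v3, z_s1_v3, z_mz_v3, z_zm_v3, z_mo_v3, z_om_v3, z_az_v3, z_za_v3, z_op_v3, z_p2_v3, z_p3_v3]) <;> ring1),
    (by (try simp only [fm_a1_v3, fm_a2_v3, fm_b2_v3, fm_a3_v3, fm_a4_v3, fm_b4_v3, fm_a5_v3, fm_a6_v3, fm_b6_v3, fm_a7_v3, fm_a8_v3, fm_b8_v3, ma1, ma2, mb2, ma3, ma4, ma6, ma7, ma8, mb8, z_s0_v3, z_s1_v3, z_mz_v3, z_zm_v3, z_mo_v3, z_om_v3, z_az_v3, z_za_v3, z_op_v3, z_p2_v3, z_p3_v3]) <;> ring1),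
    (by (try simp only [fm_a1_v3, fm_a2_v3, fm_b2_v3, fm_a3_v3, fm_a4_v3, fm_b4_v3, fm_a5_v3, fm_a6_v3, fm_b6_v3, fm_a7_v3, fm_a8_v3, fm_b8_v3, ma1, ma2, mb2, ma3, ma4, ma6, ma7, ma8, mb8, z_s0_v3, z_s1_v3, z_mz_v3, z_zm_v3, z_mo_v3, z_om_v3, z_az_v3, z_za_v3, z_op_v3, z_p2_v3, z_p3_v3]) <;> ring1),
    (by (try simp only [fm_a1_v3, fm_a2_v3, fm_b2_v3, fm_a3_v3, fm_a4_v3, fm_b4_v3, fm_a5_v3, fm_a6_v3, fm_b6_v3, fm_a7_v3, fm_a8_v3, fm_b8_v3, ma1, ma2, mb2, ma3, ma4, ma6, ma7, ma8, mb8, z_s0_v3, z_s1_v3, z_mz_v3, z_zm_v3, z_mo_v3, z_om_v3, z_az_v3, z_za_v3, z_op_v3, z_p2_v3, z_p3_v3]) <;> ring1),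
    (by (try simp only [fm_a1_v3, fm_a2_v3, fm_b2_v3, fm_a3_v3, fm_a4_v3, fm_b4_v3, fm_a5_v3, fm_a6_v3, fm_b6_v3, fm_a7_v3, fm_a8_v3, fm_b8_v3, ma1, ma2, mb2, ma3, ma4, ma6, ma7, ma8, mb8, z_s0_v3, z_s1_v3, z_mz_v3, z_zm_v3, z_mo_v3, z_om_v3, z_az_v3, z_za_v3, z_op_v3, z_p2_v3, z_p3_v3]) <;> ring1),
    (by (try simp only [fm_a1_v3, fm_a2_v3, fm_b2_v3, fm_a3_v3, fm_a4_v3, fm_b4_v3, fm_a5_v3, fm_a6_v3, fm_b6_v3, fm_a7_v3, fm_a8_v3, fm_b8_v3, ma1, ma2, mb2, ma3, ma4, ma6, ma7, ma8, mb8, z_s0_v3, z_s1_v3, z_mz_v3, z_zm_v3, z_mo_v3, z_om_v3, z_az_v3, z_za_v3, z_op_v3, z_p2_v3, z_p3_v3]) <;> ring1),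
    (by (try simp only [fm_a1_v3, fm_a2_v3, fm_b2_v3, fm_a3_v3, fm_a4_v3, fm_b4_v3, fm_a5_v3, fm_a6_v3, fm_b6_v3, fm_a7_v3, fm_a8_v3, fm_b8_v3, ma1, ma2, mb2, ma3, ma4, ma6, ma7, ma8, mb8, z_s0_v3, z_s1_v3, z_mz_v3, z_zm_v3, z_mo_v3, z_om_v3, z_az_v3, z_za_v3, z_op_v3, z_p2_v3, z_p3_v3]) <;> ring1),
    (by (try simp only [fm_a1_v3, fm_a2_v3, fm_b2_v3, fm_a3_v3, fm_a4_v3, fm_b4_v3, fm_a5_v3, fm_a6_v3, fm_b6_v3, fm_a7_v3, fm_a8_v3, fm_b8_v3, ma1, ma2, mb2, ma3, ma4, ma6, ma7, ma8, mb8, z_s0_v3, z_s1_v3, z_mz_v3, z_zm_v3, z_mo_v3, z_om_v3, z_az_v3, z_za_v3, z_op_v3, z_p2_v3, z_p3_v3]) <;> ring1),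
    (by (try simp only [fm_a1_v3, fm_a2_v3, fm_b2_v3, fm_a3_v3, fm_a4_v3, fm_b4_v3, fm_a5_v3, fm_a6_v3, fm_b6_v3, fm_a7_v3, fm_a8_v3, fm_b8_v3, ma1, ma2, mb2, ma3, ma4, ma6, ma7, ma8, mb8, z_s0_v3, z_s1_v3, z_mz_v3, z_zm_v3, z_mo_v3, z_om_v3, z_az_v3, z_za_v3, z_op_v3, z_p2_v3, z_p3_v3]) <;> ring1)⟩

/-- `[U, V] ≤ Z` -/
theorem ch_V_Z (c d : Cd K) (h : (pV K) c = (pV K) zc) : (pZ K) (mul σ d c) = (pZ K) (mul σ c d) := by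
  obtain ⟨ma1, ma2, mb2, ma3, ma4, ma5, ma6, ma7, ma8, mb8⟩ := pV_iff.1 h
  simp only [zc] at ma1 ma2 mb2 ma3 ma4 ma5 ma6 ma7 ma8 mb8
  exact pZ_iff.2 ⟨(by (try simp only [fm_a1_v3, fm_a2_v3, fm_b2_v3, fm_a3_v3, fm_a4_v3, fm_b4_v3, fm_a5_v3, fm_a6_v3, fm_b6_v3, fm_a7_v3, fm_a8_v3, fm_b8_v3, ma1, ma2, mb2, ma3, ma4, ma5, ma6, ma7, ma8, mb8, z_s0_v3, z_s1_v3, z_mz_v3, z_zm_v3, z_mo_v3, z_om_v3, z_az_v3, z_za_v3, z_op_v3, z_p2_v3, z_p3_v3]) <;> ring1),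
    (by (try simp only [fm_a1_v3, fm_a2_v3, fm_b2_v3, fm_a3_v3, fm_a4_v3, fm_b4_v3, fm_a5_v3, fm_a6_v3, fm_b6_v3, fm_a7_v3, fm_a8_v3, fm_b8_v3, ma1, ma2, mb2, ma3, ma4, ma5, ma6, ma7, ma8, mb8, z_s0_v3, z_s1_v3, z_mz_v3, z_zm_v3, z_mo_v3, z_om_v3, z_az_v3, z_za_v3, z_op_v3, z_p2_v3, z_p3_v3]) <;> ring1),
    (by (try simp only [fm_a1_v3, fm_a2_v3, fm_b2_v3, fm_a3_v3, fm_a4_v3, fm_b4_v3, fm_a5_v3, fm_a6_v3, fm_b6_v3, fm_a7_v3, fm_a8_v3, fm_b8_v3, ma1, ma2, mb2, ma3, ma4, ma5, ma6, ma7, ma8, mb8, z_s0_v3, z_s1_v3, z_mz_v3, z_zm_v3, z_mo_v3, z_om_v3, z_az_v3, z_za_v3, z_op_v3, z_p2_v3, z_p3_v3]) <;> ring1),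
    (by (try simp only [fm_a1_v3, fm_a2_v3, fm_b2_v3, fm_a3_v3, fm_a4_v3, fm_b4_v3, fm_a5_v3, fm_a6_v3, fm_b6_v3, fm_a7_v3, fm_a8_v3, fm_b8_v3, ma1, ma2, mb2, ma3, ma4, ma5, ma6, ma7, ma8, mb8, z_s0_v3, z_s1_v3, z_mz_v3, z_zm_v3, z_mo_v3, z_om_v3, z_az_v3, z_za_v3, z_op_v3, z_p2_v3, z_p3_v3]) <;> ring1),
    (by (try simp only [fm_a1_v3, fm_a2_v3, fm_b2_v3, fm_a3_v3, fm_a4_v3, fm_b4_v3, fm_a5_v3, fm_a6_v3, fm_b6_v3, fm_a7_v3, fm_a8_v3, fm_b8_v3, ma1, ma2, mb2, ma3, ma4, ma5, ma6, ma7, ma8, mb8, z_s0_v3, z_s1_v3, z_mz_v3, z_zm_v3, z_mo_v3, z_om_v3, z_az_v3, z_za_v3, z_op_v3, z_p2_v3, z_p3_v3]) <;> ring1),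
    (by (try simp only [fm_a1_v3, fm_a2_v3, fm_b2_v3, fm_a3_v3, fm_a4_v3, fm_b4_v3, fm_a5_v3, fm_a6_v3, fm_b6_v3, fm_a7_v3, fm_a8_v3, fm_b8_v3, ma1, ma2, mb2, ma3, ma4, ma5, ma6, ma7, ma8, mb8, z_s0_v3, z_s1_v3, z_mz_v3, z_zm_v3, z_mo_v3, z_om_v3, z_az_v3, z_za_v3, z_op_v3, z_p2_v3, z_p3_v3]) <;> ring1),
    (by (try simp only [fm_a1_v3, fm_a2_v3, fm_b2_v3, fm_a3_v3, fm_a4_v3, fm_b4_v3, fm_a5_v3, fm_a6_v3, fm_b6_v3, fm_a7_v3, fm_a8_v3, fm_b8_v3, ma1, ma2, mb2, ma3, ma4, ma5, ma6, ma7, ma8, mb8, z_s0_v3, z_s1_v3, z_mz_v3, z_zm_v3, z_mo_v3, z_om_v3, z_az_v3, z_za_v3, z_op_v3, z_p2_v3, z_p3_v3]) <;> ring1),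
    (by (try simp only [fm_a1_v3, fm_a2_v3, fm_b2_v3, fm_a3_v3, fm_a4_v3, fm_b4_v3, fm_a5_v3, fm_a6_v3, fm_b6_v3, fm_a7_v3, fm_a8_v3, fm_b8_v3, ma1, ma2, mb2, ma3, ma4, ma5, ma6, ma7, ma8, mb8, z_s0_v3, z_s1_v3, z_mz_v3, z_zm_v3, z_mo_v3, z_om_v3, z_az_v3, z_za_v3, z_op_v3, z_p2_v3, z_p3_v3]) <;> ring1),
    (by (try simp only [fm_a1_v3, fm_a2_v3, fm_b2_v3, fm_a3_v3, fm_a4_v3, fm_b4_v3, fm_a5_v3, fm_a6_v3, fm_b6_v3, fm_a7_v3, fm_a8_v3, fm_b8_v3, ma1, ma2, mb2, ma3, ma4, ma5, ma6, ma7, ma8, mb8, z_s0_v3, z_s1_v3, z_mz_v3, z_zm_v3, z_mo_v3, z_om_v3, z_az_v3, z_za_v3, z_op_v3, z_p2_v3, z_p3_v3]) <;> ring1),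
    (by (try simp only [fm_a1_v3, fm_a2_v3, fm_b2_v3, fm_a3_v3, fm_a4_v3, fm_b4_v3, fm_a5_v3, fm_a6_v3, fm_b6_v3, fm_a7_v3, fm_a8_v3, fm_b8_v3, ma1, ma2, mb2, ma3, ma4, ma5, ma6, ma7, ma8, mb8, z_s0_v3, z_s1_v3, z_mz_v3, z_zm_v3, z_mo_v3, z_om_v3, z_az_v3, z_za_v3, z_op_v3, z_p2_v3, z_p3_v3]) <;> ring1),
    (by (try simp only [fm_a1_v3, fm_a2_v3, fm_b2_v3, fm_a3_v3, fm_a4_v3, fm_b4_v3, fm_a5_v3, fm_a6_v3, fm_b6_v3, fm_a7_v3, fm_a8_v3, fm_b8_v3, ma1, ma2, mb2, ma3, ma4, ma5, ma6, ma7, ma8, mb8, z_s0_v3, z_s1_v3, z_mz_v3, z_zm_v3, z_mo_v3, z_om_v3, z_az_v3, z_za_v3, z_op_v3, z_p2_v3, z_p3_v3]) <;> ring1)⟩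

/-- `[U, Z] ≤ 1` -/
theorem ch_Z_1 (c d : Cd K) (h : (pZ K) c = (pZ K) zc) : (fun c : Cd K => c) (mul σ d c) = (fun c : Cd K => c) (mul σ c d) := by
  obtain ⟨ma1, ma2, mb2, ma3, ma4, ma5, ma6, mb6, ma7, ma8, mb8⟩ := pZ_iff.1 h
  simp only [zc] at ma1 ma2 mb2 ma3 ma4 ma5 ma6 mb6 ma7 ma8 mb8
  exact p1_iff.2 ⟨(by (try simp only [fm_a1_v3, fm_a2_v3, fm_b2_v3, fm_a3_v3, fm_a4_v3, fm_b4_v3, fm_a5_v3, fm_a6_v3, fm_b6_v3, fm_a7_v3, fm_a8_v3, fm_b8_v3, ma1, ma2, mb2, ma3, ma4, ma5, ma6, mb6, ma7, ma8, mb8, z_s0_v3, z_s1_v3, z_mz_v3, z_zm_v3, z_mo_v3, z_om_v3, z_az_v3, z_za_v3, z_op_v3, z_p2_v3, z_p3_v3]) <;> ring1),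
    (by (try simp only [fm_a1_v3, fm_a2_v3, fm_b2_v3, fm_a3_v3, fm_a4_v3, fm_b4_v3, fm_a5_v3, fm_a6_v3, fm_b6_v3, fm_a7_v3, fm_a8_v3, fm_b8_v3, ma1, ma2, mb2, ma3, ma4, ma5, ma6, mb6, ma7, ma8, mb8, z_s0_v3, z_s1_v3, z_mz_v3, z_zm_v3, z_mo_v3, z_om_v3, z_az_v3, z_za_v3, z_op_v3, z_p2_v3, z_p3_v3]) <;> ring1),
    (by (try simp only [fm_a1_v3, fm_a2_v3, fm_b2_v3, fm_a3_v3, fm_a4_v3, fm_b4_v3, fm_a5_v3, fm_a6_v3, fm_b6_v3, fm_a7_v3, fm_a8_v3, fm_b8_v3, ma1, ma2, mb2, ma3, ma4, ma5, ma6, mb6, ma7, ma8, mb8, z_s0_v3, z_s1_v3, z_mz_v3, z_zm_v3, z_mo_v3, z_om_v3, z_az_v3, z_za_v3, z_op_v3, z_p2_v3, z_p3_v3]) <;> ring1),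
    (by (try simp only [fm_a1_v3, fm_a2_v3, fm_b2_v3, fm_a3_v3, fm_a4_v3, fm_b4_v3, fm_a5_v3, fm_a6_v3, fm_b6_v3, fm_a7_v3, fm_a8_v3, fm_b8_v3, ma1, ma2, mb2, ma3, ma4, ma5, ma6, mb6, ma7, ma8, mb8, z_s0_v3, z_s1_v3, z_mz_v3, z_zm_v3, z_mo_v3, z_om_v3, z_az_v3, z_za_v3, z_op_v3, z_p2_v3, z_p3_v3]) <;> ring1),
    (by (try simp only [fm_a1_v3, fm_a2_v3, fm_b2_v3, fm_a3_v3, fm_a4_v3, fm_b4_v3, fm_a5_v3, fm_a6_v3, fm_b6_v3, fm_a7_v3, fm_a8_v3, fm_b8_v3, ma1, ma2, mb2, ma3, ma4, ma5, ma6, mb6, ma7, ma8, mb8, z_s0_v3, z_s1_v3, z_mz_v3, z_zm_v3, z_mo_v3, z_om_v3, z_az_v3, z_za_v3, z_op_v3, z_p2_v3, z_p3_v3]) <;> ring1),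
    (by (try simp only [fm_a1_v3, fm_a2_v3, fm_b2_v3, fm_a3_v3, fm_a4_v3, fm_b4_v3, fm_a5_v3, fm_a6_v3, fm_b6_v3, fm_a7_v3, fm_a8_v3, fm_b8_v3, ma1, ma2, mb2, ma3, ma4, ma5, ma6, mb6, ma7, ma8, mb8, z_s0_v3, z_s1_v3, z_mz_v3, z_zm_v3, z_mo_v3, z_om_v3, z_az_v3, z_za_v3, z_op_v3, z_p2_v3, z_p3_v3]) <;> ring1),
    (by (try simp only [fm_a1_v3, fm_a2_v3, fm_b2_v3, fm_a3_v3, fm_a4_v3, fm_b4_v3, fm_a5_v3, fm_a6_v3, fm_b6_v3, fm_a7_v3, fm_a8_v3, fm_b8_v3, ma1, ma2, mb2, ma3, ma4, ma5, ma6, mb6, ma7, ma8, mb8, z_s0_v3, z_s1_v3, z_mz_v3, z_zm_v3, z_mo_v3, z_om_v3, z_az_v3, z_za_v3, z_op_v3, z_p2_v3, z_p3_v3]) <;> ring1),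
    (by (try simp only [fm_a1_v3, fm_a2_v3, fm_b2_v3, fm_a3_v3, fm_a4_v3, fm_b4_v3, fm_a5_v3, fm_a6_v3, fm_b6_v3, fm_a7_v3, fm_a8_v3, fm_b8_v3, ma1, ma2, mb2, ma3, ma4, ma5, ma6, mb6, ma7, ma8, mb8, z_s0_v3, z_s1_v3, z_mz_v3, z_zm_v3, z_mo_v3, z_om_v3, z_az_v3, z_za_v3, z_op_v3, z_p2_v3, z_p3_v3]) <;> ring1),
    (by (try simp only [fm_a1_v3, fm_a2_v3, fm_b2_v3, fm_a3_v3, fm_a4_v3, fm_b4_v3, fm_a5_v3, fm_a6_v3, fm_b6_v3, fm_a7_v3, fm_a8_v3, fm_b8_v3, ma1, ma2, mb2, ma3, ma4, ma5, ma6, mb6, ma7, ma8, mb8, z_s0_v3, z_s1_v3, z_mz_v3, z_zm_v3, z_mo_v3, z_om_v3, z_az_v3, z_za_v3, z_op_v3, z_p2_v3, z_p3_v3]) <;> ring1),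
    (by (try simp only [fm_a1_v3, fm_a2_v3, fm_b2_v3, fm_a3_v3, fm_a4_v3, fm_b4_v3, fm_a5_v3, fm_a6_v3, fm_b6_v3, fm_a7_v3, fm_a8_v3, fm_b8_v3, ma1, ma2, mb2, ma3, ma4, ma5, ma6, mb6, ma7, ma8, mb8, z_s0_v3, z_s1_v3, z_mz_v3, z_zm_v3, z_mo_v3, z_om_v3, z_az_v3, z_za_v3, z_op_v3, z_p2_v3, z_p3_v3]) <;> ring1),
    (by (try simp only [fm_a1_v3, fm_a2_v3, fm_b2_v3, fm_a3_v3, fm_a4_v3, fm_b4_v3, fm_a5_v3, fm_a6_v3, fm_b6_v3, fm_a7_v3, fm_a8_v3, fm_b8_v3, ma1, ma2, mb2, ma3, ma4, ma5, ma6, mb6, ma7, ma8, mb8, z_s0_v3, z_s1_v3, z_mz_v3, z_zm_v3, z_mo_v3, z_om_v3, z_az_v3, z_za_v3, z_op_v3, z_p2_v3, z_p3_v3]) <;> ring1),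
    (by (try simp only [fm_a1_v3, fm_a2_v3, fm_b2_v3, fm_a3_v3, fm_a4_v3, fm_b4_v3, fm_a5_v3, fm_a6_v3, fm_b6_v3, fm_a7_v3, fm_a8_v3, fm_b8_v3, ma1, ma2, mb2, ma3, ma4, ma5, ma6, mb6, ma7, ma8, mb8, z_s0_v3, z_s1_v3, z_mz_v3, z_zm_v3, z_mo_v3, z_om_v3, z_az_v3, z_za_v3, z_op_v3, z_p2_v3, z_p3_v3]) <;> ring1)⟩

/-- `[U, Q] ≤ 2` -/
theorem ch_Q_2 (c d : Cd K) (h : (pQ K) c = (pQ K) zc) : (p2 K) (mul σ d c) = (p2 K) (mul σ c d) := by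
  obtain ⟨ma8, mb8⟩ := pQ_iff.1 h
  simp only [zc] at ma8 mb8
  exact p2_iff.2 ⟨(by (try simp only [fm_a1_v3, fm_a2_v3, fm_b2_v3, fm_a3_v3, fm_a4_v3, fm_b4_v3, fm_a5_v3, fm_a6_v3, fm_b6_v3, fm_a7_v3, fm_a8_v3, fm_b8_v3, ma8, mb8, z_s0_v3, z_s1_v3, z_mz_v3, z_zm_v3, z_mo_v3, z_om_v3, z_az_v3, z_za_v3, z_op_v3, z_p2_v3, z_p3_v3]) <;> ring1),
    (by (try simp only [fm_a1_v3, fm_a2_v3, fm_b2_v3, fm_a3_v3, fm_a4_v3, fm_b4_v3, fm_a5_v3, fm_a6_v3, fm_b6_v3, fm_a7_v3, fm_a8_v3, fm_b8_v3, ma8, mb8, z_s0_v3, z_s1_v3, z_mz_v3, z_zm_v3, z_mo_v3, z_om_v3, z_az_v3, z_za_v3, z_op_v3, z_p2_v3, z_p3_v3]) <;> ring1),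
    (by (try simp only [fm_a1_v3, fm_a2_v3, fm_b2_v3, fm_a3_v3, fm_a4_v3, fm_b4_v3, fm_a5_v3, fm_a6_v3, fm_b6_v3, fm_a7_v3, fm_a8_v3, fm_b8_v3, ma8, mb8, z_s0_v3, z_s1_v3, z_mz_v3, z_zm_v3, z_mo_v3, z_om_v3, z_az_v3, z_za_v3, z_op_v3, z_p2_v3, z_p3_v3]) <;> ring1)⟩

/-- `[U, 2] ≤ F` -/
theorem ch_2_F (c d : Cd K) (h : (p2 K) c = (p2 K) zc) : (pF K) (mul σ d c) = (pF K) (mul σ c d) := by
  obtain ⟨ma1, ma8, mb8⟩ := p2_iff.1 h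
  simp only [zc] at ma1 ma8 mb8
  exact pF_iff.2 ⟨(by (try simp only [fm_a1_v3, fm_a2_v3, fm_b2_v3, fm_a3_v3, fm_a4_v3, fm_b4_v3, fm_a5_v3, fm_a6_v3, fm_b6_v3, fm_a7_v3, fm_a8_v3, fm_b8_v3, ma1, ma8, mb8, z_s0_v3, z_s1_v3, z_mz_v3, z_zm_v3, z_mo_v3, z_om_v3, z_az_v3, z_za_v3, z_op_v3, z_p2_v3, z_p3_v3]) <;> ring1),
    (by (try simp only [fm_a1_v3, fm_a2_v3, fm_b2_v3, fm_a3_v3, fm_a4_v3, fm_b4_v3, fm_a5_v3, fm_a6_v3, fm_b6_v3, fm_a7_v3, fm_a8_v3, fm_b8_v3, ma1, ma8, mb8, z_s0_v3, z_s1_v3, z_mz_v3, z_zm_v3, z_mo_v3, z_om_v3, z_az_v3, z_za_v3, z_op_v3, z_p2_v3, z_p3_v3]) <;> ring1),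
    (by (try simp only [fm_a1_v3, fm_a2_v3, fm_b2_v3, fm_a3_v3, fm_a4_v3, fm_b4_v3, fm_a5_v3, fm_a6_v3, fm_b6_v3, fm_a7_v3, fm_a8_v3, fm_b8_v3, ma1, ma8, mb8, z_s0_v3, z_s1_v3, z_mz_v3, z_zm_v3, z_mo_v3, z_om_v3, z_az_v3, z_za_v3, z_op_v3, z_p2_v3, z_p3_v3]) <;> ring1),
    (by (try simp only [fm_a1_v3, fm_a2_v3, fm_b2_v3, fm_a3_v3, fm_a4_v3, fm_b4_v3, fm_a5_v3, fm_a6_v3, fm_b6_v3, fm_a7_v3, fm_a8_v3, fm_b8_v3, ma1, ma8, mb8, z_s0_v3, z_s1_v3, z_mz_v3, z_zm_v3, z_mo_v3, z_om_v3, z_az_v3, z_za_v3, z_op_v3, z_p2_v3, z_p3_v3]) <;> ring1)⟩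

/-- `[U, F] ≤ 7` -/
theorem ch_F_7 (c d : Cd K) (h : (pF K) c = (pF K) zc) : (p7 K) (mul σ d c) = (p7 K) (mul σ c d) := by
  obtain ⟨ma1, ma2, ma8, mb8⟩ := pF_iff.1 h
  simp only [zc] at ma1 ma2 ma8 mb8
  exact p7_iff.2 ⟨(by (try simp only [fm_a1_v3, fm_a2_v3, fm_b2_v3, fm_a3_v3, fm_a4_v3, fm_b4_v3, fm_a5_v3, fm_a6_v3, fm_b6_v3, fm_a7_v3, fm_a8_v3, fm_b8_v3, ma1, ma2, ma8, mb8, z_s0_v3, z_s1_v3, z_mz_v3, z_zm_v3, z_mo_v3, z_om_v3, z_az_v3, z_za_v3, z_op_v3, z_p2_v3, z_p3_v3]) <;> ring1),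
    (by (try simp only [fm_a1_v3, fm_a2_v3, fm_b2_v3, fm_a3_v3, fm_a4_v3, fm_b4_v3, fm_a5_v3, fm_a6_v3, fm_b6_v3, fm_a7_v3, fm_a8_v3, fm_b8_v3, ma1, ma2, ma8, mb8, z_s0_v3, z_s1_v3, z_mz_v3, z_zm_v3, z_mo_v3, z_om_v3, z_az_v3, z_za_v3, z_op_v3, z_p2_v3, z_p3_v3]) <;> ring1),
    (by (try simp only [fm_a1_v3, fm_a2_v3, fm_b2_v3, fm_a3_v3, fm_a4_v3, fm_b4_v3, fm_a5_v3, fm_a6_v3, fm_b6_v3, fm_a7_v3, fm_a8_v3, fm_b8_v3, ma1, ma2, ma8, mb8, z_s0_v3, z_s1_v3, z_mz_v3, z_zm_v3, z_mo_v3, z_om_v3, z_az_v3, z_za_v3, z_op_v3, z_p2_v3, z_p3_v3]) <;> ring1),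
    (by (try simp only [fm_a1_v3, fm_a2_v3, fm_b2_v3, fm_a3_v3, fm_a4_v3, fm_b4_v3, fm_a5_v3, fm_a6_v3, fm_b6_v3, fm_a7_v3, fm_a8_v3, fm_b8_v3, ma1, ma2, ma8, mb8, z_s0_v3, z_s1_v3, z_mz_v3, z_zm_v3, z_mo_v3, z_om_v3, z_az_v3, z_za_v3, z_op_v3, z_p2_v3, z_p3_v3]) <;> ring1),
    (by (try simp only [fm_a1_v3, fm_a2_v3, fm_b2_v3, fm_a3_v3, fm_a4_v3, fm_b4_v3, fm_a5_v3, fm_a6_v3, fm_b6_v3, fm_a7_v3, fm_a8_v3, fm_b8_v3, ma1, ma2, ma8, mb8, z_s0_v3, z_s1_v3, z_mz_v3, z_zm_v3, z_mo_v3, z_om_v3, z_az_v3, z_za_v3, z_op_v3, z_p2_v3, z_p3_v3]) <;> ring1)⟩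

/-- `[U, 7] ≤ D` -/
theorem ch_7_D (c d : Cd K) (h : (p7 K) c = (p7 K) zc) : (pD K) (mul σ d c) = (pD K) (mul σ c d) := by
  obtain ⟨ma1, ma2, ma6, ma8, mb8⟩ := p7_iff.1 h
  simp only [zc] at ma1 ma2 ma6 ma8 mb8
  exact pD_iff.2 ⟨(by (try simp only [fm_a1_v3, fm_a2_v3, fm_b2_v3, fm_a3_v3, fm_a4_v3, fm_b4_v3, fm_a5_v3, fm_a6_v3, fm_b6_v3, fm_a7_v3, fm_a8_v3, fm_b8_v3, ma1, ma2, ma6, ma8, mb8, z_s0_v3, z_s1_v3, z_mz_v3, z_zm_v3, z_mo_v3, z_om_v3, z_az_v3, z_za_v3, z_op_v3, z_p2_v3, z_p3_v3]) <;> ring1),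
    (by (try simp only [fm_a1_v3, fm_a2_v3, fm_b2_v3, fm_a3_v3, fm_a4_v3, fm_b4_v3, fm_a5_v3, fm_a6_v3, fm_b6_v3, fm_a7_v3, fm_a8_v3, fm_b8_v3, ma1, ma2, ma6, ma8, mb8, z_s0_v3, z_s1_v3, z_mz_v3, z_zm_v3, z_mo_v3, z_om_v3, z_az_v3, z_za_v3, z_op_v3, z_p2_v3, z_p3_v3]) <;> ring1),
    (by (try simp only [fm_a1_v3, fm_a2_v3, fm_b2_v3, fm_a3_v3, fm_a4_v3, fm_b4_v3, fm_a5_v3, fm_a6_v3, fm_b6_v3, fm_a7_v3, fm_a8_v3, fm_b8_v3, ma1, ma2, ma6, ma8, mb8, z_s0_v3, z_s1_v3, z_mz_v3, z_zm_v3, z_mo_v3, z_om_v3, z_az_v3, z_za_v3, z_op_v3, z_p2_v3, z_p3_v3]) <;> ring1),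
    (by (try simp only [fm_a1_v3, fm_a2_v3, fm_b2_v3, fm_a3_v3, fm_a4_v3, fm_b4_v3, fm_a5_v3, fm_a6_v3, fm_b6_v3, fm_a7_v3, fm_a8_v3, fm_b8_v3, ma1, ma2, ma6, ma8, mb8, z_s0_v3, z_s1_v3, z_mz_v3, z_zm_v3, z_mo_v3, z_om_v3, z_az_v3, z_za_v3, z_op_v3, z_p2_v3, z_p3_v3]) <;> ring1),
    (by (try simp only [fm_a1_v3, fm_a2_v3, fm_b2_v3, fm_a3_v3, fm_a4_v3, fm_b4_v3, fm_a5_v3, fm_a6_v3, fm_b6_v3, fm_a7_v3, fm_a8_v3, fm_b8_v3, ma1, ma2, ma6, ma8, mb8, z_s0_v3, z_s1_v3, z_mz_v3, z_zm_v3, z_mo_v3, z_om_v3, z_az_v3, z_za_v3, z_op_v3, z_p2_v3, z_p3_v3]) <;> ring1),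
    (by (try simp only [fm_a1_v3, fm_a2_v3, fm_b2_v3, fm_a3_v3, fm_a4_v3, fm_b4_v3, fm_a5_v3, fm_a6_v3, fm_b6_v3, fm_a7_v3, fm_a8_v3, fm_b8_v3, ma1, ma2, ma6, ma8, mb8, z_s0_v3, z_s1_v3, z_mz_v3, z_zm_v3, z_mo_v3, z_om_v3, z_az_v3, z_za_v3, z_op_v3, z_p2_v3, z_p3_v3]) <;> ring1)⟩

/-- `[U, D] ≤ E` -/
theorem ch_D_E (c d : Cd K) (h : (pD K) c = (pD K) zc) : (pE K) (mul σ d c) = (pE K) (mul σ c d) := by
  obtain ⟨ma1, ma2, ma6, ma7, ma8, mb8⟩ := pD_iff.1 h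
  simp only [zc] at ma1 ma2 ma6 ma7 ma8 mb8
  exact pE_iff.2 ⟨(by (try simp only [fm_a1_v3, fm_a2_v3, fm_b2_v3, fm_a3_v3, fm_a4_v3, fm_b4_v3, fm_a5_v3, fm_a6_v3, fm_b6_v3, fm_a7_v3, fm_a8_v3, fm_b8_v3, ma1, ma2, ma6, ma7, ma8, mb8, z_s0_v3, z_s1_v3, z_mz_v3, z_zm_v3, z_mo_v3, z_om_v3, z_az_v3, z_za_v3, z_op_v3, z_p2_v3, z_p3_v3]) <;> ring1),
    (by (try simp only [fm_a1_v3, fm_a2_v3, fm_b2_v3, fm_a3_v3, fm_a4_v3, fm_b4_v3, fm_a5_v3, fm_a6_v3, fm_b6_v3, fm_a7_v3, fm_a8_v3, fm_b8_v3, ma1, ma2, ma6, ma7, ma8, mb8, z_s0_v3, z_s1_v3, z_mz_v3, z_zm_v3, z_mo_v3, z_om_v3, z_az_v3, z_za_v3, z_op_v3, z_p2_v3, z_p3_v3]) <;> ring1),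
    (by (try simp only [fm_a1_v3, fm_a2_v3, fm_b2_v3, fm_a3_v3, fm_a4_v3, fm_b4_v3, fm_a5_v3, fm_a6_v3, fm_b6_v3, fm_a7_v3, fm_a8_v3, fm_b8_v3, ma1, ma2, ma6, ma7, ma8, mb8, z_s0_v3, z_s1_v3, z_mz_v3, z_zm_v3, z_mo_v3, z_om_v3, z_az_v3, z_za_v3, z_op_v3, z_p2_v3, z_p3_v3]) <;> ring1),
    (by (try simp only [fm_a1_v3, fm_a2_v3, fm_b2_v3, fm_a3_v3, fm_a4_v3, fm_b4_v3, fm_a5_v3, fm_a6_v3, fm_b6_v3, fm_a7_v3, fm_a8_v3, fm_b8_v3, ma1, ma2, ma6, ma7, ma8, mb8, z_s0_v3, z_s1_v3, z_mz_v3, z_zm_v3, z_mo_v3, z_om_v3, z_az_v3, z_za_v3, z_op_v3, z_p2_v3, z_p3_v3]) <;> ring1),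
    (by (try simp only [fm_a1_v3, fm_a2_v3, fm_b2_v3, fm_a3_v3, fm_a4_v3, fm_b4_v3, fm_a5_v3, fm_a6_v3, fm_b6_v3, fm_a7_v3, fm_a8_v3, fm_b8_v3, ma1, ma2, ma6, ma7, ma8, mb8, z_s0_v3, z_s1_v3, z_mz_v3, z_zm_v3, z_mo_v3, z_om_v3, z_az_v3, z_za_v3, z_op_v3, z_p2_v3, z_p3_v3]) <;> ring1),
    (by (try simp only [fm_a1_v3, fm_a2_v3, fm_b2_v3, fm_a3_v3, fm_a4_v3, fm_b4_v3, fm_a5_v3, fm_a6_v3, fm_b6_v3, fm_a7_v3, fm_a8_v3, fm_b8_v3, ma1, ma2, ma6, ma7, ma8, mb8, z_s0_v3, z_s1_v3, z_mz_v3, z_zm_v3, z_mo_v3, z_om_v3, z_az_v3, z_za_v3, z_op_v3, z_p2_v3, z_p3_v3]) <;> ring1),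
    (by (try simp only [fm_a1_v3, fm_a2_v3, fm_b2_v3, fm_a3_v3, fm_a4_v3, fm_b4_v3, fm_a5_v3, fm_a6_v3, fm_b6_v3, fm_a7_v3, fm_a8_v3, fm_b8_v3, ma1, ma2, ma6, ma7, ma8, mb8, z_s0_v3, z_s1_v3, z_mz_v3, z_zm_v3, z_mo_v3, z_om_v3, z_az_v3, z_za_v3, z_op_v3, z_p2_v3, z_p3_v3]) <;> ring1)⟩

/-- `[U, E] ≤ E4` -/
theorem ch_E_E4 (c d : Cd K) (h : (pE K) c = (pE K) zc) : (pE4 K) (mul σ d c) = (pE4 K) (mul σ c d) := by
  obtain ⟨ma1, ma2, ma4, ma6, ma7, ma8, mb8⟩ := pE_iff.1 h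
  simp only [zc] at ma1 ma2 ma4 ma6 ma7 ma8 mb8
  exact pE4_iff.2 ⟨(by (try simp only [fm_a1_v3, fm_a2_v3, fm_b2_v3, fm_a3_v3, fm_a4_v3, fm_b4_v3, fm_a5_v3, fm_a6_v3, fm_b6_v3, fm_a7_v3, fm_a8_v3, fm_b8_v3, ma1, ma2, ma4, ma6, ma7, ma8, mb8, z_s0_v3, z_s1_v3, z_mz_v3, z_zm_v3, z_mo_v3, z_om_v3, z_az_v3, z_za_v3, z_op_v3, z_p2_v3, z_p3_v3]) <;> ring1),
    (by (try simp only [fm_a1_v3, fm_a2_v3, fm_b2_v3, fm_a3_v3, fm_a4_v3, fm_b4_v3, fm_a5_v3, fm_a6_v3, fm_b6_v3, fm_a7_v3, fm_a8_v3, fm_b8_v3, ma1, ma2, ma4, ma6, ma7, ma8, mb8, z_s0_v3, z_s1_v3, z_mz_v3, z_zm_v3, z_mo_v3, z_om_v3, z_az_v3, z_za_v3, z_op_v3, z_p2_v3, z_p3_v3]) <;> ring1),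
    (by (try simp only [fm_a1_v3, fm_a2_v3, fm_b2_v3, fm_a3_v3, fm_a4_v3, fm_b4_v3, fm_a5_v3, fm_a6_v3, fm_b6_v3, fm_a7_v3, fm_a8_v3, fm_b8_v3, ma1, ma2, ma4, ma6, ma7, ma8, mb8, z_s0_v3, z_s1_v3, z_mz_v3, z_zm_v3, z_mo_v3, z_om_v3, z_az_v3, z_za_v3, z_op_v3, z_p2_v3, z_p3_v3]) <;> ring1),
    (by (try simp only [fm_a1_v3, fm_a2_v3, fm_b2_v3, fm_a3_v3, fm_a4_v3, fm_b4_v3, fm_a5_v3, fm_a6_v3, fm_b6_v3, fm_a7_v3, fm_a8_v3, fm_b8_v3, ma1, ma2, ma4, ma6, ma7, ma8, mb8, z_s0_v3, z_s1_v3, z_mz_v3, z_zm_v3, z_mo_v3, z_om_v3, z_az_v3, z_za_v3, z_op_v3, z_p2_v3, z_p3_v3]) <;> ring1),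
    (by (try simp only [fm_a1_v3, fm_a2_v3, fm_b2_v3, fm_a3_v3, fm_a4_v3, fm_b4_v3, fm_a5_v3, fm_a6_v3, fm_b6_v3, fm_a7_v3, fm_a8_v3, fm_b8_v3, ma1, ma2, ma4, ma6, ma7, ma8, mb8, z_s0_v3, z_s1_v3, z_mz_v3, z_zm_v3, z_mo_v3, z_om_v3, z_az_v3, z_za_v3, z_op_v3, z_p2_v3, z_p3_v3]) <;> ring1),
    (by (try simp only [fm_a1_v3, fm_a2_v3, fm_b2_v3, fm_a3_v3, fm_a4_v3, fm_b4_v3, fm_a5_v3, fm_a6_v3, fm_b6_v3, fm_a7_v3, fm_a8_v3, fm_b8_v3, ma1, ma2, ma4, ma6, ma7, ma8, mb8, z_s0_v3, z_s1_v3, z_mz_v3, z_zm_v3, z_mo_v3, z_om_v3, z_az_v3, z_za_v3, z_op_v3, z_p2_v3, z_p3_v3]) <;> ring1),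
    (by (try simp only [fm_a1_v3, fm_a2_v3, fm_b2_v3, fm_a3_v3, fm_a4_v3, fm_b4_v3, fm_a5_v3, fm_a6_v3, fm_b6_v3, fm_a7_v3, fm_a8_v3, fm_b8_v3, ma1, ma2, ma4, ma6, ma7, ma8, mb8, z_s0_v3, z_s1_v3, z_mz_v3, z_zm_v3, z_mo_v3, z_om_v3, z_az_v3, z_za_v3, z_op_v3, z_p2_v3, z_p3_v3]) <;> ring1),
    (by (try simp only [fm_a1_v3, fm_a2_v3, fm_b2_v3, fm_a3_v3, fm_a4_v3, fm_b4_v3, fm_a5_v3, fm_a6_v3, fm_b6_v3, fm_a7_v3, fm_a8_v3, fm_b8_v3, ma1, ma2, ma4, ma6, ma7, ma8, mb8, z_s0_v3, z_s1_v3, z_mz_v3, z_zm_v3, z_mo_v3, z_om_v3, z_az_v3, z_za_v3, z_op_v3, z_p2_v3, z_p3_v3]) <;> ring1)⟩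

end Cfsg.Agent.H181.TF
end

-- part: H181/TF/Cen
section
prune_inst 0x30104500342202000800000200000060200000020043400011000000080710612945260142700a1081d00cb06840c04000000109423800002a008a0040050020840360a203341d0437000980f803100000000000000000000000000000041000000000000
set_option linter.all false
open scoped Cfsg.Agent.FastGrp

/-!
# S5262: centralizers and characteristic subgroups (helper181)

* the named subgroups as `CS` subgroups, centralizers, the upper central series of `U`;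
* characteristic subgroups of `U`.
-/

set_option autoImplicit false

namespace Cfsg.Agent.H181.TF

open Cfsg Cfsg.FusionSystem Cfsg.Agent.H756.PU Cfsg.Agent.H745.TF

universe u v w

variable {K : Type u} [Field K] {σ : K →+* K} {U : Type v} [Group U] {m : ℕ}

section
variable (hK : HypK σ m) (T : TF σ U)

/-! ### the named subgroups -/

theorem co_eq (g : U) : Cfsg.Agent.H752.TF.co T g = cd T g :=
  el_injective T ((Cfsg.Agent.H752.TF.el_co T g).trans (el_cd T g).symm)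

include hK

theorem QB_eq : T.QB = CS hK T (cB σ) := by
  ext g; rw [Cfsg.Agent.H752.TF.mem_QB hK T, co_eq, mem_CS]; exact (pB_iff (c := cd T g) (d := zc)).symm

theorem QA_eq : T.QA = CS hK T (cQ σ) := by
  ext g; rw [Cfsg.Agent.H752.TF.mem_QA hK T, co_eq, mem_CS]; exact (pQ_iff (c := cd T g) (d := zc)).symm

theorem V_eq : T.V = CS hK T (cV σ) := by
  ext g; rw [Cfsg.Agent.H752.TF.mem_V hK T, co_eq, mem_CS]; exact (pV_iff (c := cd T g) (d := zc)).symm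

theorem Y_eq : T.Y = CS hK T (cY σ) := by
  ext g; rw [Cfsg.Agent.H752.TF.mem_Y hK T, co_eq, mem_CS]; exact (pY_iff (c := cd T g) (d := zc)).symm

theorem E4_eq : T.E4 = CS hK T (cE4 σ) := by
  ext g; rw [Cfsg.Agent.H752.TF.mem_E4 hK T, co_eq, mem_CS]; exact (pE4_iff (c := cd T g) (d := zc)).symm

theorem E_eq : T.E = CS hK T (cE σ) := by
  ext g; rw [Cfsg.Agent.H752.TF.mem_E hK T, co_eq, mem_CS]; exact (pE_iff (c := cd T g) (d := zc)).symm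

theorem D_eq : T.D = CS hK T (cD σ) := by
  ext g; rw [Cfsg.Agent.H752.TF.mem_D hK T, co_eq, mem_CS]; exact (pD_iff (c := cd T g) (d := zc)).symm

theorem Z4_eq : T.Z4 = CS hK T (cZ σ) := by
  ext g
  rw [Cfsg.Agent.H752.TF.mem_Z4 hK T, mem_CS, pZ_iff]
  constructor
  · rintro ⟨u, rfl⟩
    rw [← co_eq, Cfsg.Agent.H752.TF.co_x4]
    exact ⟨rfl, rfl, rfl, rfl, rfl, rfl, rfl, rfl, rfl, rfl, rfl⟩
  · rintro ⟨h1, h2, h3, h4, h5, h6, h7, h8, h9, h10, h11⟩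
    refine ⟨(cd T g).b4, ?_⟩
    rw [← cd_inj T, ← co_eq T (T.x4 0 _), Cfsg.Agent.H752.TF.co_x4]
    exact Cd.ext h1 h2 h3 h4 h5 rfl h6 h7 h8 h9 h10 h11

theorem top_eq : (⊤ : Subgroup U) = CS hK T (cU σ) := by
  ext g; exact ⟨fun _ => rfl, fun _ => trivial⟩

/-! ### transfer of the coordinate facts -/

/-- from coordinates to the group -/
theorem tr {α1 α2 α3 α4 : Type*} {pM : Cd K → α1} {pA : Cd K → α2} {pB : Cd K → α3} {pN : Cd K → α4} (hM : Cong σ pM)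
    (hA : Cong σ pA) (hB : Cong σ pB) (hN : Cong σ pN)
    (f : ∀ c, pM c = pM zc ↔ pA c = pA zc ∧ ∀ d, pB d = pB zc → pN (mul σ d c) = pN (mul σ c d)) (x : U) :
    x ∈ CS hK T hM ↔ x ∈ CS hK T hA ∧ ∀ b ∈ CS hK T hB, b * x * b⁻¹ * x⁻¹ ∈ CS hK T hN := by
  rw [mem_CS, f, mem_CS]
  refine and_congr Iff.rfl ⟨fun h b hb => comm_crit.2 (h _ hb), fun h d hd => ?_⟩
  have h1 := comm_crit.1 (h (T.el d) (el_mem_CS.2 hd))
  rwa [cd_el] at h1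

theorem tr_ch {α1 α4 : Type*} {pM : Cd K → α1} {pN : Cd K → α4} (hM : Cong σ pM) (hN : Cong σ pN)
    (f : ∀ c d, pM c = pM zc → pN (mul σ d c) = pN (mul σ c d)) (g x : U) (hx : x ∈ CS hK T hM) :
    x⁻¹ * (g * x * g⁻¹) ∈ CS hK T hN := comm_crit'.2 (f _ _ hx)

/-- commutation and the trivial subgroup -/
theorem comm_bot {x b : U} : b * x * b⁻¹ * x⁻¹ ∈ CS hK T (cong_id (σ := σ)) ↔ b * x = x * b := by
  rw [CS_id, Subgroup.mem_bot, mul_inv_eq_one, mul_inv_eq_iff_eq_mul]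

/-! ### centralizers (exported) -/

theorem mem_Z4_iff (x : U) : x ∈ T.Z4 ↔ ∀ y : U, y * x = x * y := by
  rw [Z4_eq hK, tr hK T (cZ σ) (cU σ) (cU σ) cong_id (u_Z σ)]
  simp only [comm_bot, ← top_eq]
  exact ⟨fun h y => h.2 y trivial, fun h => ⟨trivial, fun y _ => h y⟩⟩

theorem mem_V_iff (x : U) : x ∈ T.V ↔ ∀ y : U, y * x * y⁻¹ * x⁻¹ ∈ T.Z4 := by
  rw [V_eq hK, Z4_eq hK, tr hK T (cV σ) (cU σ) (cU σ) (cZ σ) (u_V σ), ← top_eq]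
  exact ⟨fun h y => h.2 y trivial, fun h => ⟨trivial, fun y _ => h y⟩⟩

theorem mem_Y_iff (x : U) : x ∈ T.Y ↔ ∀ y : U, y * x * y⁻¹ * x⁻¹ ∈ T.V := by
  rw [V_eq hK, Y_eq hK, tr hK T (cY σ) (cU σ) (cU σ) (cV σ) (u_Y σ), ← top_eq]
  exact ⟨fun h y => h.2 y trivial, fun h => ⟨trivial, fun y _ => h y⟩⟩

theorem mem_E4_iff (x : U) : x ∈ T.E4 ↔ ∀ y : U, y * x * y⁻¹ * x⁻¹ ∈ T.Y := by
  rw [Y_eq hK, E4_eq hK, tr hK T (cE4 σ) (cU σ) (cU σ) (cY σ) (u_E4 σ), ← top_eq]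
  exact ⟨fun h y => h.2 y trivial, fun h => ⟨trivial, fun y _ => h y⟩⟩

/-- `C_U(V) = QB` -/
theorem mem_QB_iff (x : U) : x ∈ T.QB ↔ ∀ y ∈ T.V, y * x = x * y := by
  rw [QB_eq hK, V_eq hK, tr hK T (cB σ) (cU σ) (cV σ) cong_id (u_B σ)]
  simp only [comm_bot, ← top_eq]
  exact ⟨fun h => h.2, fun h => ⟨trivial, h⟩⟩

/-- `QA = {x | [E4, x] ≤ Z}` -/
theorem mem_QA_iff (x : U) : x ∈ T.QA ↔ ∀ y ∈ T.E4, y * x * y⁻¹ * x⁻¹ ∈ T.Z4 := by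
  rw [QA_eq hK, E4_eq hK, Z4_eq hK, tr hK T (cQ σ) (cU σ) (cE4 σ) (cZ σ) (u_Q σ), ← top_eq]
  exact ⟨fun h => h.2, fun h => ⟨trivial, h⟩⟩

/-- `C_U(E) = D` -/
theorem mem_D_iff (x : U) : x ∈ T.D ↔ ∀ y ∈ T.E, y * x = x * y := by
  rw [D_eq hK, E_eq hK, tr hK T (cD σ) (cU σ) (cE σ) cong_id (u_D σ)]
  simp only [comm_bot, ← top_eq]
  exact ⟨fun h => h.2, fun h => ⟨trivial, h⟩⟩

/-- `Z(QB) = V` -/
theorem center_QB (x : U) : x ∈ T.V ↔ x ∈ T.QB ∧ ∀ y ∈ T.QB, y * x = x * y := by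
  rw [QB_eq hK, V_eq hK, tr hK T (cV σ) (cB σ) (cB σ) cong_id (qb_V σ)]
  simp only [comm_bot]

/-- `Z(QA) = Z4` -/
theorem center_QA (x : U) : x ∈ T.Z4 ↔ x ∈ T.QA ∧ ∀ y ∈ T.QA, y * x = x * y := by
  rw [QA_eq hK, Z4_eq hK, tr hK T (cZ σ) (cQ σ) (cQ σ) cong_id (qa_Z σ)]
  simp only [comm_bot]

/-- `Z₂(QA) = E` -/
theorem center2_QA (x : U) : x ∈ T.E ↔ x ∈ T.QA ∧ ∀ y ∈ T.QA, y * x * y⁻¹ * x⁻¹ ∈ T.Z4 := by
  rw [QA_eq hK, E_eq hK, Z4_eq hK, tr hK T (cE σ) (cQ σ) (cQ σ) (cZ σ) (qa_E σ)]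

/-- `C_U(QB) ≤ QB` -/
theorem cen_QB (x : U) (h : ∀ y ∈ T.QB, y * x = x * y) : x ∈ T.QB := by
  rw [mem_QB_iff hK]
  exact fun y hy => h y ((center_QB hK T y).1 hy).1

/-- `C_U(QA) ≤ QA` -/
theorem cen_QA (x : U) (h : ∀ y ∈ T.QA, y * x = x * y) : x ∈ T.QA := by
  rw [mem_QA_iff hK]
  intro y hy
  have h1 : y ∈ T.QA := by
    rw [E4_eq hK, mem_CS, pE4_iff] at hy
    rw [QA_eq hK, mem_CS, pQ_iff]
    exact ⟨hy.2.2.2.2.2.2.1, hy.2.2.2.2.2.2.2⟩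
  rw [h y h1, mul_assoc x, mul_inv_cancel, mul_one, mul_inv_cancel]
  exact T.Z4.one_mem

/-! ### characteristic subgroups of `U` -/

omit hK

/-- `M` is preserved by the automorphism `α` of `U` -/
def PresU (α : MulAut U) (M : Subgroup U) : Prop := ∀ x, x ∈ M ↔ α x ∈ M

theorem presU_com {α : MulAut U} {B N M : Subgroup U} (hB : PresU α B) (hN : PresU α N)
    (h : ∀ x, x ∈ M ↔ ∀ b ∈ B, b * x * b⁻¹ * x⁻¹ ∈ N) : PresU α M := by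
  intro x
  rw [h x, h (α x)]
  refine ⟨fun hx y hy => ?_, fun hx y hy => ?_⟩
  · have h1 : α (α⁻¹ y) = y := MulAut.apply_inv_self _ α y
    have h2 : α⁻¹ y ∈ B := by rw [hB (α⁻¹ y), h1]; exact hy
    have h3 := (hN _).1 (hx _ h2)
    rwa [map_mul, map_mul, map_mul, map_inv, map_inv, h1] at h3
  · rw [hN, map_mul, map_mul, map_mul, map_inv, map_inv]
    exact hx _ ((hB y).1 hy)

theorem presU_top (α : MulAut U) : PresU α ⊤ := fun _ => ⟨fun _ => trivial, fun _ => trivial⟩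

theorem presU_bot (α : MulAut U) : PresU α ⊥ := fun x => by
  rw [Subgroup.mem_bot, Subgroup.mem_bot, map_eq_one_iff α α.injective]

theorem com_bot_iff {x b : U} : b * x * b⁻¹ * x⁻¹ ∈ (⊥ : Subgroup U) ↔ b * x = x * b := by
  rw [Subgroup.mem_bot, mul_inv_eq_one, mul_inv_eq_iff_eq_mul]

variable (α : MulAut U)
include hK

theorem char_Z4 : PresU α T.Z4 :=
  presU_com (presU_top α) (presU_bot α) fun x => by
    rw [mem_Z4_iff hK]; simp only [com_bot_iff]; exact ⟨fun h b _ => h b, fun h b => h b trivial⟩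

theorem char_V : PresU α T.V :=
  presU_com (presU_top α) (char_Z4 hK T α) fun x => by
    rw [mem_V_iff hK]; exact ⟨fun h b _ => h b, fun h b => h b trivial⟩

theorem char_Y : PresU α T.Y :=
  presU_com (presU_top α) (char_V hK T α) fun x => by
    rw [mem_Y_iff hK]; exact ⟨fun h b _ => h b, fun h b => h b trivial⟩

theorem char_E4 : PresU α T.E4 :=
  presU_com (presU_top α) (char_Y hK T α) fun x => by
    rw [mem_E4_iff hK]; exact ⟨fun h b _ => h b, fun h b => h b trivial⟩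

theorem char_QB : PresU α T.QB :=
  presU_com (char_V hK T α) (presU_bot α) fun x => by
    rw [mem_QB_iff hK]; simp only [com_bot_iff]

theorem char_QA : PresU α T.QA :=
  presU_com (char_E4 hK T α) (char_Z4 hK T α) (mem_QA_iff hK T)

theorem char_E : PresU α T.E := by
  intro x
  rw [center2_QA hK, center2_QA hK]
  refine and_congr (char_QA hK T α x) ⟨fun hx y hy => ?_, fun hx y hy => ?_⟩
  · have h1 : α (α⁻¹ y) = y := MulAut.apply_inv_self _ α y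
    have h2 : α⁻¹ y ∈ T.QA := by rw [char_QA hK T α, h1]; exact hy
    have h3 := (char_Z4 hK T α _).1 (hx _ h2)
    rwa [map_mul, map_mul, map_mul, map_inv, map_inv, h1] at h3
  · rw [char_Z4 hK T α, map_mul, map_mul, map_mul, map_inv, map_inv]
    exact hx _ ((char_QA hK T α y).1 hy)

theorem char_D : PresU α T.D :=
  presU_com (char_E hK T α) (presU_bot α) fun x => by
    rw [mem_D_iff hK]; simp only [com_bot_iff]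

variable {α}
omit hK

theorem map_of_presU {M : Subgroup U} (h : ∀ α : MulAut U, PresU α M) (α : MulAut U) :
    M.map α.toMonoidHom = M := by
  apply le_antisymm
  · rintro _ ⟨x, hx, rfl⟩
    exact (h α x).1 hx
  · intro x hx
    refine ⟨α⁻¹ x, (h α⁻¹ x).1 hx, MulAut.apply_inv_self _ α x⟩

end

end Cfsg.Agent.H181.TF

private theorem dce_c0bf79c94bd1 : _root_.True := by
  try have : _root_.True := by simp only [_root_.Cfsg.Agent.H181.TF.CS.congr_simp]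
  exact _root_.True.intro
end

-- part: H745/TF/EssStmts3_mg
section
prune_inst 0x100041000422020000000000000000602000000200400000000000000801006029050001003000100010088040000040000000000200000000000800000100208000000000100d00160009008000000000000000000000000000000000000000000000000
set_option linter.all false
open scoped Cfsg.Agent.FastGrp

-- part: H745/TF/EssStmts3
section
/-!
# S5262: the essential subgroups, steps ESS4, ESS5, ESS6 (mixed case)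

Plan: `outputs/live/tools/plans/S5262.md`, section ESS-745B. Nothing here needs `q ≥ 8`.
-/

set_option autoImplicit false
set_option linter.dupNamespace false

namespace Cfsg.Agent.H745.TF

open Cfsg Cfsg.FusionSystem Cfsg.Agent.Octagon.Pkg Cfsg.Agent.H756.PU

universe u v

/-- (SQ) the involutions of `N3∖A37` -/
def StSQ : Prop :=
  ∀ {K : Type u} [Field K] {σ : K →+* K} {m : ℕ}, HypK σ m → ∀ {U : Type v} [Group U] (T : TF σ U)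
    (c : Cd K), T.el c ∈ T.N3 → T.el c * T.el c = 1 → T.el c ∉ T.A37 →
    ∃ p k r : K, r ≠ 0 ∧ (p ≠ 0 ∨ k ≠ 0) ∧ c.b2 = r * p * σ p ∧ c.a4 = r * σ p * k ∧ c.a6 = r * p * σ k ∧
      c.b8 = r * k * σ k

/-- (EXC) an involution of a mixed subgroup `R` with all `[r, y]² = 1` lies in `Z2 A37` -/
def StExc : Prop :=
  ∀ {K : Type u} [Field K] {σ : K →+* K} {m : ℕ}, HypK σ m → ∀ {U : Type v} [Group U] (T : TF σ U)
    (R : Subgroup U), ¬ R ≤ T.QA → ¬ R ≤ T.QB → ∀ y : U, y * y = 1 →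
    (∀ r ∈ R, (r * y * r⁻¹ * y⁻¹) * (r * y * r⁻¹ * y⁻¹) = 1) → y ∈ T.Z2 ⊔ T.A37

/-- (ESS4a) -/
def StEss4a : Prop :=
  ∀ {K : Type u} [Field K] {σ : K →+* K} {m : ℕ}, HypK σ m → ∀ {U : Type v} [Group U] (T : TF σ U)
    {R : Subgroup U} {Γ : Subgroup (MulAut R)}, Ess (⊤ : Subgroup U) R 2 Γ → T.Y ≤ R → R ≤ T.QB →
    ¬ R ≤ T.N3 → T.A37 ≤ R

/-- (ESS4b) -/
def StEss4b : Prop :=
  ∀ {K : Type u} [Field K] {σ : K →+* K} {m : ℕ}, HypK σ m → ∀ {U : Type v} [Group U] (T : TF σ U)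
    {R : Subgroup U} {Γ : Subgroup (MulAut R)}, Ess (⊤ : Subgroup U) R 2 Γ → T.A37 ≤ R → R ≤ T.QB →
    ¬ R ≤ T.N3 → T.N3 ≤ R

/-- (ESS4c) -/
def StEss4c : Prop :=
  ∀ {K : Type u} [Field K] {σ : K →+* K} {m : ℕ}, HypK σ m → ∀ {U : Type v} [Group U] (T : TF σ U)
    {R : Subgroup U} {Γ : Subgroup (MulAut R)}, Ess (⊤ : Subgroup U) R 2 Γ → T.N3 ≤ R → R ≤ T.QB →
    ¬ R ≤ T.N3 → R = T.QB

/-- (ESS5a) -/
def StEss5a : Prop :=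
  ∀ {K : Type u} [Field K] {σ : K →+* K} {m : ℕ}, HypK σ m → ∀ {U : Type v} [Group U] (T : TF σ U)
    {R : Subgroup U} {Γ : Subgroup (MulAut R)}, Ess (⊤ : Subgroup U) R 2 Γ → T.Y ≤ R → R ≤ T.QA →
    ¬ R ≤ T.QB → T.E ≤ R

/-- (ESS5b) -/
def StEss5b : Prop :=
  ∀ {K : Type u} [Field K] {σ : K →+* K} {m : ℕ}, HypK σ m → ∀ {U : Type v} [Group U] (T : TF σ U)
    {R : Subgroup U} {Γ : Subgroup (MulAut R)}, Ess (⊤ : Subgroup U) R 2 Γ → T.E ≤ R → R ≤ T.QA →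
    ¬ R ≤ T.QB → T.D ≤ R

/-- (ESS5c) -/
def StEss5c : Prop :=
  ∀ {K : Type u} [Field K] {σ : K →+* K} {m : ℕ}, HypK σ m → ∀ {U : Type v} [Group U] (T : TF σ U)
    {R : Subgroup U} {Γ : Subgroup (MulAut R)}, Ess (⊤ : Subgroup U) R 2 Γ → T.D ≤ R → R ≤ T.QA →
    ¬ R ≤ T.QB → R = T.QA

/-- (ESS6a) -/
def StEss6a : Prop :=
  ∀ {K : Type u} [Field K] {σ : K →+* K} {m : ℕ}, HypK σ m → ∀ {U : Type v} [Group U] (T : TF σ U)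
    {R : Subgroup U} {Γ : Subgroup (MulAut R)}, Ess (⊤ : Subgroup U) R 2 Γ → T.Y ≤ R → ¬ R ≤ T.QA →
    ¬ R ≤ T.QB → T.E4 ≤ R

/-- (ESS6b) -/
def StEss6b : Prop :=
  ∀ {K : Type u} [Field K] {σ : K →+* K} {m : ℕ}, HypK σ m → ∀ {U : Type v} [Group U] (T : TF σ U)
    {R : Subgroup U} {Γ : Subgroup (MulAut R)}, Ess (⊤ : Subgroup U) R 2 Γ → T.E4 ≤ R → ¬ R ≤ T.QA →
    ¬ R ≤ T.QB → T.D ≤ R

/-- (ESS6c), the mixed case: the rest -/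
def StMixF : Prop :=
  ∀ {K : Type u} [Field K] {σ : K →+* K} {m : ℕ}, HypK σ m → ∀ {U : Type v} [Group U] (T : TF σ U)
    {R : Subgroup U} {Γ : Subgroup (MulAut R)}, Ess (⊤ : Subgroup U) R 2 Γ → T.D ≤ R →
    ¬ R ≤ T.QA → ¬ R ≤ T.QB → T.QA ≤ R ∧ _root_.Cfsg.Agent.H756.PU.Inv Γ T.QA

end Cfsg.Agent.H745.TF
end

-- part: H181/TF/TI
section
/-!
# S5262 [TI] (helper181)

`stTI : StTI`; `tiB'`, `tiA'` : `γ(Z) = Z` (for `QB`), `γ(V) = V` (for `QA`) imply that `γ` normalizes `Aut_U(Q)`.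
-/

set_option autoImplicit false
set_option linter.unusedSimpArgs false

namespace Cfsg.Agent.H181.TF

open Cfsg Cfsg.FusionSystem Cfsg.Agent.H756.PU Cfsg.Agent.H745.TF

universe u v w

variable {K : Type u} [Field K] {σ : K →+* K} {U : Type v} [Group U] {m : ℕ}

section
variable (hK : _root_.Cfsg.Agent.H745.TF.HypK σ m) (T : TF σ U)
include hK

include T in
theorem exp_U (x : U) : x ^ 2 ^ ((2 * m + 1) * 12) = 1 := by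
  have := Cfsg.Agent.H752.TF.finite_U hK T
  rw [pow_mul 2, ← Cfsg.Agent.H752.TF.card_U hK T]
  exact pow_card_eq_one'

omit hK in
theorem pres_self {Q : Subgroup U} (γ : MulAut Q) : Pres γ Q := fun x => ⟨fun _ => (γ x).2, fun _ => x.2⟩

theorem pres_one {Q : Subgroup U} (γ : MulAut Q) : Pres γ (CS hK T (cong_id (σ := σ))) := fun x => by
  rw [CS_id, Subgroup.mem_bot, Subgroup.mem_bot, OneMemClass.coe_eq_one, OneMemClass.coe_eq_one,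
    map_eq_one_iff γ γ.injective]

theorem pres_tr {α1 α2 α3 α4 : Type*} {pM : Cd K → α1} {pA : Cd K → α2} {pB : Cd K → α3} {pN : Cd K → α4}
    {hM : Cong σ pM} {hA : Cong σ pA} {hB : Cong σ pB} {hN : Cong σ pN}
    (f : ∀ c, pM c = pM zc ↔ pA c = pA zc ∧ ∀ d, pB d = pB zc → pN (mul σ d c) = pN (mul σ c d))
    {Q : Subgroup U} {γ : MulAut Q} (hBQ : CS hK T hB ≤ Q) (h1 : Pres γ (CS hK T hA)) (h2 : Pres γ (CS hK T hB))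
    (h3 : Pres γ (CS hK T hN)) : Pres γ (CS hK T hM) :=
  pres_com hBQ h1 h2 h3 fun x _ => tr hK T hM hA hB hN f x

/-! ### the chains -/

/-- the chain in `QB` -/
def MB : ℕ → Subgroup U
  | 0 => CS hK T (cB σ)
  | 1 => CS hK T (cW σ)
  | 2 => CS hK T (cN σ)
  | 3 => CS hK T (cF σ)
  | 4 => CS hK T (cF0 σ)
  | 5 => CS hK T (cA σ)
  | 6 => CS hK T (cE4 σ)
  | 7 => CS hK T (cY σ)
  | 8 => CS hK T (cV σ)
  | 9 => CS hK T (cZ σ)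
  | _ => CS hK T (cong_id (σ := σ))

/-- the chain in `QA` -/
def MA : ℕ → Subgroup U
  | 0 => CS hK T (cQ σ)
  | 1 => CS hK T (c2 σ)
  | 2 => CS hK T (cF σ)
  | 3 => CS hK T (c7 σ)
  | 4 => CS hK T (cD σ)
  | 5 => CS hK T (cE σ)
  | 6 => CS hK T (cE4 σ)
  | 7 => CS hK T (cY σ)
  | 8 => CS hK T (cV σ)
  | 9 => CS hK T (cZ σ)
  | _ => CS hK T (cong_id (σ := σ))

theorem MB_T (i : ℕ) (g x : U) (hx : x ∈ MB hK T i) : x⁻¹ * (g * x * g⁻¹) ∈ MB hK T (i + 1) := by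
  match i, hx with
  | 0, hx => exact tr_ch hK T (cB σ) (cW σ) (ch_B_W σ) g x hx
  | 1, hx => exact tr_ch hK T (cW σ) (cN σ) (ch_W_N σ) g x hx
  | 2, hx => exact tr_ch hK T (cN σ) (cF σ) (ch_N_F σ) g x hx
  | 3, hx => exact tr_ch hK T (cF σ) (cF0 σ) (ch_F_F0 σ) g x hx
  | 4, hx => exact tr_ch hK T (cF0 σ) (cA σ) (ch_F0_A σ) g x hx
  | 5, hx => exact tr_ch hK T (cA σ) (cE4 σ) (ch_A_E4 σ) g x hx
  | 6, hx => exact tr_ch hK T (cE4 σ) (cY σ) (ch_E4_Y σ) g x hx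
  | 7, hx => exact tr_ch hK T (cY σ) (cV σ) (ch_Y_V σ) g x hx
  | 8, hx => exact tr_ch hK T (cV σ) (cZ σ) (ch_V_Z σ) g x hx
  | 9, hx => exact tr_ch hK T (cZ σ) cong_id (ch_Z_1 σ) g x hx
  | n + 10, hx =>
    change x ∈ CS hK T (cong_id (σ := σ)) at hx
    change x⁻¹ * (g * x * g⁻¹) ∈ CS hK T (cong_id (σ := σ))
    rw [CS_id, Subgroup.mem_bot] at hx
    subst hx
    simp

theorem MA_T (i : ℕ) (g x : U) (hx : x ∈ MA hK T i) : x⁻¹ * (g * x * g⁻¹) ∈ MA hK T (i + 1) := by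
  match i, hx with
  | 0, hx => exact tr_ch hK T (cQ σ) (c2 σ) (ch_Q_2 σ) g x hx
  | 1, hx => exact tr_ch hK T (c2 σ) (cF σ) (ch_2_F σ) g x hx
  | 2, hx => exact tr_ch hK T (cF σ) (c7 σ) (ch_F_7 σ) g x hx
  | 3, hx => exact tr_ch hK T (c7 σ) (cD σ) (ch_7_D σ) g x hx
  | 4, hx => exact tr_ch hK T (cD σ) (cE σ) (ch_D_E σ) g x hx
  | 5, hx => exact tr_ch hK T (cE σ) (cE4 σ) (ch_E_E4 σ) g x hx
  | 6, hx => exact tr_ch hK T (cE4 σ) (cY σ) (ch_E4_Y σ) g x hx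
  | 7, hx => exact tr_ch hK T (cY σ) (cV σ) (ch_Y_V σ) g x hx
  | 8, hx => exact tr_ch hK T (cV σ) (cZ σ) (ch_V_Z σ) g x hx
  | 9, hx => exact tr_ch hK T (cZ σ) cong_id (ch_Z_1 σ) g x hx
  | n + 10, hx =>
    change x ∈ CS hK T (cong_id (σ := σ)) at hx
    change x⁻¹ * (g * x * g⁻¹) ∈ CS hK T (cong_id (σ := σ))
    rw [CS_id, Subgroup.mem_bot] at hx
    subst hx
    simp

end

/-! ### inclusions -/

section
variable (hK : _root_.Cfsg.Agent.H745.TF.HypK σ m) (T : TF σ U)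

theorem l_Z_V : CS hK T (cZ σ) ≤ CS hK T (cV σ) := CS_le_CS fun c h => by
  rw [pZ_iff] at h; obtain ⟨h1, h2, h3, h4, h5, h6, h7, h8, h9, h10, h11⟩ := h
  exact pV_iff.2 ⟨h1, h2, h3, h4, h5, h6, h7, h9, h10, h11⟩
theorem l_V_Y : CS hK T (cV σ) ≤ CS hK T (cY σ) := CS_le_CS fun c h => by
  rw [pV_iff] at h; obtain ⟨h1, h2, h3, h4, h5, h6, h7, h8, h9, h10⟩ := h
  exact pY_iff.2 ⟨h1, h2, h3, h4, h5, h7, h8, h9, h10⟩
theorem l_Y_E4 : CS hK T (cY σ) ≤ CS hK T (cE4 σ) := CS_le_CS fun c h => by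
  rw [pY_iff] at h; obtain ⟨h1, h2, h3, h4, h5, h6, h7, h8, h9⟩ := h
  exact pE4_iff.2 ⟨h1, h2, h3, h5, h6, h7, h8, h9⟩
theorem l_E4_A : CS hK T (cE4 σ) ≤ CS hK T (cA σ) := CS_le_CS fun c h => by
  rw [pE4_iff] at h; obtain ⟨h1, h2, h3, h4, h5, h6, h7, h8⟩ := h
  exact pA_iff.2 ⟨h1, h2, h3, h4, h5, h7, h8⟩
theorem l_A_F0 : CS hK T (cA σ) ≤ CS hK T (cF0 σ) := CS_le_CS fun c h => by
  rw [pA_iff] at h; obtain ⟨h1, h2, h3, h4, h5, h6, h7⟩ := h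
  exact pF0_iff.2 ⟨h1, h2, h4, h5, h6, h7⟩
theorem l_F0_F : CS hK T (cF0 σ) ≤ CS hK T (cF σ) := CS_le_CS fun c h => by
  rw [pF0_iff] at h; obtain ⟨h1, h2, h3, h4, h5, h6⟩ := h
  exact pF_iff.2 ⟨h1, h2, h5, h6⟩
theorem l_F_N : CS hK T (cF σ) ≤ CS hK T (cN σ) := CS_le_CS fun c h => by
  rw [pF_iff] at h; obtain ⟨h1, h2, h3, h4⟩ := h
  exact pN_iff.2 ⟨h1, h2, h3⟩
theorem l_N_W : CS hK T (cN σ) ≤ CS hK T (cW σ) := CS_le_CS fun c h => by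
  rw [pN_iff] at h; obtain ⟨h1, h2, h3⟩ := h
  exact pW_iff.2 ⟨h1, h3⟩
theorem l_W_B : CS hK T (cW σ) ≤ CS hK T (cB σ) := CS_le_CS fun c h => by
  rw [pW_iff] at h; exact pB_iff.2 h.1
theorem l_E4_E : CS hK T (cE4 σ) ≤ CS hK T (cE σ) := CS_le_CS fun c h => by
  rw [pE4_iff] at h; obtain ⟨h1, h2, h3, h4, h5, h6, h7, h8⟩ := h
  exact pE_iff.2 ⟨h1, h2, h4, h5, h6, h7, h8⟩
theorem l_E_D : CS hK T (cE σ) ≤ CS hK T (cD σ) := CS_le_CS fun c h => by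
  rw [pE_iff] at h; obtain ⟨h1, h2, h3, h4, h5, h6, h7⟩ := h
  exact pD_iff.2 ⟨h1, h2, h4, h5, h6, h7⟩
theorem l_D_7 : CS hK T (cD σ) ≤ CS hK T (c7 σ) := CS_le_CS fun c h => by
  rw [pD_iff] at h; obtain ⟨h1, h2, h3, h4, h5, h6⟩ := h
  exact p7_iff.2 ⟨h1, h2, h3, h5, h6⟩
theorem l_7_F : CS hK T (c7 σ) ≤ CS hK T (cF σ) := CS_le_CS fun c h => by
  rw [p7_iff] at h; obtain ⟨h1, h2, h3, h4, h5⟩ := h
  exact pF_iff.2 ⟨h1, h2, h4, h5⟩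
theorem l_F_2 : CS hK T (cF σ) ≤ CS hK T (c2 σ) := CS_le_CS fun c h => by
  rw [pF_iff] at h; obtain ⟨h1, h2, h3, h4⟩ := h
  exact p2_iff.2 ⟨h1, h3, h4⟩
theorem l_2_Q : CS hK T (c2 σ) ≤ CS hK T (cQ σ) := CS_le_CS fun c h => by
  rw [p2_iff] at h; exact pQ_iff.2 h.2

theorem l_1 (H : Subgroup U) : CS hK T (cong_id (σ := σ)) ≤ H := by
  rw [CS_id]; exact bot_le

theorem MB_le (i : ℕ) : MB hK T (i + 1) ≤ MB hK T i := by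
  match i with
  | 0 => exact (l_W_B hK T)
  | 1 => exact (l_N_W hK T)
  | 2 => exact (l_F_N hK T)
  | 3 => exact (l_F0_F hK T)
  | 4 => exact (l_A_F0 hK T)
  | 5 => exact (l_E4_A hK T)
  | 6 => exact (l_Y_E4 hK T)
  | 7 => exact (l_V_Y hK T)
  | 8 => exact (l_Z_V hK T)
  | 9 => exact l_1 hK T _
  | _ + 10 => exact le_rfl

theorem MA_le (i : ℕ) : MA hK T (i + 1) ≤ MA hK T i := by
  match i with
  | 0 => exact (l_2_Q hK T)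
  | 1 => exact (l_F_2 hK T)
  | 2 => exact (l_7_F hK T)
  | 3 => exact (l_D_7 hK T)
  | 4 => exact (l_E_D hK T)
  | 5 => exact (l_E4_E hK T)
  | 6 => exact (l_Y_E4 hK T)
  | 7 => exact (l_V_Y hK T)
  | 8 => exact (l_Z_V hK T)
  | 9 => exact l_1 hK T _
  | _ + 10 => exact le_rfl

theorem l_Y_B : CS hK T (cY σ) ≤ CS hK T (cB σ) :=
  (l_Y_E4 hK T).trans ((l_E4_A hK T).trans ((l_A_F0 hK T).trans ((l_F0_F hK T).trans ((l_F_N hK T).trans ((l_N_W hK T).trans (l_W_B hK T))))))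
theorem l_E4_B : CS hK T (cE4 σ) ≤ CS hK T (cB σ) :=
  (l_E4_A hK T).trans ((l_A_F0 hK T).trans ((l_F0_F hK T).trans ((l_F_N hK T).trans ((l_N_W hK T).trans (l_W_B hK T)))))
theorem l_A_B : CS hK T (cA σ) ≤ CS hK T (cB σ) := (l_A_F0 hK T).trans ((l_F0_F hK T).trans ((l_F_N hK T).trans ((l_N_W hK T).trans (l_W_B hK T))))
theorem l_7_Q : CS hK T (c7 σ) ≤ CS hK T (cQ σ) := (l_7_F hK T).trans ((l_F_2 hK T).trans (l_2_Q hK T))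
theorem l_F_Q : CS hK T (cF σ) ≤ CS hK T (cQ σ) := (l_F_2 hK T).trans (l_2_Q hK T)
theorem l_D_Q : CS hK T (cD σ) ≤ CS hK T (cQ σ) := (l_D_7 hK T).trans (l_7_Q hK T)
theorem l_E_Q : CS hK T (cE σ) ≤ CS hK T (cQ σ) := (l_E_D hK T).trans (l_D_Q hK T)
theorem l_Y_Q : CS hK T (cY σ) ≤ CS hK T (cQ σ) := (l_Y_E4 hK T).trans ((l_E4_E hK T).trans (l_E_Q hK T))
theorem l_V_Q : CS hK T (cV σ) ≤ CS hK T (cQ σ) := (l_V_Y hK T).trans (l_Y_Q hK T)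

/-! ### `QB` -/

/-- everything follows from `γ(Z) = Z` -/
theorem presB {γ : MulAut (CS hK T (cB σ))} (hZ : Pres γ (CS hK T (cZ σ))) (i : ℕ) : Pres γ (MB hK T i) := by
  have h1 := pres_one hK T γ
  have hB := pres_self γ
  have hV : Pres γ (CS hK T (cV σ)) := pres_tr hK T (qb_V σ) le_rfl hB hB h1
  have hY : Pres γ (CS hK T (cY σ)) := pres_tr hK T (qb_Y σ) le_rfl hB hB hV
  have hA : Pres γ (CS hK T (cA σ)) := pres_tr hK T (qb_A σ) le_rfl hB hB hY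
  have hN : Pres γ (CS hK T (cN σ)) := pres_tr hK T (qb_N σ) (l_Y_B hK T) hB hY h1
  have hW : Pres γ (CS hK T (cW σ)) := pres_tr hK T (qb_W σ) (l_Y_B hK T) hB hY hZ
  have hE4 : Pres γ (CS hK T (cE4 σ)) := pres_tr hK T (qb_E4 σ) (l_W_B hK T) hA hW hV
  have hF : Pres γ (CS hK T (cF σ)) := pres_tr hK T (qb_F σ) (l_E4_B hK T) hN hE4 hZ
  have hF1 : Pres γ (CS hK T (cF1 σ)) := pres_tr hK T (qb_F1 σ) (l_A_B hK T) hN hA hZ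
  have hF0 : Pres γ (CS hK T (cF0 σ)) := pres_tr hK T (qb_F0 σ) (l_E4_B hK T) hF1 hE4 h1
  match i with
  | 0 => exact hB
  | 1 => exact hW
  | 2 => exact hN
  | 3 => exact hF
  | 4 => exact hF0
  | 5 => exact hA
  | 6 => exact hE4
  | 7 => exact hY
  | 8 => exact hV
  | 9 => exact hZ
  | _ + 10 => exact h1

theorem tiB_CS {Γ : Subgroup (MulAut (CS hK T (cB σ)))} (hΓ : autInducedBy ⊤ (CS hK T (cB σ)) ≤ Γ)
    (hsyl : ∀ P : Subgroup (MulAut (CS hK T (cB σ))), P ≤ Γ → IsPGroup 2 P →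
      ∃ g ∈ Γ, ∀ x ∈ P, g * x * g⁻¹ ∈ autInducedBy ⊤ (CS hK T (cB σ)))
    {γ : MulAut (CS hK T (cB σ))} (hγ : γ ∈ Γ) (hZ : Pres γ (CS hK T (cZ σ))) : NormAut (⊤ : Subgroup U) γ := by
  have := Cfsg.Agent.H752.TF.finite_U hK T
  exact ti_chain (exp_U hK T) (MB hK T) (k := 10) rfl (CS_id hK T) (MB_le hK T) (MB_T hK T) hΓ hsyl hγ (presB hK T hZ)

/-- the fixed points of an outer element in `V` -/
theorem gZ {g x : U} (hg : g ∉ CS hK T (cB σ)) (hx : x ∈ CS hK T (cV σ)) :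
    g * x * g⁻¹ * x⁻¹ ∈ CS hK T (cong_id (σ := σ)) ↔ x ∈ CS hK T (cZ σ) := by
  constructor
  · intro h
    have h1 := congrArg Cd.b4 (comm_crit.1 h)
    rw [mem_CS] at hx hg ⊢
    obtain ⟨ma1, ma2, mb2, ma3, ma4, ma5, ma6, ma7, ma8, mb8⟩ := pV_iff.1 hx
    simp only [zc] at ma1 ma2 mb2 ma3 ma4 ma5 ma6 ma7 ma8 mb8
    have ha : (cd T g).a1 ≠ 0 := fun h => hg (pB_iff.2 h)
    have h2 : (cd T g).a1 * (cd T x).b6 = 0 := by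
      (dsimp only [mul] at h1; simp only [ma1, ma2, mb2, ma3, ma4, ma5, ma6, ma7, ma8, mb8, map_zero, map_one, mul_zero, zero_mul, mul_one,
        one_mul, add_zero, zero_add, one_pow, zero_pow two_ne_zero, zero_pow three_ne_zero] at h1)
      linear_combination -h1
    have h3 : (cd T x).b6 = 0 := (mul_eq_zero.1 h2).resolve_left ha
    exact pZ_iff.2 ⟨ma1, ma2, mb2, ma3, ma4, ma5, ma6, h3, ma7, ma8, mb8⟩
  · intro h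
    exact comm_crit.2 (ch_Z_1 σ _ _ h)

end

end Cfsg.Agent.H181.TF
end

-- part: H181/TF/TIFin
section
/-!
# S5262 [TI], final (helper181)

* `stTI : StTI`;
* `tiB'` : `γ ∈ Γ ≤ Aut(QB)`, `γ(Z4) ≤ Z4` implies that `γ` normalizes `Aut_U(QB)`;
* `tiA'` : `γ ∈ Γ ≤ Aut(QA)`, `γ(V) ≤ V` implies that `γ` normalizes `Aut_U(QA)`; `tiA_Y` : the same with `γ(Y) ≤ Y`.
-/

set_option autoImplicit false
set_option linter.unusedSimpArgs false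

namespace Cfsg.Agent.H181.TF

open Cfsg Cfsg.FusionSystem Cfsg.Agent.H756.PU Cfsg.Agent.H745.TF

universe u v w

variable {K : Type u} [Field K] {σ : K →+* K} {U : Type v} [Group U] {m : ℕ}

section
variable (hK : _root_.Cfsg.Agent.H745.TF.HypK σ m) (T : TF σ U)

/-! ### squares in `QA`, coordinates -/

theorem sqF (h2 : (2 : K) = 0) (c : Cd K) : pF K c = pF K zc ↔ p2 K c = p2 K zc ∧ pE4 K (mul σ c c) = pE4 K zc := by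
  constructor
  · intro h
    obtain ⟨ma1, ma2, ma8, mb8⟩ := pF_iff.1 h
    simp only [zc] at ma1 ma2 ma8 mb8
    refine ⟨p2_iff.2 ⟨ma1, ma8, mb8⟩, pE4_iff.2 ⟨?_, ?_, ?_, ?_, ?_, ?_, ?_, ?_⟩⟩ <;>
    · (dsimp only [mul] <;> try simp only [zc, ma1, ma2, ma8, mb8, map_zero, mul_zero, zero_mul, add_zero, zero_add, zero_pow two_ne_zero,
        zero_pow three_ne_zero])
      try rw [← two_mul, h2, zero_mul]
  · rintro ⟨h, h'⟩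
    obtain ⟨ma1, ma8, mb8⟩ := p2_iff.1 h
    simp only [zc] at ma1 ma8 mb8
    obtain ⟨-, -, e, -, -, -, -, -⟩ := pE4_iff.1 h'
    (dsimp only [mul] at e; simp only [zc, ma1, ma8, mb8, map_zero, mul_zero, zero_mul, add_zero, zero_add, zero_pow two_ne_zero,
        zero_pow three_ne_zero] at e)
    have h3 : c.a2 * σ c.a2 = 0 := by linear_combination e - c.b2 * h2
    have h4 : c.a2 = 0 := by
      rcases mul_eq_zero.1 h3 with h4 | h4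
      · exact h4
      · exact (map_eq_zero σ).1 h4
    exact pF_iff.2 ⟨ma1, h4, ma8, mb8⟩

theorem sq7 (h2 : (2 : K) = 0) (c : Cd K) : p7 K c = p7 K zc ↔ pF K c = pF K zc ∧
    ∃ d, pD K d = pD K zc ∧ pZ K (mul σ (mul σ c d) (mul σ c d)) = pZ K zc := by
  constructor
  · intro h
    obtain ⟨ma1, ma2, ma6, ma8, mb8⟩ := p7_iff.1 h
    simp only [zc] at ma1 ma2 ma6 ma8 mb8
    refine ⟨pF_iff.2 ⟨ma1, ma2, ma8, mb8⟩, ⟨0, 0, 0, 0, c.a4, 0, 0, 0, 0, 0, 0, 0⟩, rfl, ?_⟩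
    have e4 : c.a4 + c.a4 = 0 := by rw [← two_mul, h2, zero_mul]
    refine pZ_iff.2 ⟨?_, ?_, ?_, ?_, ?_, ?_, ?_, ?_, ?_, ?_, ?_⟩ <;>
    · (dsimp only [mul] <;> try simp only [zc, ma1, ma2, ma6, ma8, mb8, e4, map_zero, mul_zero, zero_mul, add_zero, zero_add,
        zero_pow two_ne_zero, zero_pow three_ne_zero])
      try rw [← two_mul, h2, zero_mul]
  · rintro ⟨h, d, hd, h'⟩
    obtain ⟨ma1, ma2, ma8, mb8⟩ := pF_iff.1 h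
    simp only [zc] at ma1 ma2 ma8 mb8
    obtain ⟨na1, na2, na6, na7, na8, nb8⟩ := pD_iff.1 hd
    simp only [zc] at na1 na2 na6 na7 na8 nb8
    obtain ⟨-, -, -, -, -, e5, -, e6, -, -, -⟩ := pZ_iff.1 h'
    (dsimp only [mul] at e5 e6; simp only [zc, ma1, ma2, ma8, mb8, na1, na2, na6, na7, na8, nb8, map_zero, mul_zero, zero_mul, add_zero,
      zero_add, zero_pow two_ne_zero, zero_pow three_ne_zero] at e5 e6)
    have k5 : c.a6 * (c.a4 + d.a4) = 0 := by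
      linear_combination e5 - (c.a5 + d.a5 + c.a6 * d.a4) * h2
    have k6 : c.a6 * σ c.a6 + c.a7 * (c.a4 + d.a4) = 0 := by
      linear_combination e6 - (c.b6 + d.b6 + c.a7 * d.a4) * h2
    have h6 : c.a6 = 0 := by
      rcases mul_eq_zero.1 k5 with h5 | h5
      · exact h5
      · rw [h5, mul_zero, add_zero] at k6
        rcases mul_eq_zero.1 k6 with h7 | h7
        · exact h7
        · exact (map_eq_zero σ).1 h7
    exact p7_iff.2 ⟨ma1, ma2, h6, ma8, mb8⟩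

theorem sqV (h2 : (2 : K) = 0) (c : Cd K) : pV K c = pV K zc ↔ pY K c = pY K zc ∧
    ∃ d, p7 K d = p7 K zc ∧ pZ K c = pZ K (mul σ d d) := by
  constructor
  · intro h
    obtain ⟨ma1, ma2, mb2, ma3, ma4, ma5, ma6, ma7, ma8, mb8⟩ := pV_iff.1 h
    simp only [zc] at ma1 ma2 mb2 ma3 ma4 ma5 ma6 ma7 ma8 mb8
    refine ⟨pY_iff.2 ⟨ma1, ma2, mb2, ma3, ma4, ma6, ma7, ma8, mb8⟩, ⟨0, 0, 0, 0, 1, 0, 0, 0, 0, c.b6, 0, 0⟩, rfl, ?_⟩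
    refine pZ_iff.2 ⟨?_, ?_, ?_, ?_, ?_, ?_, ?_, ?_, ?_, ?_, ?_⟩
    all_goals (dsimp only [mul] <;> try simp only [ma1, ma2, mb2, ma3, ma4, ma5, ma6, ma7, ma8, mb8, map_zero, mul_zero, zero_mul, add_zero,
      zero_add, mul_one, zero_pow two_ne_zero, zero_pow three_ne_zero])
    · rw [← two_mul, h2, zero_mul]
    · rw [← two_mul, h2, zero_mul]
  · rintro ⟨h, d, hd, h'⟩
    obtain ⟨ma1, ma2, mb2, ma3, ma4, ma6, ma7, ma8, mb8⟩ := pY_iff.1 h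
    simp only [zc] at ma1 ma2 mb2 ma3 ma4 ma6 ma7 ma8 mb8
    obtain ⟨na1, na2, na6, na8, nb8⟩ := p7_iff.1 hd
    simp only [zc] at na1 na2 na6 na8 nb8
    obtain ⟨-, -, -, -, -, e5, -, -, -, -, -⟩ := pZ_iff.1 h'
    (dsimp only [mul] at e5; simp only [na1, na2, na6, na8, nb8, map_zero, mul_zero, zero_mul, add_zero, zero_add, zero_pow two_ne_zero,
      zero_pow three_ne_zero] at e5)
    have h5 : c.a5 = 0 := by rw [e5, ← two_mul, h2, zero_mul]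
    exact pV_iff.2 ⟨ma1, ma2, mb2, ma3, ma4, h5, ma6, ma7, ma8, mb8⟩

/-! ### `QB`: TI -/

theorem tiB_aux {Γ : Subgroup (MulAut (CS hK T (cB σ)))} (hΓ : autInducedBy ⊤ (CS hK T (cB σ)) ≤ Γ)
    (hsyl : ∀ P : Subgroup (MulAut (CS hK T (cB σ))), P ≤ Γ → IsPGroup 2 P →
      ∃ g ∈ Γ, ∀ x ∈ P, g * x * g⁻¹ ∈ autInducedBy ⊤ (CS hK T (cB σ))) : TIAut (⊤ : Subgroup U) Γ := by
  intro γ hγ t ht hti hti'
  obtain ⟨g, -, hg⟩ := (Cfsg.Agent.H802.mem_autInducedBy_iff _ _ _).1 ht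
  obtain ⟨h, -, hh⟩ := (Cfsg.Agent.H802.mem_autInducedBy_iff _ _ _).1 hti'
  have hgQ : g ∉ CS hK T (cB σ) := not_mem_of_not_inn hg hti
  have hhQ : h ∉ CS hK T (cB σ) := not_mem_of_not_inn hh (conj_not_inn hti)
  have h1 := pres_one hK T γ
  have hB := pres_self γ
  have hV : Pres γ (CS hK T (cV σ)) := pres_tr hK T (qb_V σ) le_rfl hB hB h1
  refine tiB_CS hK T hΓ hsyl hγ fun x => ?_
  constructor
  · intro hx
    have h3 := l_Z_V hK T hx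
    rw [← gZ hK T hhQ ((hV x).1 h3), ← transport hg hh h1 x, gZ hK T hgQ h3]
    exact hx
  · intro hx
    have h3 := (hV x).2 (l_Z_V hK T hx)
    rw [← gZ hK T hgQ h3, transport hg hh h1 x, gZ hK T hhQ ((hV x).1 h3)]
    exact hx

/-! ### `QA`: everything follows from `γ(V) = V` -/

theorem presA {γ : MulAut (CS hK T (cQ σ))} (hV : Pres γ (CS hK T (cV σ))) (i : ℕ) : Pres γ (MA hK T i) := by
  have h1 := pres_one hK T γ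
  have hQ := pres_self γ
  have hZ : Pres γ (CS hK T (cZ σ)) := pres_tr hK T (qa_Z σ) le_rfl hQ hQ h1
  have hE : Pres γ (CS hK T (cE σ)) := pres_tr hK T (qa_E σ) le_rfl hQ hQ hZ
  have hD : Pres γ (CS hK T (cD σ)) := pres_tr hK T (qa_D σ) (l_E_Q hK T) hQ hE h1
  have hX2 : Pres γ (CS hK T (c2 σ)) := pres_tr hK T (qa_2 σ) (l_V_Q hK T) hQ hV h1
  have hX7 : Pres γ (CS hK T (c7 σ)) := pres_tr hK T (qa_7 σ) (l_D_Q hK T) hQ hD hV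
  have hE4 : Pres γ (CS hK T (cE4 σ)) := pres_tr hK T (qa_E4 σ) (l_7_Q hK T) hE hX7 h1
  have hF : Pres γ (CS hK T (cF σ)) := by
    have key : ∀ x : U, x ∈ CS hK T (cF σ) ↔ x ∈ CS hK T (c2 σ) ∧ x * x ∈ CS hK T (cE4 σ) := fun x => by
      rw [mem_CS, mem_CS, mem_CS, cd_mul hK, sqF hK.two]
    intro x
    rw [key, key]
    refine and_congr (hX2 x) ?_
    have := hE4 (x * x)
    rw [map_mul] at this
    exact this
  have hY : Pres γ (CS hK T (cY σ)) := pres_tr hK T (qa_Y σ) (l_F_Q hK T) hE hF h1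
  match i with
  | 0 => exact hQ
  | 1 => exact hX2
  | 2 => exact hF
  | 3 => exact hX7
  | 4 => exact hD
  | 5 => exact hE
  | 6 => exact hE4
  | 7 => exact hY
  | 8 => exact hV
  | 9 => exact hZ
  | _ + 10 => exact h1

theorem tiA_CS {Γ : Subgroup (MulAut (CS hK T (cQ σ)))} (hΓ : autInducedBy ⊤ (CS hK T (cQ σ)) ≤ Γ)
    (hsyl : ∀ P : Subgroup (MulAut (CS hK T (cQ σ))), P ≤ Γ → IsPGroup 2 P →
      ∃ g ∈ Γ, ∀ x ∈ P, g * x * g⁻¹ ∈ autInducedBy ⊤ (CS hK T (cQ σ)))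
    {γ : MulAut (CS hK T (cQ σ))} (hγ : γ ∈ Γ) (hV : Pres γ (CS hK T (cV σ))) : NormAut (⊤ : Subgroup U) γ := by
  have := Cfsg.Agent.H752.TF.finite_U hK T
  exact ti_chain (exp_U hK T) (MA hK T) (k := 10) rfl (CS_id hK T) (MA_le hK T) (MA_T hK T) hΓ hsyl hγ (presA hK T hV)

/-- `γ(Y) = Y` implies `γ(V) = V` -/
theorem presV_of_Y {γ : MulAut (CS hK T (cQ σ))} (hY : Pres γ (CS hK T (cY σ))) : Pres γ (CS hK T (cV σ)) := by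
  have h1 := pres_one hK T γ
  have hQ := pres_self γ
  have hZ : Pres γ (CS hK T (cZ σ)) := pres_tr hK T (qa_Z σ) le_rfl hQ hQ h1
  have hE : Pres γ (CS hK T (cE σ)) := pres_tr hK T (qa_E σ) le_rfl hQ hQ hZ
  have hD : Pres γ (CS hK T (cD σ)) := pres_tr hK T (qa_D σ) (l_E_Q hK T) hQ hE h1
  have hF : Pres γ (CS hK T (cF σ)) := pres_tr hK T (qa_F σ) (l_Y_Q hK T) hQ hY h1
  have inv : ∀ y : CS hK T (cQ σ), γ (γ⁻¹ y) = y := fun y => MulAut.apply_inv_self _ γ y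
  have hX7 : Pres γ (CS hK T (c7 σ)) := by
    have key : ∀ x : CS hK T (cQ σ), (x : U) ∈ CS hK T (c7 σ) ↔ (x : U) ∈ CS hK T (cF σ) ∧
        ∃ d : CS hK T (cQ σ), (d : U) ∈ CS hK T (cD σ) ∧ ((x * d * (x * d) : CS hK T (cQ σ)) : U) ∈ CS hK T (cZ σ) := by
      intro x
      rw [mem_CS, sq7 hK.two (σ := σ)]
      refine and_congr Iff.rfl ⟨?_, ?_⟩
      · rintro ⟨d, hd, h⟩
        refine ⟨⟨T.el d, l_D_Q hK T (el_mem_CS.2 hd)⟩, el_mem_CS.2 hd, ?_⟩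
        rw [mem_CS, Subgroup.coe_mul, Subgroup.coe_mul, cd_mul hK, cd_mul hK, cd_el]
        exact h
      · rintro ⟨d, hd, h⟩
        refine ⟨cd T d, hd, ?_⟩
        rwa [mem_CS, Subgroup.coe_mul, Subgroup.coe_mul, cd_mul hK, cd_mul hK] at h
    intro x
    rw [key, key]
    refine and_congr (hF x) ⟨?_, ?_⟩
    · rintro ⟨d, hd, h⟩
      refine ⟨γ d, (hD d).1 hd, ?_⟩
      rw [← map_mul, ← map_mul]
      exact (hZ _).1 h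
    · rintro ⟨d, hd, h⟩
      refine ⟨γ⁻¹ d, ?_, ?_⟩
      · rw [hD, inv]; exact hd
      · rw [hZ, map_mul, map_mul, inv]; exact h
  have key : ∀ x : CS hK T (cQ σ), (x : U) ∈ CS hK T (cV σ) ↔ (x : U) ∈ CS hK T (cY σ) ∧
      ∃ d : CS hK T (cQ σ), (d : U) ∈ CS hK T (c7 σ) ∧ ((x⁻¹ * (d * d) : CS hK T (cQ σ)) : U) ∈ CS hK T (cZ σ) := by
    intro x
    rw [mem_CS, sqV hK.two (σ := σ)]
    refine and_congr Iff.rfl ⟨?_, ?_⟩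
    · rintro ⟨d, hd, h⟩
      refine ⟨⟨T.el d, l_7_Q hK T (el_mem_CS.2 hd)⟩, el_mem_CS.2 hd, ?_⟩
      rw [Subgroup.coe_mul, Subgroup.coe_inv, crit', Subgroup.coe_mul, cd_mul hK, cd_el]
      exact h
    · rintro ⟨d, hd, h⟩
      refine ⟨cd T d, hd, ?_⟩
      rwa [Subgroup.coe_mul, Subgroup.coe_inv, crit', Subgroup.coe_mul, cd_mul hK] at h
  intro x
  rw [key, key]
  refine and_congr (hY x) ⟨?_, ?_⟩
  · rintro ⟨d, hd, h⟩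
    refine ⟨γ d, (hX7 d).1 hd, ?_⟩
    rw [← map_mul, ← map_inv, ← map_mul]
    exact (hZ _).1 h
  · rintro ⟨d, hd, h⟩
    refine ⟨γ⁻¹ d, ?_, ?_⟩
    · rw [hX7, inv]; exact hd
    · rw [hZ, map_mul, map_mul, map_inv, inv]; exact h

/-- fixed points of an outer element of `QA Z8` on `E/Z` -/
theorem gY {g x : U} (hg : g ∉ CS hK T (cQ σ)) (hg8 : (cd T g).a8 = 0) (hx : x ∈ CS hK T (cE σ)) :
    g * x * g⁻¹ * x⁻¹ ∈ CS hK T (cZ σ) ↔ x ∈ CS hK T (cY σ) := by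
  rw [comm_crit, mem_CS]
  rw [mem_CS] at hx hg
  obtain ⟨ma1, ma2, ma4, ma6, ma7, ma8, mb8⟩ := pE_iff.1 hx
  simp only [zc] at ma1 ma2 ma4 ma6 ma7 ma8 mb8
  have hb : (cd T g).b8 ≠ 0 := fun h => hg (pQ_iff.2 ⟨hg8, h⟩)
  constructor
  · intro h
    obtain ⟨-, -, -, -, -, e5, -, e6, -, -, -⟩ := pZ_iff.1 h
    (dsimp only [mul] at e5 e6; simp only [hg8, ma1, ma2, ma4, ma6, ma7, ma8, mb8, map_zero, mul_zero, zero_mul, add_zero, zero_add,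
      zero_pow two_ne_zero, zero_pow three_ne_zero] at e5 e6)
    have k5 : (cd T g).b8 * (cd T x).b2 = 0 := by linear_combination e5
    have kb2 : (cd T x).b2 = 0 := (mul_eq_zero.1 k5).resolve_left hb
    rw [kb2] at e6
    have k6 : (cd T g).b8 * (cd T x).a3 = 0 := by linear_combination e6
    have ka3 : (cd T x).a3 = 0 := (mul_eq_zero.1 k6).resolve_left hb
    exact pY_iff.2 ⟨ma1, ma2, kb2, ka3, ma4, ma6, ma7, ma8, mb8⟩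
  · intro h
    obtain ⟨-, -, mb2, ma3, -, -, -, -, -⟩ := pY_iff.1 h
    simp only [zc] at mb2 ma3
    refine pZ_iff.2 ⟨?_, ?_, ?_, ?_, ?_, ?_, ?_, ?_, ?_, ?_, ?_⟩ <;>
    · (dsimp only [mul] <;> try simp only [hg8, ma1, ma2, mb2, ma3, ma4, ma6, ma7, ma8, mb8, map_zero, mul_zero, zero_mul, add_zero, zero_add,
        zero_pow two_ne_zero, zero_pow three_ne_zero])
      try ring

/-- an inner automorphism is induced only by elements of `Q · C(Q)` -/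
theorem mem_of_inn {G : Type*} [Group G] {Q : Subgroup G} (hc : ∀ x : G, (∀ y ∈ Q, y * x = x * y) → x ∈ Q) {s : MulAut Q} {h : G}
    (hs : ∀ x : Q, ((s x : Q) : G) = h * (x : G) * h⁻¹) (hi : s ∈ Inn Q) : h ∈ Q := by
  obtain ⟨y, rfl⟩ := hi
  have h1 : (y : G)⁻¹ * h ∈ Q := by
    apply hc
    intro z hz
    have h2 := hs ⟨z, hz⟩
    rw [MulAut.conj_apply, Subgroup.coe_mul, Subgroup.coe_mul, Subgroup.coe_inv] at h2
    change (y : G) * z * (y : G)⁻¹ = h * z * h⁻¹ at h2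
    have h3 : z * (y : G)⁻¹ * h = (y : G)⁻¹ * (h * z * h⁻¹) * h := by
      rw [← h2]; group
    rw [mul_assoc z] at h3
    rw [h3]
    group
  have h4 := Q.mul_mem y.2 h1
  rwa [mul_inv_cancel_left] at h4

theorem cen_CSQ (x : U) (h : ∀ y ∈ CS hK T (cQ σ), y * x = x * y) : x ∈ CS hK T (cQ σ) := by
  rw [← QA_eq hK T] at h ⊢
  exact cen_QA hK T x h

theorem presY {γ t : MulAut (CS hK T (cQ σ))} {g h : U}
    (hg : ∀ x : CS hK T (cQ σ), ((t x : CS hK T (cQ σ)) : U) = g * (x : U) * g⁻¹)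
    (hh : ∀ x : CS hK T (cQ σ), (((γ * t * γ⁻¹) x : CS hK T (cQ σ)) : U) = h * (x : U) * h⁻¹)
    (hgQ : g ∉ CS hK T (cQ σ)) (hhQ : h ∉ CS hK T (cQ σ)) (hg8 : (cd T g).a8 = 0) (hh8 : (cd T h).a8 = 0) :
    Pres γ (CS hK T (cY σ)) := by
  have h1 := pres_one hK T γ
  have hQ := pres_self γ
  have hZ : Pres γ (CS hK T (cZ σ)) := pres_tr hK T (qa_Z σ) le_rfl hQ hQ h1
  have hE : Pres γ (CS hK T (cE σ)) := pres_tr hK T (qa_E σ) le_rfl hQ hQ hZ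
  have l : CS hK T (cY σ) ≤ CS hK T (cE σ) := (l_Y_E4 hK T).trans (l_E4_E hK T)
  intro x
  constructor
  · intro hx
    have h3 := l hx
    rw [← gY hK T hhQ hh8 ((hE x).1 h3), ← transport hg hh hZ x, gY hK T hgQ hg8 h3]
    exact hx
  · intro hx
    have h3 := (hE x).2 (l hx)
    rw [← gY hK T hgQ hg8 h3, transport hg hh hZ x, gY hK T hhQ hh8 ((hE x).1 h3)]
    exact hx

include hK

theorem sq_a8 (g : U) : (cd T (g * g)).a8 = 0 := by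
  rw [cd_mul hK]
  change (cd T g).a8 + (cd T g).a8 = 0
  rw [← two_mul, hK.two, zero_mul]

theorem sq_b8 (g : U) : (cd T (g * g)).b8 = (cd T g).a8 * σ (cd T g).a8 := by
  rw [cd_mul hK]
  change (cd T g).b8 + (cd T g).b8 + (cd T g).a8 * σ (cd T g).a8 = _
  rw [← two_mul, hK.two, zero_mul, zero_add]

theorem sq_mem_iff (g : U) : g * g ∈ CS hK T (cQ σ) ↔ (cd T g).a8 = 0 := by
  rw [mem_CS, pQ_iff, sq_a8 hK, sq_b8 hK]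
  constructor
  · rintro ⟨-, h⟩
    rcases mul_eq_zero.1 h with h | h
    · exact h
    · exact (map_eq_zero σ).1 h
  · intro h
    refine ⟨rfl, ?_⟩
    rw [h, zero_mul]
    rfl

theorem tiA_aux {Γ : Subgroup (MulAut (CS hK T (cQ σ)))} (hΓ : autInducedBy ⊤ (CS hK T (cQ σ)) ≤ Γ)
    (hsyl : ∀ P : Subgroup (MulAut (CS hK T (cQ σ))), P ≤ Γ → IsPGroup 2 P →
      ∃ g ∈ Γ, ∀ x ∈ P, g * x * g⁻¹ ∈ autInducedBy ⊤ (CS hK T (cQ σ))) : TIAut (⊤ : Subgroup U) Γ := by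
  intro γ hγ t ht hti hti'
  obtain ⟨g, -, hg⟩ := (Cfsg.Agent.H802.mem_autInducedBy_iff _ _ _).1 ht
  obtain ⟨h, -, hh⟩ := (Cfsg.Agent.H802.mem_autInducedBy_iff _ _ _).1 hti'
  have hgQ : g ∉ CS hK T (cQ σ) := not_mem_of_not_inn hg hti
  have hhQ : h ∉ CS hK T (cQ σ) := not_mem_of_not_inn hh (conj_not_inn hti)
  have sq : ∀ {s : MulAut (CS hK T (cQ σ))} {a : U},
      (∀ x : CS hK T (cQ σ), ((s x : CS hK T (cQ σ)) : U) = a * (x : U) * a⁻¹) →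
      ∀ x : CS hK T (cQ σ), (((s * s) x : CS hK T (cQ σ)) : U) = (a * a) * (x : U) * (a * a)⁻¹ := by
    intro s a hs x
    rw [MulAut.mul_apply, hs, hs]; group
  have hg2 := sq hg
  have hh2 : ∀ x : CS hK T (cQ σ), (((γ * (t * t) * γ⁻¹) x : CS hK T (cQ σ)) : U) = (h * h) * (x : U) * (h * h)⁻¹ := by
    have h3 := sq hh
    have h4 : γ * t * γ⁻¹ * (γ * t * γ⁻¹) = γ * (t * t) * γ⁻¹ := by group
    rwa [h4] at h3
  refine tiA_CS hK T hΓ hsyl hγ (presV_of_Y hK T ?_)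
  by_cases g8 : (cd T g).a8 = 0
  · by_cases h8 : (cd T h).a8 = 0
    · exact presY hK T hg hh hgQ hhQ g8 h8
    · exfalso
      have h5 : h * h ∉ CS hK T (cQ σ) := fun hc => h8 ((sq_mem_iff hK T h).1 hc)
      have h6 : g * g ∈ CS hK T (cQ σ) := (sq_mem_iff hK T g).2 g8
      have h7 : γ * (t * t) * γ⁻¹ ∉ Inn (CS hK T (cQ σ)) := fun hc => h5 (mem_of_inn (cen_CSQ hK T) hh2 hc)
      have h8 : t * t ∈ Inn (CS hK T (cQ σ)) := by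
        refine ⟨⟨g * g, h6⟩, ?_⟩
        ext1 x
        apply Subtype.ext
        rw [hg2]; rfl
      exact h7 (by
        obtain ⟨y, hy⟩ := h8
        refine ⟨γ y, ?_⟩
        rw [← hy]
        ext1 z
        rw [MulAut.mul_apply, MulAut.mul_apply, MulAut.conj_apply, MulAut.conj_apply, map_mul, map_mul, map_inv,
          MulAut.apply_inv_self])
  · have h5 : g * g ∉ CS hK T (cQ σ) := fun hc => g8 ((sq_mem_iff hK T g).1 hc)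
    have h6 : t * t ∉ Inn (CS hK T (cQ σ)) := fun hc => h5 (mem_of_inn (cen_CSQ hK T) hg2 hc)
    have h7 : h * h ∉ CS hK T (cQ σ) := not_mem_of_not_inn hh2 (conj_not_inn h6)
    exact presY hK T hg2 hh2 h5 h7 (sq_a8 hK T g) (sq_a8 hK T h)

/-! ### the statements -/

omit hK in
theorem pres_of_le {G : Type*} [Group G] {Q : Subgroup G} [Finite Q] {γ : MulAut Q} {M : Subgroup G}
    (h : ∀ x : Q, (x : G) ∈ M → ((γ x : Q) : G) ∈ M) : Pres γ M := by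
  have h1 : (M.subgroupOf Q).map γ.toMonoidHom = M.subgroupOf Q := by
    apply Subgroup.eq_of_le_of_card_ge
    · rintro _ ⟨x, hx, rfl⟩
      exact Subgroup.mem_subgroupOf.2 (h x (Subgroup.mem_subgroupOf.1 hx))
    · rw [Subgroup.card_map_of_injective γ.injective]
  intro x
  refine ⟨h x, fun hx => ?_⟩
  have h2 : γ x ∈ (M.subgroupOf Q).map γ.toMonoidHom := by rw [h1]; exact Subgroup.mem_subgroupOf.2 hx
  obtain ⟨y, hy, he⟩ := h2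
  have h3 : y = x := γ.injective he
  rw [← h3]
  exact Subgroup.mem_subgroupOf.1 hy

/-- `γ(Z4) ≤ Z4` implies that `γ` normalizes `Aut_U(QB)` -/
theorem tiB' {Γ : Subgroup (MulAut T.QB)} (hΓ : autInducedBy ⊤ T.QB ≤ Γ)
    (hsyl : ∀ P : Subgroup (MulAut T.QB), P ≤ Γ → IsPGroup 2 P → ∃ g ∈ Γ, ∀ x ∈ P, g * x * g⁻¹ ∈ autInducedBy ⊤ T.QB)
    {γ : MulAut T.QB} (hγ : γ ∈ Γ) (hZ : ∀ x : T.QB, (x : U) ∈ T.Z4 → ((γ x : T.QB) : U) ∈ T.Z4) :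
    NormAut (⊤ : Subgroup U) γ := by
  have := Cfsg.Agent.H752.TF.finite_U hK T
  have hP : Pres γ T.Z4 := pres_of_le hZ
  have key : ∀ Q : Subgroup U, Q = CS hK T (cB σ) → ∀ Z : Subgroup U, Z = CS hK T (cZ σ) →
      ∀ Γ : Subgroup (MulAut Q), autInducedBy ⊤ Q ≤ Γ →
      (∀ P : Subgroup (MulAut Q), P ≤ Γ → IsPGroup 2 P → ∃ g ∈ Γ, ∀ x ∈ P, g * x * g⁻¹ ∈ autInducedBy ⊤ Q) →
      ∀ γ ∈ Γ, Pres γ Z → NormAut (⊤ : Subgroup U) γ := by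
    rintro _ rfl _ rfl Γ hΓ hsyl γ hγ hZ
    exact tiB_CS hK T hΓ hsyl hγ hZ
  exact key _ (QB_eq hK T) _ (Z4_eq hK T) Γ hΓ hsyl γ hγ hP

end

theorem stTI : Cfsg.Agent.H745.TF.StTI.{u, v} := by
  intro K _ σ m hK U _ T Q hQ
  rcases hQ with rfl | rfl
  · have key : ∀ Q : Subgroup U, Q = CS hK T (cQ σ) → ∀ Γ : Subgroup (MulAut Q), autInducedBy ⊤ Q ≤ Γ →
        (∀ P : Subgroup (MulAut Q), P ≤ Γ → IsPGroup 2 P → ∃ g ∈ Γ, ∀ x ∈ P, g * x * g⁻¹ ∈ autInducedBy ⊤ Q) →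
        TIAut (⊤ : Subgroup U) Γ := by
      rintro _ rfl Γ hΓ hsyl
      exact tiA_aux hK T hΓ hsyl
    refine ⟨key _ (QA_eq hK T), ?_, ?_, map_of_presU (fun α => char_QA hK T α)⟩
    · rintro x ⟨-, hx'⟩
      exact cen_QA hK T x (Subgroup.mem_centralizer_iff.1 hx')
    · intro htop
      have h1 : T.el ⟨0, 0, 0, 0, 0, 0, 0, 0, 0, 0, 1, 0⟩ ∈ T.QA := by rw [htop]; trivial
      rw [QA_eq hK, el_mem_CS, pQ_iff] at h1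
      exact one_ne_zero h1.1
  · have key : ∀ Q : Subgroup U, Q = CS hK T (cB σ) → ∀ Γ : Subgroup (MulAut Q), autInducedBy ⊤ Q ≤ Γ →
        (∀ P : Subgroup (MulAut Q), P ≤ Γ → IsPGroup 2 P → ∃ g ∈ Γ, ∀ x ∈ P, g * x * g⁻¹ ∈ autInducedBy ⊤ Q) →
        TIAut (⊤ : Subgroup U) Γ := by
      rintro _ rfl Γ hΓ hsyl
      exact tiB_aux hK T hΓ hsyl
    refine ⟨key _ (QB_eq hK T), ?_, ?_, map_of_presU (fun α => char_QB hK T α)⟩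
    · rintro x ⟨-, hx'⟩
      exact cen_QB hK T x (Subgroup.mem_centralizer_iff.1 hx')
    · intro htop
      have h1 : T.el ⟨1, 0, 0, 0, 0, 0, 0, 0, 0, 0, 0, 0⟩ ∈ T.QB := by rw [htop]; trivial
      rw [QB_eq hK, el_mem_CS, pB_iff] at h1
      exact one_ne_zero h1

end Cfsg.Agent.H181.TF
end
end

-- part: H181/TF/Stab2
section
prune_inst 0x1010450004220200080000020000004020000002004340001100000008021061a904260100700a1001c408b06040c04000000009420000000a008a00400500208403400203100d0436000900f800000000000000000000000000000000041000000000000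
set_option linter.all false
open scoped Cfsg.Agent.FastGrp

/-!
# S5262, `q = 2` (helper181): the stabilizer of `Z4` in `Aut(QB)` and of `V` in `Aut(QA)` are 2-groups

`k01` : every element of `K` is `0` or `1`;
`stab2_B`, `stab2_A` : a subgroup of `Aut(QB)` preserving `Z4` (of `Aut(QA)` preserving `V`) is a 2-group;
`stab2_A_Y` : the same for a subgroup of `Aut(QA)` preserving `Y`;
`pow_B`, `pow_A`, `pow_A_Y` : the same for one automorphism.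
-/

set_option autoImplicit false
set_option linter.unusedSimpArgs false

namespace Cfsg.Agent.H181.TF

open Cfsg Cfsg.FusionSystem Cfsg.Agent.H756.PU Cfsg.Agent.H745.TF

universe u v w

variable {K : Type u} [Field K] {σ : K →+* K} {U : Type v} [Group U]

/-- `q = 2`: every element of the field is `0` or `1` -/
theorem k01 (hK : HypK σ 0) (x : K) : x = 0 ∨ x = 1 := by
  have := hK.fin
  have hc : Nat.card K = 2 := by rw [hK.card]; norm_num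
  have := Fintype.ofFinite K
  have h1 : x ^ Fintype.card K = x := FiniteField.pow_card x
  rw [← Nat.card_eq_fintype_card, hc] at h1
  rcases eq_or_ne x 0 with h | h
  · exact Or.inl h
  · exact Or.inr (mul_left_cancel₀ h (by rw [← pow_two, h1, mul_one]))

/-- a factor with one coordinate has order `2`, so it is centralized -/
theorem two_step (hK : HypK σ 0) (T : TF σ U) {α β : Type u} {pM : Cd K → α} {pN : Cd K → β} (hM : Cong σ pM)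
    (hN : Cong σ pN) (f : Cd K → K) (hf : ∀ c d, pN c = pN d ↔ pM c = pM d ∧ f c = f d) {Q : Subgroup U}
    {γ : MulAut Q} (h1 : Pres γ (CS hK T hM)) (h2 : Pres γ (CS hK T hN)) (x : Q) (hx : (x : U) ∈ CS hK T hM) :
    ((x⁻¹ * γ x : Q) : U) ∈ CS hK T hN := by
  have hy := (h1 x).1 hx
  change (x : U)⁻¹ * ((γ x : Q) : U) ∈ _
  by_cases hxN : (x : U) ∈ CS hK T hN
  · exact mul_mem (inv_mem hxN) ((h2 x).1 hxN)
  · have hyN : ((γ x : Q) : U) ∉ CS hK T hN := fun h => hxN ((h2 x).2 h)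
    rw [crit', hf]
    rw [mem_CS] at hx hy hxN hyN
    refine ⟨hx.trans hy.symm, ?_⟩
    rw [hf] at hxN hyN
    have a1 : f (cd T x) ≠ f zc := fun h => hxN ⟨hx, h⟩
    have a2 : f (cd T (γ x : Q)) ≠ f zc := fun h => hyN ⟨hy, h⟩
    rcases k01 hK (f (cd T x)) with h | h <;> rcases k01 hK (f (cd T (γ x : Q))) with h' | h' <;>
      rcases k01 hK (f zc) with h'' | h'' <;> simp_all

/-- the chain of `QB` with factors of order `2` -/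
def M2B (hK : HypK σ 0) (T : TF σ U) : ℕ → Subgroup U
  | 0 => CS hK T (cB σ)
  | 1 => CS hK T (cW σ)
  | 2 => CS hK T (cN σ)
  | 3 => CS hK T (cF σ)
  | 4 => CS hK T (cF1 σ)
  | 5 => CS hK T (cF0 σ)
  | 6 => CS hK T (cA σ)
  | 7 => CS hK T (cE4 σ)
  | 8 => CS hK T (cY σ)
  | 9 => CS hK T (cV σ)
  | 10 => CS hK T (cZ σ)
  | _ => CS hK T (cong_id (σ := σ))

theorem presB2 (hK : HypK σ 0) (T : TF σ U) {γ : MulAut (CS hK T (cB σ))} (hZ : Pres γ (CS hK T (cZ σ))) (i : ℕ) :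
    Pres γ (M2B hK T i) := by
  have h := presB hK T hZ
  have hF1 : Pres γ (CS hK T (cF1 σ)) := pres_tr hK T (hA := cN σ) (qb_F1 σ) (l_A_B hK T) (h 2) (h 5) hZ
  match i with
  | 0 => exact h 0
  | 1 => exact h 1
  | 2 => exact h 2
  | 3 => exact h 3
  | 4 => exact hF1
  | 5 => exact h 4
  | 6 => exact h 5
  | 7 => exact h 6
  | 8 => exact h 7
  | 9 => exact h 8
  | 10 => exact h 9
  | _ + 11 => exact h 10

theorem stepB2 (hK : HypK σ 0) (T : TF σ U) {γ : MulAut (CS hK T (cB σ))} (hZ : Pres γ (CS hK T (cZ σ))) (i : ℕ)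
    (x : CS hK T (cB σ)) (hx : (x : U) ∈ M2B hK T i) : ((x⁻¹ * γ x : CS hK T (cB σ)) : U) ∈ M2B hK T (i + 1) := by
  have h := presB2 hK T hZ
  match i, hx with
  | 0, hx => exact two_step hK T (cB σ) (cW σ) (fun c => c.a8) (fun c d => by rw [pW_iff, pB_iff]) (h 0) (h 1) x hx
  | 1, hx => exact two_step hK T (cW σ) (cN σ) (fun c => c.a2) (fun c d => by rw [pN_iff, pW_iff]; tauto) (h 1) (h 2) x hx
  | 2, hx => exact two_step hK T (cN σ) (cF σ) (fun c => c.b8) (fun c d => by rw [pF_iff, pN_iff]; tauto) (h 2) (h 3) x hx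
  | 3, hx => exact two_step hK T (cF σ) (cF1 σ) (fun c => c.a4) (fun c d => by rw [pF1_iff, pF_iff]; tauto) (h 3) (h 4) x hx
  | 4, hx => exact two_step hK T (cF1 σ) (cF0 σ) (fun c => c.a6) (fun c d => by rw [pF0_iff, pF1_iff]; tauto) (h 4) (h 5) x hx
  | 5, hx => exact two_step hK T (cF0 σ) (cA σ) (fun c => c.b2) (fun c d => by rw [pA_iff, pF0_iff]; tauto) (h 5) (h 6) x hx
  | 6, hx => exact two_step hK T (cA σ) (cE4 σ) (fun c => c.a7) (fun c d => by rw [pE4_iff, pA_iff]; tauto) (h 6) (h 7) x hx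
  | 7, hx => exact two_step hK T (cE4 σ) (cY σ) (fun c => c.a3) (fun c d => by rw [pY_iff, pE4_iff]; tauto) (h 7) (h 8) x hx
  | 8, hx => exact two_step hK T (cY σ) (cV σ) (fun c => c.a5) (fun c d => by rw [pV_iff, pY_iff]; tauto) (h 8) (h 9) x hx
  | 9, hx => exact two_step hK T (cV σ) (cZ σ) (fun c => c.b6) (fun c d => by rw [pZ_iff, pV_iff]; tauto) (h 9) (h 10) x hx
  | 10, hx => exact two_step hK T (cZ σ) (cong_id (σ := σ)) (fun c => c.b4) (fun c d => by rw [pZ_iff, p1_iff]; tauto) (h 10) (h 11) x hx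
  | n + 11, hx =>
    change (x : U) ∈ CS hK T (cong_id (σ := σ)) at hx
    rw [CS_id, Subgroup.mem_bot] at hx
    have hx1 : x = 1 := Subtype.ext hx
    subst hx1
    simp only [map_one, mul_one, inv_one]
    exact one_mem _

/-- the chain of `QA` with factors of order `2` -/
theorem stepA2 (hK : HypK σ 0) (T : TF σ U) {γ : MulAut (CS hK T (cQ σ))} (hV : Pres γ (CS hK T (cV σ))) (i : ℕ)
    (x : CS hK T (cQ σ)) (hx : (x : U) ∈ MA hK T i) : ((x⁻¹ * γ x : CS hK T (cQ σ)) : U) ∈ MA hK T (i + 1) := by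
  have h := presA hK T hV
  match i, hx with
  | 0, hx => exact two_step hK T (cQ σ) (c2 σ) (fun c => c.a1) (fun c d => by rw [p2_iff, pQ_iff]; tauto) (h 0) (h 1) x hx
  | 1, hx => exact two_step hK T (c2 σ) (cF σ) (fun c => c.a2) (fun c d => by rw [pF_iff, p2_iff]; tauto) (h 1) (h 2) x hx
  | 2, hx => exact two_step hK T (cF σ) (c7 σ) (fun c => c.a6) (fun c d => by rw [p7_iff, pF_iff]; tauto) (h 2) (h 3) x hx
  | 3, hx => exact two_step hK T (c7 σ) (cD σ) (fun c => c.a7) (fun c d => by rw [pD_iff, p7_iff]; tauto) (h 3) (h 4) x hx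
  | 4, hx => exact two_step hK T (cD σ) (cE σ) (fun c => c.a4) (fun c d => by rw [pE_iff, pD_iff]; tauto) (h 4) (h 5) x hx
  | 5, hx => exact two_step hK T (cE σ) (cE4 σ) (fun c => c.b2) (fun c d => by rw [pE4_iff, pE_iff]; tauto) (h 5) (h 6) x hx
  | 6, hx => exact two_step hK T (cE4 σ) (cY σ) (fun c => c.a3) (fun c d => by rw [pY_iff, pE4_iff]; tauto) (h 6) (h 7) x hx
  | 7, hx => exact two_step hK T (cY σ) (cV σ) (fun c => c.a5) (fun c d => by rw [pV_iff, pY_iff]; tauto) (h 7) (h 8) x hx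
  | 8, hx => exact two_step hK T (cV σ) (cZ σ) (fun c => c.b6) (fun c d => by rw [pZ_iff, pV_iff]; tauto) (h 8) (h 9) x hx
  | 9, hx => exact two_step hK T (cZ σ) (cong_id (σ := σ)) (fun c => c.b4) (fun c d => by rw [pZ_iff, p1_iff]; tauto) (h 9) (h 10) x hx
  | n + 10, hx =>
    change (x : U) ∈ CS hK T (cong_id (σ := σ)) at hx
    rw [CS_id, Subgroup.mem_bot] at hx
    have hx1 : x = 1 := Subtype.ext hx
    subst hx1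
    simp only [map_one, mul_one, inv_one]
    exact one_mem _

theorem pg_B (hK : HypK σ 0) (T : TF σ U) (H : Subgroup (MulAut (CS hK T (cB σ))))
    (hH : ∀ γ ∈ H, Pres γ (CS hK T (cZ σ))) : IsPGroup 2 H := by
  have hle : H ≤ ChS (fun i => (M2B hK T i).subgroupOf (CS hK T (cB σ))) := fun γ hγ => by
    rw [mem_ChS]
    exact ⟨fun i x => presB2 hK T (hH γ hγ) i x, fun i x hx => stepB2 hK T (hH γ hγ) i x hx⟩
  refine IsPGroup.to_le (isPGroup_ChS (k := 11) (e := (2 * 0 + 1) * 12) ?_ ?_ ?_) hle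
  · change (CS hK T (cB σ)).subgroupOf (CS hK T (cB σ)) = ⊤
    rw [Subgroup.subgroupOf_self]
  · change (CS hK T (cong_id (σ := σ))).subgroupOf (CS hK T (cB σ)) = ⊥
    rw [CS_id, Subgroup.bot_subgroupOf]
  · intro x
    ext
    rw [Subgroup.coe_pow, exp_U hK T]; rfl

theorem pg_A (hK : HypK σ 0) (T : TF σ U) (H : Subgroup (MulAut (CS hK T (cQ σ))))
    (hH : ∀ γ ∈ H, Pres γ (CS hK T (cV σ))) : IsPGroup 2 H := by
  have hle : H ≤ ChS (fun i => (MA hK T i).subgroupOf (CS hK T (cQ σ))) := fun γ hγ => by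
    rw [mem_ChS]
    exact ⟨fun i x => presA hK T (hH γ hγ) i x, fun i x hx => stepA2 hK T (hH γ hγ) i x hx⟩
  refine IsPGroup.to_le (isPGroup_ChS (k := 10) (e := (2 * 0 + 1) * 12) ?_ ?_ ?_) hle
  · change (CS hK T (cQ σ)).subgroupOf (CS hK T (cQ σ)) = ⊤
    rw [Subgroup.subgroupOf_self]
  · change (CS hK T (cong_id (σ := σ))).subgroupOf (CS hK T (cQ σ)) = ⊥
    rw [CS_id, Subgroup.bot_subgroupOf]
  · intro x
    ext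
    rw [Subgroup.coe_pow, exp_U hK T]; rfl

/-! ### statements -/

/-- `q = 2`: a subgroup of `Aut(QB)` preserving `Z4` is a 2-group -/
theorem stab2_B (hK : HypK σ 0) (T : TF σ U) (H : Subgroup (MulAut T.QB))
    (hH : ∀ γ ∈ H, ∀ x : T.QB, (x : U) ∈ T.Z4 → ((γ x : T.QB) : U) ∈ T.Z4) : IsPGroup 2 H := by
  have := Cfsg.Agent.H752.TF.finite_U hK T
  have hP : ∀ γ ∈ H, Pres γ T.Z4 := fun γ hγ => pres_of_le (hH γ hγ)
  have key : ∀ Q : Subgroup U, Q = CS hK T (cB σ) → ∀ Z : Subgroup U, Z = CS hK T (cZ σ) →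
      ∀ H : Subgroup (MulAut Q), (∀ γ ∈ H, Pres γ Z) → IsPGroup 2 H := by
    rintro _ rfl _ rfl H h
    exact pg_B hK T H h
  exact key _ (QB_eq hK T) _ (Z4_eq hK T) H hP

/-- `q = 2`: a subgroup of `Aut(QA)` preserving `V` is a 2-group -/
theorem stab2_A (hK : HypK σ 0) (T : TF σ U) (H : Subgroup (MulAut T.QA))
    (hH : ∀ γ ∈ H, ∀ x : T.QA, (x : U) ∈ T.V → ((γ x : T.QA) : U) ∈ T.V) : IsPGroup 2 H := by
  have := Cfsg.Agent.H752.TF.finite_U hK T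
  have hP : ∀ γ ∈ H, Pres γ T.V := fun γ hγ => pres_of_le (hH γ hγ)
  have key : ∀ Q : Subgroup U, Q = CS hK T (cQ σ) → ∀ Z : Subgroup U, Z = CS hK T (cV σ) →
      ∀ H : Subgroup (MulAut Q), (∀ γ ∈ H, Pres γ Z) → IsPGroup 2 H := by
    rintro _ rfl _ rfl H h
    exact pg_A hK T H h
  exact key _ (QA_eq hK T) _ (V_eq hK T) H hP

/-- one automorphism of `QB` preserving `Z4` has 2-power order -/
theorem pow_B (hK : HypK σ 0) (T : TF σ U) (γ : MulAut T.QB)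
    (hγ : ∀ x : T.QB, (x : U) ∈ T.Z4 → ((γ x : T.QB) : U) ∈ T.Z4) : ∃ k, γ ^ 2 ^ k = 1 := by
  have := Cfsg.Agent.H752.TF.finite_U hK T
  have hP : Pres γ T.Z4 := pres_of_le hγ
  have hz : ∀ δ ∈ Subgroup.zpowers γ, ∀ x : T.QB, (x : U) ∈ T.Z4 ↔ ((δ x : T.QB) : U) ∈ T.Z4 := by
    intro δ hδ
    rw [Subgroup.zpowers_eq_closure] at hδ
    induction hδ using Subgroup.closure_induction with
    | mem x hx => rw [Set.mem_singleton_iff] at hx; subst hx; exact hP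
    | one => exact fun x => Iff.rfl
    | mul a b _ _ ha hb => exact fun x => (hb x).trans (ha _)
    | inv a _ ha =>
      intro x
      have h1 : a (a⁻¹ x) = x := MulAut.apply_inv_self _ a x
      rw [ha (a⁻¹ x), h1]
  obtain ⟨k, hk⟩ := stab2_B hK T (Subgroup.zpowers γ) (fun δ hδ x hx => (hz δ hδ x).1 hx) ⟨γ, Subgroup.mem_zpowers γ⟩
  exact ⟨k, congrArg Subtype.val hk⟩

/-- one automorphism of `QA` preserving `V` has 2-power order -/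
theorem pow_A (hK : HypK σ 0) (T : TF σ U) (γ : MulAut T.QA)
    (hγ : ∀ x : T.QA, (x : U) ∈ T.V → ((γ x : T.QA) : U) ∈ T.V) : ∃ k, γ ^ 2 ^ k = 1 := by
  have := Cfsg.Agent.H752.TF.finite_U hK T
  have hP : Pres γ T.V := pres_of_le hγ
  have hz : ∀ δ ∈ Subgroup.zpowers γ, ∀ x : T.QA, (x : U) ∈ T.V ↔ ((δ x : T.QA) : U) ∈ T.V := by
    intro δ hδ
    rw [Subgroup.zpowers_eq_closure] at hδ
    induction hδ using Subgroup.closure_induction with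
    | mem x hx => rw [Set.mem_singleton_iff] at hx; subst hx; exact hP
    | one => exact fun x => Iff.rfl
    | mul a b _ _ ha hb => exact fun x => (hb x).trans (ha _)
    | inv a _ ha =>
      intro x
      have h1 : a (a⁻¹ x) = x := MulAut.apply_inv_self _ a x
      rw [ha (a⁻¹ x), h1]
  obtain ⟨k, hk⟩ := stab2_A hK T (Subgroup.zpowers γ) (fun δ hδ x hx => (hz δ hδ x).1 hx) ⟨γ, Subgroup.mem_zpowers γ⟩
  exact ⟨k, congrArg Subtype.val hk⟩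

end Cfsg.Agent.H181.TF

private theorem dce_a8299871d3ae : _root_.True := by
  try have : _root_.True := by simp only [_root_.Cfsg.Agent.H181.TF.MA.congr_simp]
  try have : _root_.True := by simp only [_root_.Cfsg.Agent.H181.TF.M2B.congr_simp]
  exact _root_.True.intro
end

-- part: H240/TF/Ess4a
section
prune_inst 0x3010450024000000000000000000006020000002004000000000000000010060200500010220001000d00c102000004000000000422800000a000800000400000000000000000000200000000000000000000000000000000000000000000000000000000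
set_option linter.all false
open scoped Cfsg.Agent.FastGrp

/-!
# S5262 (ESS4a): an essential `Y ≤ R ≤ QB`, `R ≰ N3` contains `A37` (helper240)
-/

set_option autoImplicit false
set_option linter.unusedVariables false
set_option linter.unusedSimpArgs false

namespace Cfsg.Agent.H240.TF

open Cfsg Cfsg.FusionSystem Cfsg.Agent.Octagon.Pkg Cfsg.Agent.H745.TF Cfsg.Agent.H756.PU
open Cfsg.Agent.H752.TF Cfsg.Agent.H802.TE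

universe u v

/-- a subgroup that normalizes `E` up to `Y ≤ E` -/
theorem com_inv {Ω : Type*} [Group Ω] {N : Subgroup Ω} {a b : Ω} (h : a * b * a⁻¹ * b⁻¹ ∈ N) :
    b * a * b⁻¹ * a⁻¹ ∈ N := by
  have h1 := N.inv_mem h
  have h2 : (a * b * a⁻¹ * b⁻¹)⁻¹ = b * a * b⁻¹ * a⁻¹ := by group
  rwa [h2] at h1

section

variable {K : Type u} [Field K] {σ : K →+* K} {m : ℕ} (hK : HypK σ m)
variable {U : Type v} [Group U] (T : TF σ U)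

include hK

/-- the key computation: `y = γ(y0)` an involution of `N3∖A37`, `y0 ∈ Y`; then `y` is "parallel" to each `w ∈ R` -/
theorem key_delta {R : Subgroup U} {Γ : Subgroup (MulAut R)} (hQB : R ≤ T.QB) {γ : MulAut R}
    {y0 : R} (hy0 : (y0 : U) ∈ T.Y) (hyN : ((γ y0 : R) : U) ∈ T.N3) {p0 k0 r : K} (hr : r ≠ 0)
    (hb2 : (co T ((γ y0 : R) : U)).b2 = r * p0 * σ p0) (ha4 : (co T ((γ y0 : R) : U)).a4 = r * σ p0 * k0)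
    (ha6 : (co T ((γ y0 : R) : U)).a6 = r * p0 * σ k0) (hb8 : (co T ((γ y0 : R) : U)).b8 = r * k0 * σ k0)
    {w : U} (hw : w ∈ R) : k0 * (co T w).a2 + p0 * (co T w).a8 = 0 := by
  have h2 := hK.two
  set y : U := ((γ y0 : R) : U) with hy
  -- `[y, w]` is central in `R`
  have hcen : ∀ z ∈ R, z * (y * w * y⁻¹ * w⁻¹) = (y * w * y⁻¹ * w⁻¹) * z := by
    intro z hz
    set w' : R := γ⁻¹ ⟨w, hw⟩ with hw'
    set z' : R := γ⁻¹ ⟨z, hz⟩ with hz'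
    have h1 : (y0 * w' * y0⁻¹ * w'⁻¹ : R) = ⟨y0 * w' * (y0 : U)⁻¹ * (w' : U)⁻¹, (y0 * w' * y0⁻¹ * w'⁻¹ : R).2⟩ := rfl
    have hV : (y0 : U) * w' * (y0 : U)⁻¹ * (w' : U)⁻¹ ∈ T.V := by
      apply com_inv
      rw [mem_V hK, co_QB_Y hK T (hQB w'.2) hy0]
      exact ⟨rfl, rfl, rfl, rfl, rfl, rfl, rfl, rfl, rfl, rfl⟩
    have h3 : z' * (y0 * w' * y0⁻¹ * w'⁻¹) = (y0 * w' * y0⁻¹ * w'⁻¹) * z' := by
      apply Subtype.ext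
      exact comm_QB_V hK T (hQB z'.2) hV
    have h4 := congrArg (fun e : R => ((γ e : R) : U)) h3
    simp only [map_mul, map_inv, hw', hz', MulAut.apply_inv_self, Subgroup.coe_mul, Subgroup.coe_inv] at h4
    exact h4
  obtain ⟨hA, h3, h7⟩ := comm_N3_QB hK T hyN (hQB hw)
  obtain ⟨-, h5⟩ := comm_QB_A37 hK T (hQB hw) hA
  have h6 : w * (y * w * y⁻¹ * w⁻¹) * w⁻¹ * (y * w * y⁻¹ * w⁻¹)⁻¹ = 1 := by
    rw [hcen w hw, mul_inv_cancel_right, mul_inv_cancel]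
  rw [h6, co_one, h3, h7, hb2, ha4, ha6, hb8] at h5
  set p := (co T w).a2
  set k := (co T w).a8
  have h8 : r * (k0 * p + p0 * k) * σ (k0 * p + p0 * k) = 0 := by
    rw [map_add, map_mul, map_mul]
    linear_combination -h5
  rcases mul_eq_zero.1 h8 with h | h
  · exact (mul_eq_zero.1 h).resolve_left hr
  · exact (map_eq_zero σ).1 h

end

/-- (ESS4a) -/
theorem stEss4a_of (hphi : StPhi.{v}) (hhull : StHull.{v}) (hsq : StSQ.{u, v}) : StEss4a.{u, v} := by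
  intro K _ σ m hK U _ T R Γ hE hY hQB hN
  have h2 := hK.two
  have := finite_U hK T
  have := hK.fin
  by_contra hAR
  have hpR : IsPGroup 2 R := hE.pgr.of_injective (Subgroup.inclusion hE.E_le) (Subgroup.inclusion_injective _)
  obtain ⟨hΦR, hRR, -, -, -, -⟩ := hphi R 2 Nat.prime_two inferInstance hpR
  obtain ⟨γ, hγ, y0, hy0, a, ha, hcon⟩ := hhull hE T.A37 T.Y le_top hY
    (fun x hx e he => comm_A37_QB hK T hx (hQB he)) hAR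
  have hsq0 : y0 * y0 = 1 := Subtype.ext (sq_A37 hK T (Y_le_A37 hK T hy0))
  have hy2 : ((γ y0 : R) : U) * ((γ y0 : R) : U) = 1 := by
    have h := congrArg (fun e : R => ((γ e : R) : U)) hsq0
    simpa only [map_mul, map_one, Subgroup.coe_mul, Subgroup.coe_one] using h
  have hyQ : ((γ y0 : R) : U) ∈ T.QB := hQB (γ y0).2
  have hyN : ((γ y0 : R) : U) ∈ T.N3 := stOrd hK T _ hy2 hyQ
  have hyA : ((γ y0 : R) : U) ∉ T.A37 := by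
    intro h
    apply hcon
    rw [comm_A37 hK T ha h]
    exact (Phi R).one_mem
  obtain ⟨p0, k0, r, hr, hpk, hb2, ha4, ha6, hb8⟩ := hsq hK T (co T ((γ y0 : R) : U))
    (by rw [el_co]; exact hyN) (by rw [el_co]; exact hy2) (by rw [el_co]; exact hyA)
  obtain ⟨w, hw, hwN⟩ := SetLike.not_le_iff_exists.1 hN
  have hδ := key_delta (Γ := Γ) hK T hQB hy0 hyN hr hb2 ha4 ha6 hb8 hw
  have hwQ := hQB hw
  -- `(p, k) = λ (p0, k0)`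
  obtain ⟨l, hl, hlp, hlk⟩ : ∃ l : K, l ≠ 0 ∧ (co T w).a2 = l * p0 ∧ (co T w).a8 = l * k0 := by
    have hne : (co T w).a2 ≠ 0 ∨ (co T w).a8 ≠ 0 := by
      by_contra hh
      push Not at hh
      apply hwN
      rw [mem_N3 hK]
      rw [mem_QB hK] at hwQ
      exact ⟨hwQ, hh.1, hh.2⟩
    rcases hpk with h0 | h0
    · have e1 : (co T w).a2 = (co T w).a2 / p0 * p0 := by rw [div_mul_cancel₀ _ h0]
      have e2 : (co T w).a8 = (co T w).a2 / p0 * k0 := by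
        field_simp
        linear_combination hδ - k0 * (co T w).a2 * h2
      refine ⟨(co T w).a2 / p0, ?_, e1, e2⟩
      intro h
      rw [h, zero_mul] at e1 e2
      rcases hne with h' | h'
      · exact h' e1
      · exact h' e2
    · have e1 : (co T w).a8 = (co T w).a8 / k0 * k0 := by rw [div_mul_cancel₀ _ h0]
      have e2 : (co T w).a2 = (co T w).a8 / k0 * p0 := by
        field_simp
        linear_combination hδ - p0 * (co T w).a8 * h2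
      refine ⟨(co T w).a8 / k0, ?_, e2, e1⟩
      intro h
      rw [h, zero_mul] at e1 e2
      rcases hne with h' | h'
      · exact h' e2
      · exact h' e1
  -- `[a, y] = [w, x5 s]⁻¹`
  set t := (co T a).a3 with ht
  set s := (co T a).a7 with hs
  set z := r * (σ k0 * t + σ p0 * s) / l with hz
  have hz' : l * z = r * (σ k0 * t + σ p0 * s) := by
    rw [hz]
    field_simp
  have hx5 : T.x5 z ∈ T.Y := X5_le_Y T (x5_mem T z)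
  have e1 := comm_N3_A37 hK T hyN ha
  have e2 := co_QB_Y hK T hwQ hx5
  have e3 : ((γ y0 : R) : U) * a * ((γ y0 : R) : U)⁻¹ * a⁻¹ = w * T.x5 z * w⁻¹ * (T.x5 z)⁻¹ := by
    apply co_injective T
    rw [e1, e2, hb2, ha4, ha6, hb8, hlp, hlk, co_x5]
    ext <;> simp only [e5]
    · linear_combination -p0 * hz'
    · linear_combination -k0 * hz'
  apply hcon
  apply com_inv
  rw [e3]
  exact hRR w hw _ (hY hx5)

end Cfsg.Agent.H240.TF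
end

-- part: H240/TF/Ess4b
section
prune_inst 0x3010050034000000000000000000006020000002004000000000000008010060290500000230001000000c9060000040000000000228000020000800000500000001000200140c00100000008000000000000000000000000000000000000000000000000
set_option linter.all false
open scoped Cfsg.Agent.FastGrp

/-!
# S5262 (ESS4b): an essential `A37 ≤ R ≤ QB`, `R ≰ N3` contains `N3` (helper240)
-/

set_option autoImplicit false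
set_option linter.unusedVariables false
set_option linter.unusedSimpArgs false

namespace Cfsg.Agent.H240.TF

open Cfsg Cfsg.FusionSystem Cfsg.Agent.Octagon.Pkg Cfsg.Agent.H745.TF Cfsg.Agent.H756.PU
open Cfsg.Agent.H752.TF Cfsg.Agent.H802.TE

universe u v

section

variable {K : Type u} [Field K] {σ : K →+* K} {m : ℕ} (hK : HypK σ m)
variable {U : Type v} [Group U] (T : TF σ U)

include hK

theorem mul_mem_V {c y : U} (hc : c ∈ T.Y) (hy : y ∈ T.Y) (h : (co T c).a5 = (co T y).a5) : c * y ∈ T.V := by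
  have h2 := hK.two
  rw [mem_V hK, co_mul hK]
  rw [mem_Y hK] at hc hy
  generalize co T c = c at hc h ⊢
  generalize co T y = d at hy h ⊢
  obtain ⟨c1, c2, c3, c4, c5, c6, c7, c8, c9⟩ := hc
  obtain ⟨d1, d2, d3, d4, d5, d6, d7, d8, d9⟩ := hy
  refine ⟨?_, ?_, ?_, ?_, ?_, ?_, ?_, ?_, ?_, ?_⟩ <;>
    simp only [mul_a1, mul_a2, mul_b2, mul_a3, mul_a4, mul_b4, mul_a5, mul_a6, mul_b6, mul_a7, mul_a8, mul_b8,
      c1, c2, c3, c4, c5, c6, c7, c8, c9, d1, d2, d3, d4, d5, d6, d7, d8, d9, zero_mul, mul_zero, add_zero, zero_add,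
      map_zero, pow_zero, ne_eq, OfNat.ofNat_ne_zero, not_false_eq_true, zero_pow]
  rw [h]
  linear_combination d.a5 * h2

/-- the product in `V` -/
theorem co_VV (a b c d : K) : T.x4 0 a * T.x6 0 b * (T.x4 0 c * T.x6 0 d) = T.x4 0 (a + c) * T.x6 0 (b + d) := by
  apply co_injective T
  rw [co_mul hK, co_mul hK, co_mul hK, co_mul hK, co_x4, co_x4, co_x6, co_x6, co_x4, co_x6]
  ext <;> simp only [e4, e6, mul_a1, mul_a2, mul_b2, mul_a3, mul_a4, mul_b4, mul_a5, mul_a6, mul_b6, mul_a7, mul_a8, mul_b8,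
      zero_mul, mul_zero, add_zero, zero_add,
      map_zero, pow_zero, ne_eq, OfNat.ofNat_ne_zero, not_false_eq_true, zero_pow]

theorem co_QB_X5 {w : U} (hw : w ∈ T.QB) (s : K) :
    w * T.x5 s * w⁻¹ * (T.x5 s)⁻¹ = T.x4 0 ((co T w).a2 * s) * T.x6 0 ((co T w).a8 * s) := by
  apply co_injective T
  rw [co_QB_Y hK T hw (X5_le_Y T (x5_mem T s)), co_mul hK, co_x4, co_x6, co_x5]
  ext <;> simp only [e4, e5, e6, mul_a1, mul_a2, mul_b2, mul_a3, mul_a4, mul_b4, mul_a5, mul_a6, mul_b6, mul_a7, mul_a8,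
      mul_b8, zero_mul, mul_zero, add_zero, zero_add,
      map_zero, pow_zero, ne_eq, OfNat.ofNat_ne_zero, not_false_eq_true, zero_pow]

/-- `x4(b)² = z4(bσ(b))` -/
theorem sq_x4 (b : K) : T.x4 b 0 * T.x4 b 0 = T.x4 0 (b * σ b) := by
  have h2 := hK.two
  apply co_injective T
  rw [co_mul hK, co_x4, co_x4]
  ext <;> simp only [e4, mul_a1, mul_a2, mul_b2, mul_a3, mul_a4, mul_b4, mul_a5, mul_a6, mul_b6, mul_a7, mul_a8, mul_b8,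
      zero_mul, mul_zero, add_zero, zero_add,
      map_zero, pow_zero, ne_eq, OfNat.ofNat_ne_zero, not_false_eq_true, zero_pow]
  linear_combination b * h2

/-- `x6(b)² = z6(bσ(b))` -/
theorem sq_x6 (b : K) : T.x6 b 0 * T.x6 b 0 = T.x6 0 (b * σ b) := by
  have h2 := hK.two
  apply co_injective T
  rw [co_mul hK, co_x6, co_x6]
  ext <;> simp only [e6, mul_a1, mul_a2, mul_b2, mul_a3, mul_a4, mul_b4, mul_a5, mul_a6, mul_b6, mul_a7, mul_a8, mul_b8,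
      zero_mul, mul_zero, add_zero, zero_add,
      map_zero, pow_zero, ne_eq, OfNat.ofNat_ne_zero, not_false_eq_true, zero_pow]
  linear_combination b * h2

omit hK in
theorem x4_zero : T.x4 0 0 = 1 := co_injective T (by rw [co_x4, co_one]; rfl)

omit hK in
theorem x6_zero : T.x6 0 0 = 1 := co_injective T (by rw [co_x6, co_one]; rfl)

/-- `b ↦ b σ(b)` is onto -/
theorem exists_norm (z : K) : ∃ b : K, b * σ b = z := by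
  by_cases hz : z = 0
  · exact ⟨0, by rw [zero_mul, hz]⟩
  · have hs : σ z ≠ 0 := (map_ne_zero σ).2 hz
    refine ⟨σ z / z, ?_⟩
    rw [map_div₀, hK.sq]
    field_simp

/-- conjugation by `x1 t` on `QB/N3` -/
theorem co_conj_x1 (t : K) (w : U) :
    (co T (T.x1 t * w * (T.x1 t)⁻¹)).a2 + (co T w).a8 * t = (co T w).a2 := by
  have e : co T (T.x1 t * w * (T.x1 t)⁻¹ * T.x1 t) = co T (T.x1 t * w) := by rw [inv_mul_cancel_right]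
  rw [co_mul hK T _ (T.x1 t), co_mul hK T (T.x1 t) w, co_x1] at e
  generalize co T (T.x1 t * w * (T.x1 t)⁻¹) = z at e ⊢
  generalize co T w = c at e ⊢
  have f8 := congrArg Cd.a8 e
  simp only [mul_a8, e1, zero_add, add_zero] at f8
  have f2 := congrArg Cd.a2 e
  simp only [mul_a2, e1, zero_add, add_zero, zero_mul] at f2
  rw [← f8]
  exact f2

/-- not in `N3` -/
theorem ne_of_not_N3 {w : U} (hw : w ∈ T.QB) (hN : w ∉ T.N3) : (co T w).a2 ≠ 0 ∨ (co T w).a8 ≠ 0 := by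
  by_contra hh
  push Not at hh
  apply hN
  rw [mem_N3 hK]
  rw [mem_QB hK] at hw
  exact ⟨hw, hh.1, hh.2⟩

end

section

variable (hphi : StPhi.{v}) (hhull : StHull.{v})
variable {K : Type u} [Field K] {σ : K →+* K} {m : ℕ} (hK : HypK σ m)
variable {U : Type v} [Group U] (T : TF σ U)
variable {R : Subgroup U} {Γ : Subgroup (MulAut R)} (hE : Ess (⊤ : Subgroup U) R 2 Γ) (hA : T.A37 ≤ R) (hQB : R ≤ T.QB)
variable (hN : ¬ R ≤ T.N3) (hN3 : ¬ T.N3 ≤ R)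

include hphi hK T hE in
theorem phi_facts : Com R R (Phi R) ∧ ∀ x ∈ R, x * x ∈ Phi R := by
  have := finite_U hK T
  have hpR : IsPGroup 2 R := hE.pgr.of_injective (Subgroup.inclusion hE.E_le) (Subgroup.inclusion_injective _)
  obtain ⟨-, hRR, hsq, -, -, -⟩ := hphi R 2 Nat.prime_two inferInstance hpR
  exact ⟨hRR, fun x hx => by rw [← sq]; exact hsq x hx⟩

include hphi hhull hK hE hA hQB hN hN3 in
/-- `V ≤ Φ(R)` is impossible -/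
theorem no_V (hV : T.V ≤ Phi R) : False := by
  have h2 := hK.two
  obtain ⟨hRR, hSQ⟩ := phi_facts hphi hK T hE
  obtain ⟨w, hw, hwN⟩ := SetLike.not_le_iff_exists.1 hN
  -- `Y ≤ Φ`
  have hY : T.Y ≤ Phi R := by
    intro y hy
    obtain ⟨a, ha, h5⟩ : ∃ a ∈ T.A37, σ (co T w).a8 * (co T a).a3 + (co T a).a7 * σ (co T w).a2 = (co T y).a5 := by
      rcases ne_of_not_N3 hK T (hQB hw) hwN with h | h
      · have h' : σ (co T w).a2 ≠ 0 := (map_ne_zero σ).2 h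
        refine ⟨T.x7 ((co T y).a5 / σ (co T w).a2), X7_le_A37 T (x7_mem T _), ?_⟩
        rw [co_x7]
        simp only [e7, mul_zero, zero_add]
        rw [div_mul_cancel₀ _ h']
      · have h' : σ (co T w).a8 ≠ 0 := (map_ne_zero σ).2 h
        refine ⟨T.x3 ((co T y).a5 / σ (co T w).a8), X3_le_A37 T (x3_mem T _), ?_⟩
        rw [co_x3]
        simp only [e3, zero_mul, add_zero]
        rw [mul_div_cancel₀ _ h']
    obtain ⟨hcY, hc5⟩ := comm_QB_A37 hK T (hQB hw) ha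
    have hcΦ : w * a * w⁻¹ * a⁻¹ ∈ Phi R := hRR w hw a (hA ha)
    generalize w * a * w⁻¹ * a⁻¹ = c at hcY hc5 hcΦ
    have h6 := hV (mul_mem_V hK T hcY hy (by rw [hc5, h5]))
    have h7 : c * (c * y) = y := by rw [← mul_assoc, sq_A37 hK T (Y_le_A37 hK T hcY), one_mul]
    rw [← h7]
    exact (Phi R).mul_mem hcΦ h6
  obtain ⟨γ, hγ, y0, hy0, n, hn, hcon⟩ := hhull hE T.N3 T.A37 le_top hA
    (fun x hx e he => (comm_N3_QB hK T hx (hQB he)).1) hN3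
  have hsq0 : y0 * y0 = 1 := Subtype.ext (sq_A37 hK T hy0)
  have hy2 : ((γ y0 : R) : U) * ((γ y0 : R) : U) = 1 := by
    have h := congrArg (fun e : R => ((γ e : R) : U)) hsq0
    simpa only [map_mul, map_one, Subgroup.coe_mul, Subgroup.coe_one] using h
  have hyN : ((γ y0 : R) : U) ∈ T.N3 := stOrd hK T _ hy2 (hQB (γ y0).2)
  exact hcon (hY (comm_N3 hK T hn hyN))

include hphi hhull hK hE hA hQB hN hN3 in
/-- (γ) -/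
theorem no_indep {w w' : U} (hw : w ∈ R) (hw' : w' ∈ R) :
    (co T w).a2 * (co T w').a8 + (co T w').a2 * (co T w).a8 = 0 := by
  by_contra hD
  have h2 := hK.two
  obtain ⟨hRR, hSQ⟩ := phi_facts hphi hK T hE
  refine no_V hphi hhull hK T hE hA hQB hN hN3 fun v hv => ?_
  set p := (co T w).a2
  set k := (co T w).a8
  set p' := (co T w').a2
  set k' := (co T w').a8
  set D := p * k' + p' * k with hDd
  rw [mem_V hK] at hv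
  have hY5 : ∀ s, T.x5 s ∈ R := fun s => hA (X5_le_A37 T (x5_mem T s))
  have e1 := co_QB_X5 hK T (hQB hw) (((co T v).b4 * k' + (co T v).b6 * p') / D)
  have e2 := co_QB_X5 hK T (hQB hw') (((co T v).b4 * k + (co T v).b6 * p) / D)
  have e3 : v = (T.x4 0 (p * (((co T v).b4 * k' + (co T v).b6 * p') / D)) *
      T.x6 0 (k * (((co T v).b4 * k' + (co T v).b6 * p') / D))) *
      (T.x4 0 (p' * (((co T v).b4 * k + (co T v).b6 * p) / D)) *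
      T.x6 0 (k' * (((co T v).b4 * k + (co T v).b6 * p) / D))) := by
    rw [co_VV hK]
    apply co_injective T
    rw [co_mul hK, co_x4, co_x6]
    have h4 : p * (((co T v).b4 * k' + (co T v).b6 * p') / D) + p' * (((co T v).b4 * k + (co T v).b6 * p) / D) =
        (co T v).b4 := by
      field_simp
      rw [hDd]
      linear_combination p * p' * (co T v).b6 * h2
    have h6 : k * (((co T v).b4 * k' + (co T v).b6 * p') / D) + k' * (((co T v).b4 * k + (co T v).b6 * p) / D) =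
        (co T v).b6 := by
      field_simp
      rw [hDd]
      linear_combination k * k' * (co T v).b4 * h2
    rw [h4, h6]
    obtain ⟨v1, v2, v3, v4, v5, v6, v7, v8, v9, v10⟩ := hv
    ext <;> simp only [e4, e6, mul_a1, mul_a2, mul_b2, mul_a3, mul_a4, mul_b4, mul_a5, mul_a6, mul_b6, mul_a7, mul_a8,
      mul_b8, zero_mul, mul_zero, add_zero, zero_add, v1, v2, v3, v4, v5, v6, v7, v8, v9, v10,
      map_zero, pow_zero, ne_eq, OfNat.ofNat_ne_zero, not_false_eq_true, zero_pow]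
  rw [e3, ← e1, ← e2]
  exact (Phi R).mul_mem (hRR w hw _ (hY5 _)) (hRR w' hw' _ (hY5 _))

include hphi hhull hK hE hA hQB hN hN3 in
/-- case (I): `R ≤ X2 N3` -/
theorem caseI (hsq : StSQ.{u, v}) (hI : ∀ w ∈ R, (co T w).a8 = 0) : False := by
  have h2 := hK.two
  obtain ⟨hRR, hSQ⟩ := phi_facts hphi hK T hE
  obtain ⟨w, hw, hwN⟩ := SetLike.not_le_iff_exists.1 hN
  have hp : (co T w).a2 ≠ 0 := (ne_of_not_N3 hK T (hQB hw) hwN).resolve_right (fun h => h (hI w hw))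
  have hY5 : ∀ s, T.x5 s ∈ R := fun s => hA (X5_le_A37 T (x5_mem T s))
  have hZ4 : T.Z4 ≤ Phi R := by
    intro z hz
    obtain ⟨u, rfl⟩ := (mem_Z4 hK T).1 hz
    have e1 := co_QB_X5 hK T (hQB hw) (u / (co T w).a2)
    rw [mul_div_cancel₀ _ hp, hI w hw, zero_mul, x6_zero T, mul_one] at e1
    rw [← e1]
    exact hRR w hw _ (hY5 _)
  obtain ⟨N, hNm⟩ := exists_sub hK T (fun c => c.a1 = 0 ∧ c.a2 = 0 ∧ c.a8 = 0 ∧ c.a4 = 0 ∧ c.b8 = 0)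
    ⟨rfl, rfl, rfl, rfl, rfl⟩ (by
      rintro c d ⟨c1, c2, c8, c4, d8⟩ ⟨e1, e2, e8, e4, f8⟩
      refine ⟨?_, ?_, ?_, ?_, ?_⟩ <;>
      simp only [mul_a1, mul_a2, mul_b2, mul_a3, mul_a4, mul_a8, mul_b8, c1, c2, c8, c4, d8, e1, e2, e8, e4, f8,
        zero_mul, mul_zero, add_zero, zero_add, map_zero])
  have hNR : N ≤ R := by
    by_contra hcN
    obtain ⟨γ, hγ, y0, hy0, n, hn, hcon⟩ := hhull hE N T.Y le_top ((Y_le_A37 hK T).trans hA) (by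
      intro x hx e he
      obtain ⟨x1, x2, x8, x4, xb8⟩ := (hNm x).1 hx
      have hxN : x ∈ T.N3 := (mem_N3 hK T).2 ⟨x1, x2, x8⟩
      obtain ⟨hcA, h3, h7⟩ := comm_N3_QB hK T hxN (hQB he)
      rw [x4, hI e he, zero_mul, zero_mul, add_zero] at h3
      rw [xb8, hI e he, zero_mul, zero_mul, add_zero] at h7
      rw [mem_A37 hK] at hcA
      rw [mem_Y hK]
      obtain ⟨k1, k2, k3, k4, k5, k6, k7⟩ := hcA
      exact ⟨k1, k2, k3, h3, k4, k5, h7, k6, k7⟩) hcN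
    have hsq0 : y0 * y0 = 1 := Subtype.ext (sq_A37 hK T (Y_le_A37 hK T hy0))
    have hy2 : ((γ y0 : R) : U) * ((γ y0 : R) : U) = 1 := by
      have h := congrArg (fun e : R => ((γ e : R) : U)) hsq0
      simpa only [map_mul, map_one, Subgroup.coe_mul, Subgroup.coe_one] using h
    have hyN : ((γ y0 : R) : U) ∈ T.N3 := stOrd hK T _ hy2 (hQB (γ y0).2)
    obtain ⟨n1, n2, n8, n4, nb8⟩ := (hNm n).1 hn
    have hnN : n ∈ T.N3 := (mem_N3 hK T).2 ⟨n1, n2, n8⟩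
    have h468 : (co T ((γ y0 : R) : U)).a4 = 0 ∧ (co T ((γ y0 : R) : U)).a6 = 0 ∧ (co T ((γ y0 : R) : U)).b8 = 0 := by
      by_cases hyA : ((γ y0 : R) : U) ∈ T.A37
      · rw [mem_A37 hK] at hyA
        exact ⟨hyA.2.2.2.1, hyA.2.2.2.2.1, hyA.2.2.2.2.2.2⟩
      · obtain ⟨p0, k0, r, hr, hpk, hb2, ha4, ha6, hb8⟩ := hsq hK T (co T ((γ y0 : R) : U))
          (by rw [el_co]; exact hyN) (by rw [el_co]; exact hy2) (by rw [el_co]; exact hyA)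
        have hδ := key_delta (Γ := Γ) hK T hQB hy0 hyN hr hb2 ha4 ha6 hb8 hw
        rw [hI w hw, mul_zero, add_zero] at hδ
        have hk0 : k0 = 0 := (mul_eq_zero.1 hδ).resolve_right hp
        rw [hk0] at ha4 ha6 hb8
        refine ⟨?_, ?_, ?_⟩
        · rw [ha4, mul_zero]
        · rw [ha6, map_zero, mul_zero]
        · rw [hb8, map_zero, mul_zero]
    exact hcon (hZ4 (comm_Z4_case hK T hnN hyN n4 nb8 h468.1 h468.2.1 h468.2.2))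
  refine no_V hphi hhull hK T hE hA hQB hN hN3 (sup_le hZ4 fun z hz => ?_)
  obtain ⟨u, rfl⟩ := (mem_Z6 hK T).1 hz
  obtain ⟨b, hb⟩ := exists_norm hK u
  rw [← hb, ← sq_x6 hK]
  refine hSQ _ (hNR ((hNm _).2 ?_))
  rw [co_x6]
  exact ⟨rfl, rfl, rfl, rfl, rfl⟩

include hphi hhull hK hE hA hQB hN hN3 in
/-- case (II): `R ≤ X8 N3` -/
theorem caseII (hsq : StSQ.{u, v}) (hI : ∀ w ∈ R, (co T w).a2 = 0) : False := by
  have h2 := hK.two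
  obtain ⟨hRR, hSQ⟩ := phi_facts hphi hK T hE
  obtain ⟨w, hw, hwN⟩ := SetLike.not_le_iff_exists.1 hN
  have hp : (co T w).a8 ≠ 0 := (ne_of_not_N3 hK T (hQB hw) hwN).resolve_left (fun h => h (hI w hw))
  have hY5 : ∀ s, T.x5 s ∈ R := fun s => hA (X5_le_A37 T (x5_mem T s))
  have hZ6 : T.Z6 ≤ Phi R := by
    intro z hz
    obtain ⟨u, rfl⟩ := (mem_Z6 hK T).1 hz
    have e1 := co_QB_X5 hK T (hQB hw) (u / (co T w).a8)
    rw [mul_div_cancel₀ _ hp, hI w hw, zero_mul, x4_zero T, one_mul] at e1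
    rw [← e1]
    exact hRR w hw _ (hY5 _)
  obtain ⟨N, hNm⟩ := exists_sub hK T (fun c => c.a1 = 0 ∧ c.a2 = 0 ∧ c.a8 = 0 ∧ c.b2 = 0 ∧ c.a6 = 0)
    ⟨rfl, rfl, rfl, rfl, rfl⟩ (by
      rintro c d ⟨c1, c2, c8, c4, d8⟩ ⟨e1, e2, e8, e4, f8⟩
      refine ⟨?_, ?_, ?_, ?_, ?_⟩ <;>
      simp only [mul_a1, mul_a2, mul_b2, mul_a3, mul_a4, mul_a6, mul_a8, mul_b8, c1, c2, c8, c4, d8, e1, e2, e8, e4, f8,
        zero_mul, mul_zero, add_zero, zero_add, map_zero])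
  have hNR : N ≤ R := by
    by_contra hcN
    obtain ⟨γ, hγ, y0, hy0, n, hn, hcon⟩ := hhull hE N T.Y le_top ((Y_le_A37 hK T).trans hA) (by
      intro x hx e he
      obtain ⟨x1, x2, x8, xb2, x6⟩ := (hNm x).1 hx
      have hxN : x ∈ T.N3 := (mem_N3 hK T).2 ⟨x1, x2, x8⟩
      obtain ⟨hcA, h3, h7⟩ := comm_N3_QB hK T hxN (hQB he)
      rw [xb2, hI e he, mul_zero, mul_zero, add_zero] at h3
      rw [x6, hI e he, mul_zero, mul_zero, add_zero] at h7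
      rw [mem_A37 hK] at hcA
      rw [mem_Y hK]
      obtain ⟨k1, k2, k3, k4, k5, k6, k7⟩ := hcA
      exact ⟨k1, k2, k3, h3, k4, k5, h7, k6, k7⟩) hcN
    have hsq0 : y0 * y0 = 1 := Subtype.ext (sq_A37 hK T (Y_le_A37 hK T hy0))
    have hy2 : ((γ y0 : R) : U) * ((γ y0 : R) : U) = 1 := by
      have h := congrArg (fun e : R => ((γ e : R) : U)) hsq0
      simpa only [map_mul, map_one, Subgroup.coe_mul, Subgroup.coe_one] using h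
    have hyN : ((γ y0 : R) : U) ∈ T.N3 := stOrd hK T _ hy2 (hQB (γ y0).2)
    obtain ⟨n1, n2, n8, nb2, n6⟩ := (hNm n).1 hn
    have hnN : n ∈ T.N3 := (mem_N3 hK T).2 ⟨n1, n2, n8⟩
    have h468 : (co T ((γ y0 : R) : U)).b2 = 0 ∧ (co T ((γ y0 : R) : U)).a4 = 0 ∧ (co T ((γ y0 : R) : U)).a6 = 0 := by
      by_cases hyA : ((γ y0 : R) : U) ∈ T.A37
      · rw [mem_A37 hK] at hyA
        exact ⟨hyA.2.2.1, hyA.2.2.2.1, hyA.2.2.2.2.1⟩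
      · obtain ⟨p0, k0, r, hr, hpk, hb2, ha4, ha6, hb8⟩ := hsq hK T (co T ((γ y0 : R) : U))
          (by rw [el_co]; exact hyN) (by rw [el_co]; exact hy2) (by rw [el_co]; exact hyA)
        have hδ := key_delta (Γ := Γ) hK T hQB hy0 hyN hr hb2 ha4 ha6 hb8 hw
        rw [hI w hw, mul_zero, zero_add] at hδ
        have hp0 : p0 = 0 := (mul_eq_zero.1 hδ).resolve_right hp
        rw [hp0] at hb2 ha4 ha6
        refine ⟨?_, ?_, ?_⟩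
        · rw [hb2, map_zero, mul_zero]
        · rw [ha4, map_zero, mul_zero, zero_mul]
        · rw [ha6, mul_zero, zero_mul]
    exact hcon (hZ6 (comm_Z6_case hK T hnN hyN nb2 n6 h468.1 h468.2.1 h468.2.2))
  refine no_V hphi hhull hK T hE hA hQB hN hN3 (sup_le (fun z hz => ?_) hZ6)
  obtain ⟨u, rfl⟩ := (mem_Z4 hK T).1 hz
  obtain ⟨b, hb⟩ := exists_norm hK u
  rw [← hb, ← sq_x4 hK]
  refine hSQ _ (hNR ((hNm _).2 ?_))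
  rw [co_x4]
  exact ⟨rfl, rfl, rfl, rfl, rfl⟩

end

/-- (ESS4b) -/
theorem stEss4b_of (hphi : StPhi.{v}) (hhull : StHull.{v}) (hcj : StConj.{v}) (hsq : StSQ.{u, v}) :
    StEss4b.{u, v} := by
  intro K _ σ m hK U _ T R Γ hE hA hQB hN
  have h2 := hK.two
  by_contra hN3
  obtain ⟨w, hw, hwN⟩ := SetLike.not_le_iff_exists.1 hN
  have hind := fun (w' : U) (hw' : w' ∈ R) => no_indep hphi hhull hK T hE hA hQB hN hN3 hw hw'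
  by_cases hk : (co T w).a8 = 0
  · have hp : (co T w).a2 ≠ 0 := (ne_of_not_N3 hK T (hQB hw) hwN).resolve_right (fun h => h hk)
    refine caseI hphi hhull hK T hE hA hQB hN hN3 hsq fun w' hw' => ?_
    have h := hind w' hw'
    rw [hk, mul_zero, add_zero] at h
    exact (mul_eq_zero.1 h).resolve_left hp
  · set t : K := (co T w).a2 / (co T w).a8 with ht
    set g : U := T.x1 t with hg
    obtain ⟨Γ', hE'⟩ := hcj hE g (Subgroup.mem_top g)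
    have hmem : ∀ x : U, x ∈ R.map (MulAut.conj g).toMonoidHom ↔ g⁻¹ * x * g ∈ R := by
      intro x
      rw [Subgroup.mem_map]
      constructor
      · rintro ⟨r, hr, rfl⟩
        have : g⁻¹ * ((MulAut.conj g).toMonoidHom r) * g = r := by
          change g⁻¹ * (g * r * g⁻¹) * g = r
          group
        rw [this]
        exact hr
      · intro h
        refine ⟨_, h, ?_⟩
        change g * (g⁻¹ * x * g) * g⁻¹ = x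
        group
    have hnA := A37_normal hK T
    have hnN := N3_normal hK T
    have hnQ := QB_normal hK T
    have hcn : ∀ (S : Subgroup U), S.Normal → ∀ x, x ∈ S ↔ g⁻¹ * x * g ∈ S := by
      intro S hS x
      constructor
      · intro h
        have := hS.conj_mem x h g⁻¹
        rwa [inv_inv] at this
      · intro h
        have := hS.conj_mem _ h g
        rwa [show g * (g⁻¹ * x * g) * g⁻¹ = x by group] at this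
    refine caseII hphi hhull hK T hE' (fun a ha => (hmem a).2 (hA ((hcn _ hnA a).1 ha)))
      (fun x hx => (hcn _ hnQ x).2 (hQB ((hmem x).1 hx))) (fun h => ?_) (fun h => ?_) hsq (fun x hx => ?_)
    · apply hwN
      have h1 : g * w * g⁻¹ ∈ R.map (MulAut.conj g).toMonoidHom := (hmem _).2 (by
        rwa [show g⁻¹ * (g * w * g⁻¹) * g = w by group])
      have h3 := (hcn _ hnN _).1 (h h1)
      rwa [show g⁻¹ * (g * w * g⁻¹) * g = w by group] at h3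
    · apply hN3
      intro n hn
      have h1 := (hmem _).1 (h (hnN.conj_mem n hn g))
      rwa [show g⁻¹ * (g * n * g⁻¹) * g = n by group] at h1
    · have hr := (hmem x).1 hx
      have h3 := co_conj_x1 hK T t (g⁻¹ * x * g)
      rw [← hg, show g * (g⁻¹ * x * g) * g⁻¹ = x by group] at h3
      have h4 := hind _ hr
      have h5 : (co T (g⁻¹ * x * g)).a8 * t = (co T (g⁻¹ * x * g)).a2 := by
        rw [ht, ← mul_div_assoc, div_eq_iff hk]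
        linear_combination h4 - (co T (g⁻¹ * x * g)).a2 * (co T w).a8 * h2
      rw [h5] at h3
      linear_combination h3

end Cfsg.Agent.H240.TF
end

-- part: H483/TF/Code
section
prune_inst 0x2010400070220200000000000200002000000000000300000100000008090021a90026010210020001c408a068004000000000090200000000000200400500208000400003300d04360009800800000000000000000000000000000000000000000000000
set_option linter.all false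
open scoped Cfsg.Agent.FastGrp

-- part: H483/TF/A2Def
section
/-!
# S5262, `q = 2`, A-side: the finite parts (kernel checks, helper483)
-/

set_option autoImplicit false

namespace Cfsg.Agent.H483.TF

open Cfsg Cfsg.FusionSystem Cfsg.Agent.H756.PU Cfsg.Agent.H802 Cfsg.Agent.H745.TF

universe u v

/-- (INV5) the involutions of `QA ∖ D` lie in five cosets of `D`: `x7 D` and the four conjugates of `x1 D` under `x8` -/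
def StInv5 : Prop :=
  ∀ {K : Type u} [Field K] {σ : K →+* K}, _root_.Cfsg.Agent.H745.TF.HypK σ 0 → ∀ {U : Type v} [Group U] (T : TF σ U) (w : U),
    w ∈ T.QA → w ∉ T.D → w * w = 1 →
    (T.x7 1)⁻¹ * w ∈ T.D ∨ ∃ i < 4, (T.x8 1 0 ^ i * T.x1 1 * (T.x8 1 0 ^ i)⁻¹)⁻¹ * w ∈ T.D

/-- (STA) the stabilizer of `x7 D` in `Aut(QA)` is a 2-group -/
def StStab2A : Prop :=
  ∀ {K : Type u} [Field K] {σ : K →+* K}, _root_.Cfsg.Agent.H745.TF.HypK σ 0 → ∀ {U : Type v} [Group U] (T : TF σ U) (γ : MulAut T.QA),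
    (∀ e : T.QA, (e : U) = T.x7 1 → (T.x7 1)⁻¹ * ((γ e : T.QA) : U) ∈ T.D) → ∃ n : ℕ, γ ^ 2 ^ n = 1

/-- (CONJ4) the elements of `D ∖ E` are `QA`-conjugate to `x4(1,0)` or its inverse -/
def StConj4 : Prop :=
  ∀ {K : Type u} [Field K] {σ : K →+* K}, _root_.Cfsg.Agent.H745.TF.HypK σ 0 → ∀ {U : Type v} [Group U] (T : TF σ U) (b : U),
    b ∈ T.D → b ∉ T.E → ∃ g ∈ T.QA, g * b * g⁻¹ = T.x4 1 0 ∨ g * b * g⁻¹ = (T.x4 1 0)⁻¹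

/-- (CEN4) -/
def StCen4 : Prop :=
  ∀ {K : Type u} [Field K] {σ : K →+* K}, _root_.Cfsg.Agent.H745.TF.HypK σ 0 → ∀ {U : Type v} [Group U] (T : TF σ U) (g : U),
    g ∈ T.QA → (g * T.x4 1 0 * g⁻¹ = T.x4 1 0 ∨ g * T.x4 1 0 * g⁻¹ = (T.x4 1 0)⁻¹) → g ∈ T.D

/-- (TW) a twisted conjugation in `D` -/
def StTw : Prop :=
  ∀ {K : Type u} [Field K] {σ : K →+* K}, _root_.Cfsg.Agent.H745.TF.HypK σ 0 → ∀ {U : Type v} [Group U] (T : TF σ U) (d : U), d ∈ T.D →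
    ((d * T.x8 1 0) ^ 4 ∈ T.Z4 ∨ (T.x4 1 0)⁻¹ * (d * T.x8 1 0) ^ 4 ∈ T.Z4) →
    ∃ e ∈ T.D, e * (d * T.x8 1 0) * e⁻¹ * (T.x8 1 0)⁻¹ ∈ T.Z4 ∨
      (T.x4 1 0)⁻¹ * (e * (d * T.x8 1 0) * e⁻¹ * (T.x8 1 0)⁻¹) ∈ T.Z4

/-- (FINA) an automorphism of order 5 of `QA` in normal position -/
def StFinA : Prop :=
  ∀ {K : Type u} [Field K] {σ : K →+* K}, _root_.Cfsg.Agent.H745.TF.HypK σ 0 → ∀ {U : Type v} [Group U] (T : TF σ U)
    (c8 ρ : MulAut T.QA), (∀ e : T.QA, ((c8 e : T.QA) : U) = T.x8 1 0 * e * (T.x8 1 0)⁻¹) →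
    (∀ e : T.QA, (e : U) = T.x4 1 0 → ρ e = e) → ρ ^ 5 = 1 → (∃ k < 5, c8 * ρ * c8⁻¹ = ρ ^ k) →
    (∀ e : T.QA, (e : U) = T.x7 1 → (T.x1 1)⁻¹ * ((ρ e : T.QA) : U) ∈ T.D) →
    ∃ τ : MulAut U, (∀ γ γ' : MulAut T.QB, IsCj τ γ γ' → (γ ∈ T.LamB ↔ γ' ∈ T.LamB)) ∧
      ∀ γ' : MulAut T.QA, IsCj τ ρ γ' → T.LamA = autInducedBy ⊤ T.QA ⊔ Subgroup.closure {γ'}

end Cfsg.Agent.H483.TF
end

-- part: H483/TF/Code
section
/-!
# S5262, `q = 2`: the elements of `U` as numbers below 4096 (helper483)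

`El T m` is the element whose coordinates `a1 a2 b2 a3 a4 b4 a5 a6 b6 a7 a8 b8` are the binary digits of `m`;
`El T m * El T n = El T (mu m n)`.
-/

set_option autoImplicit false

namespace Cfsg.Agent.H483.TF

open Cfsg Cfsg.Agent.H745.TF Cfsg.Agent.H181.TF

universe u v

/-- `f` is true on `[n 2^k, (n+1) 2^k)` -/
def allB (f : ℕ → Bool) : ℕ → ℕ → Bool
  | 0, n => f n
  | k + 1, n => allB f k (2 * n) && allB f k (2 * n + 1)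

theorem allB_spec (f : ℕ → Bool) : ∀ (k n : ℕ), allB f k n = true → ∀ c, n * 2 ^ k ≤ c → c < (n + 1) * 2 ^ k →
    f c = true := by
  intro k
  induction k with
  | zero =>
    intro n h c h1 h2
    rw [pow_zero, mul_one] at h1
    rw [pow_zero, mul_one] at h2
    have : c = n := by omega
    rw [this]; exact h
  | succ k ih =>
    intro n h c h1 h2
    rw [allB, Bool.and_eq_true] at h
    rw [pow_succ] at h1 h2
    have e1 : (2 * n + 1) * 2 ^ k = n * (2 ^ k * 2) + 2 ^ k := by ring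
    have e2 : 2 * n * 2 ^ k = n * (2 ^ k * 2) := by ring
    have e3 : (2 * n + 1 + 1) * 2 ^ k = (n + 1) * (2 ^ k * 2) := by ring
    rcases lt_or_ge c ((2 * n + 1) * 2 ^ k) with hc | hc
    · exact ih _ h.1 c (by omega) hc
    · exact ih _ h.2 c hc (by omega)


def q_a1 (m0 n0 : ℕ) : ℕ :=
  (Nat.xor m0 n0)

def q_a2 (m1 m10 n0 n1 : ℕ) : ℕ :=
  (Nat.xor (Nat.xor m1 n1) (Nat.mul m10 n0))

def q_b2 (m1 m2 m4 m7 m10 m11 n0 n1 n2 : ℕ) : ℕ :=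
  (Nat.xor (Nat.xor (Nat.xor (Nat.xor (Nat.xor (Nat.xor (Nat.xor m2 n2) (Nat.mul m1 n1)) (Nat.mul m4 n0)) (Nat.mul
    m7 n0)) (Nat.mul (Nat.mul m1 m10) n0)) (Nat.mul (Nat.mul m10 n0) n1)) (Nat.mul (Nat.mul m11 n0) n0))

def q_a3 (m3 m4 m7 m9 m10 m11 n0 n1 n2 n3 : ℕ) : ℕ :=
  (Nat.xor (Nat.xor (Nat.xor (Nat.xor (Nat.xor (Nat.xor (Nat.xor (Nat.xor (Nat.xor (Nat.xor (Nat.xor m3 n3)
    (Nat.mul m4 n1)) (Nat.mul m7 n0)) (Nat.mul m9 n0)) (Nat.mul m10 n2)) (Nat.mul (Nat.mul m4 m10) n0)) (Nat.mul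
    (Nat.mul m10 n1) n1)) (Nat.mul (Nat.mul m11 n0) n0)) (Nat.mul (Nat.mul m11 n0) n1)) (Nat.mul (Nat.mul
    (Nat.mul m10 m11) n0) n0)) (Nat.mul (Nat.mul (Nat.mul m10 m10) n0) n0))

def q_a4 (m4 m10 m11 n0 n1 n4 : ℕ) : ℕ :=
  (Nat.xor (Nat.xor (Nat.xor m4 n4) (Nat.mul m10 n1)) (Nat.mul m11 n0))

def q_b4 (m4 m5 m6 m7 m8 m9 m10 m11 n0 n1 n2 n3 n4 n5 : ℕ) : ℕ :=
  (Nat.xor (Nat.xor (Nat.xor (Nat.xor (Nat.xor (Nat.xor (Nat.xor (Nat.xor (Nat.xor (Nat.xor (Nat.xor (Nat.xor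
    (Nat.xor (Nat.xor (Nat.xor (Nat.xor (Nat.xor (Nat.xor (Nat.xor (Nat.xor (Nat.xor (Nat.xor (Nat.xor (Nat.xor
    (Nat.xor (Nat.xor (Nat.xor (Nat.xor (Nat.xor (Nat.xor (Nat.xor (Nat.xor (Nat.xor (Nat.xor (Nat.xor (Nat.xor
    (Nat.xor (Nat.xor (Nat.xor (Nat.xor (Nat.xor (Nat.xor (Nat.xor m5 n5) (Nat.mul m4 n4)) (Nat.mul m6 n1))
    (Nat.mul m7 n3)) (Nat.mul m9 n2)) (Nat.mul m10 n3)) (Nat.mul m8 n0)) (Nat.mul m11 n2)) (Nat.mul (Nat.mul m6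
    m10) n0)) (Nat.mul (Nat.mul m7 m9) n0)) (Nat.mul (Nat.mul m7 m10) n2)) (Nat.mul (Nat.mul m9 n0) n1))
    (Nat.mul (Nat.mul m9 n1) n1)) (Nat.mul (Nat.mul m10 n1) n3)) (Nat.mul (Nat.mul m10 n1) n4)) (Nat.mul
    (Nat.mul m11 n0) n2)) (Nat.mul (Nat.mul m11 n0) n4)) (Nat.mul (Nat.mul m11 n0) n3)) (Nat.mul (Nat.mul m11
    n1) n2)) (Nat.mul (Nat.mul m4 m10) n1)) (Nat.mul (Nat.mul m4 m11) n0)) (Nat.mul (Nat.mul (Nat.mul m7 m10)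
    n1) n1)) (Nat.mul (Nat.mul (Nat.mul m7 m11) n0) n0)) (Nat.mul (Nat.mul (Nat.mul m7 m11) n0) n1)) (Nat.mul
    (Nat.mul m9 m10) n0)) (Nat.mul (Nat.mul (Nat.mul m9 m10) n0) n1)) (Nat.mul (Nat.mul (Nat.mul m9 m11) n0)
    n0)) (Nat.mul (Nat.mul (Nat.mul m10 m10) n0) n3)) (Nat.mul (Nat.mul (Nat.mul m10 m10) n1) n2)) (Nat.mul
    (Nat.mul (Nat.mul m11 n0) n1) n1)) (Nat.mul (Nat.mul m11 n1) n1)) (Nat.mul (Nat.mul (Nat.mul (Nat.mul m7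
    m10) m11) n0) n0)) (Nat.mul (Nat.mul (Nat.mul (Nat.mul m9 m10) m10) n0) n0)) (Nat.mul (Nat.mul (Nat.mul
    (Nat.mul m10 m11) n0) n0) n1)) (Nat.mul (Nat.mul (Nat.mul m10 m11) n0) n1)) (Nat.mul (Nat.mul (Nat.mul m10
    m10) n1) n1)) (Nat.mul (Nat.mul (Nat.mul m11 m11) n0) n0)) (Nat.mul (Nat.mul (Nat.mul m11 n0) n0) n1))
    (Nat.mul (Nat.mul (Nat.mul (Nat.mul m7 m10) m10) n0) n0)) (Nat.mul (Nat.mul (Nat.mul m10 m11) n0) n0))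
    (Nat.mul (Nat.mul (Nat.mul (Nat.mul m10 m10) m11) n0) n0)) (Nat.mul (Nat.mul (Nat.mul (Nat.mul m10 m10) n0)
    n0) n1)) (Nat.mul (Nat.mul (Nat.mul m10 m10) n0) n0))

def q_a5 (m6 m7 m9 m10 m11 n0 n1 n2 n3 n4 n6 : ℕ) : ℕ :=
  (Nat.xor (Nat.xor (Nat.xor (Nat.xor (Nat.xor (Nat.xor (Nat.xor (Nat.xor (Nat.xor (Nat.xor (Nat.xor (Nat.xor
    (Nat.xor (Nat.xor (Nat.xor (Nat.xor (Nat.xor m6 n6) (Nat.mul m7 n4)) (Nat.mul m9 n0)) (Nat.mul m9 n1))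
    (Nat.mul m10 n3)) (Nat.mul m11 n2)) (Nat.mul (Nat.mul m7 m10) n1)) (Nat.mul (Nat.mul m7 m11) n0)) (Nat.mul
    (Nat.mul m9 m10) n0)) (Nat.mul (Nat.mul m10 n1) n4)) (Nat.mul (Nat.mul m10 m10) n2)) (Nat.mul (Nat.mul m11
    n0) n1)) (Nat.mul (Nat.mul m11 n0) n4)) (Nat.mul (Nat.mul (Nat.mul m10 m11) n0) n0)) (Nat.mul (Nat.mul
    (Nat.mul m10 m10) n0) n4)) (Nat.mul (Nat.mul m11 n0) n0)) (Nat.mul (Nat.mul (Nat.mul m10 m10) n0) n0))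

def q_a6 (m7 m10 m11 n0 n1 n7 : ℕ) : ℕ :=
  (Nat.xor (Nat.xor (Nat.xor (Nat.xor m7 n7) (Nat.mul m10 n1)) (Nat.mul m11 n0)) (Nat.mul (Nat.mul m10 m10) n0))

def q_b6 (m7 m8 m9 m10 m11 n0 n1 n2 n3 n4 n6 n7 n8 : ℕ) : ℕ :=
  (Nat.xor (Nat.xor (Nat.xor (Nat.xor (Nat.xor (Nat.xor (Nat.xor (Nat.xor (Nat.xor (Nat.xor (Nat.xor (Nat.xor
    (Nat.xor (Nat.xor (Nat.xor (Nat.xor (Nat.xor (Nat.xor (Nat.xor (Nat.xor (Nat.xor (Nat.xor (Nat.xor (Nat.xor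
    (Nat.xor (Nat.xor (Nat.xor (Nat.xor (Nat.xor (Nat.xor m8 n8) (Nat.mul m7 n7)) (Nat.mul m9 n1)) (Nat.mul m9
    n4)) (Nat.mul m10 n6)) (Nat.mul m11 n2)) (Nat.mul m11 n3)) (Nat.mul (Nat.mul m7 m11) n0)) (Nat.mul (Nat.mul
    m9 m10) n0)) (Nat.mul (Nat.mul m9 m10) n1)) (Nat.mul (Nat.mul m9 m11) n0)) (Nat.mul (Nat.mul m10 n1) n7))
    (Nat.mul (Nat.mul m10 m11) n2)) (Nat.mul (Nat.mul m11 n0) n4)) (Nat.mul (Nat.mul m11 n1) n1)) (Nat.mul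
    (Nat.mul m11 n0) n7)) (Nat.mul (Nat.mul m11 n1) n4)) (Nat.mul (Nat.mul m7 m10) n1)) (Nat.mul (Nat.mul
    (Nat.mul m10 m11) n0) n1)) (Nat.mul (Nat.mul (Nat.mul m10 m11) n0) n1)) (Nat.mul (Nat.mul (Nat.mul m10 m11)
    n0) n4)) (Nat.mul (Nat.mul (Nat.mul m10 m10) n0) n7)) (Nat.mul (Nat.mul m10 m10) n2)) (Nat.mul (Nat.mul m11
    n0) n1)) (Nat.mul (Nat.mul (Nat.mul m7 m10) m10) n0)) (Nat.mul (Nat.mul (Nat.mul m10 m11) n0) n0)) (Nat.mul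
    (Nat.mul (Nat.mul (Nat.mul m10 m10) m11) n0) n0)) (Nat.mul (Nat.mul (Nat.mul m10 m10) n0) n4)) (Nat.mul
    (Nat.mul (Nat.mul m10 m10) n0) n1)) (Nat.mul (Nat.mul (Nat.mul m10 m10) n0) n0))

def q_a7 (m9 m10 m11 n0 n1 n7 n9 : ℕ) : ℕ :=
  (Nat.xor (Nat.xor (Nat.xor (Nat.xor (Nat.xor (Nat.xor m9 n9) (Nat.mul m10 n7)) (Nat.mul m11 n0)) (Nat.mul m11
    n1)) (Nat.mul (Nat.mul m10 m11) n0)) (Nat.mul (Nat.mul m10 m10) n0))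

def q_a8 (m10 n10 : ℕ) : ℕ :=
  (Nat.xor m10 n10)

def q_b8 (m10 m11 n10 n11 : ℕ) : ℕ :=
  (Nat.xor (Nat.xor m11 n11) (Nat.mul m10 n10))

/-- a number from its digits -/
def ofB (b0 b1 b2 b3 b4 b5 b6 b7 b8 b9 b10 b11 : ℕ) : ℕ :=
  (Nat.add (Nat.mod b0 (nat_lit 2)) (Nat.mul (nat_lit 2) (Nat.add (Nat.mod b1 (nat_lit 2)) (Nat.mul (nat_lit 2)
    (Nat.add (Nat.mod b2 (nat_lit 2)) (Nat.mul (nat_lit 2) (Nat.add (Nat.mod b3 (nat_lit 2)) (Nat.mul (nat_lit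
    2) (Nat.add (Nat.mod b4 (nat_lit 2)) (Nat.mul (nat_lit 2) (Nat.add (Nat.mod b5 (nat_lit 2)) (Nat.mul
    (nat_lit 2) (Nat.add (Nat.mod b6 (nat_lit 2)) (Nat.mul (nat_lit 2) (Nat.add (Nat.mod b7 (nat_lit 2))
    (Nat.mul (nat_lit 2) (Nat.add (Nat.mod b8 (nat_lit 2)) (Nat.mul (nat_lit 2) (Nat.add (Nat.mod b9 (nat_lit
    2)) (Nat.mul (nat_lit 2) (Nat.add (Nat.mod b10 (nat_lit 2)) (Nat.mul (nat_lit 2) (Nat.mod b11 (nat_lit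
    2))))))))))))))))))))))))

/-- the product of codes -/
def mu (m n : ℕ) : ℕ :=
  ofB (q_a1 (Nat.mod m (nat_lit 2)) (Nat.mod n (nat_lit 2)))
    (q_a2 (Nat.mod (Nat.div m (nat_lit 2)) (nat_lit 2)) (Nat.mod (Nat.div m (nat_lit 1024)) (nat_lit 2)) (Nat.mod n (nat_lit 2)) (Nat.mod (Nat.div n (nat_lit 2)) (nat_lit 2)))
    (q_b2 (Nat.mod (Nat.div m (nat_lit 2)) (nat_lit 2)) (Nat.mod (Nat.div m (nat_lit 4)) (nat_lit 2)) (Nat.mod (Nat.div m (nat_lit 16)) (nat_lit 2)) (Nat.mod (Nat.div m (nat_lit 128)) (nat_lit 2)) (Nat.mod (Nat.div m (nat_lit 1024)) (nat_lit 2)) (Nat.mod (Nat.div m (nat_lit 2048)) (nat_lit 2)) (Nat.mod n (nat_lit 2)) (Nat.mod (Nat.div n (nat_lit 2)) (nat_lit 2)) (Nat.mod (Nat.div n (nat_lit 4)) (nat_lit 2)))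
    (q_a3 (Nat.mod (Nat.div m (nat_lit 8)) (nat_lit 2)) (Nat.mod (Nat.div m (nat_lit 16)) (nat_lit 2)) (Nat.mod (Nat.div m (nat_lit 128)) (nat_lit 2)) (Nat.mod (Nat.div m (nat_lit 512)) (nat_lit 2)) (Nat.mod (Nat.div m (nat_lit 1024)) (nat_lit 2)) (Nat.mod (Nat.div m (nat_lit 2048)) (nat_lit 2)) (Nat.mod n (nat_lit 2)) (Nat.mod (Nat.div n (nat_lit 2)) (nat_lit 2)) (Nat.mod (Nat.div n (nat_lit 4)) (nat_lit 2)) (Nat.mod (Nat.div n (nat_lit 8)) (nat_lit 2)))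
    (q_a4 (Nat.mod (Nat.div m (nat_lit 16)) (nat_lit 2)) (Nat.mod (Nat.div m (nat_lit 1024)) (nat_lit 2)) (Nat.mod (Nat.div m (nat_lit 2048)) (nat_lit 2)) (Nat.mod n (nat_lit 2)) (Nat.mod (Nat.div n (nat_lit 2)) (nat_lit 2)) (Nat.mod (Nat.div n (nat_lit 16)) (nat_lit 2)))
    (q_b4 (Nat.mod (Nat.div m (nat_lit 16)) (nat_lit 2)) (Nat.mod (Nat.div m (nat_lit 32)) (nat_lit 2)) (Nat.mod (Nat.div m (nat_lit 64)) (nat_lit 2)) (Nat.mod (Nat.div m (nat_lit 128)) (nat_lit 2)) (Nat.mod (Nat.div m (nat_lit 256)) (nat_lit 2)) (Nat.mod (Nat.div m (nat_lit 512)) (nat_lit 2)) (Nat.mod (Nat.div m (nat_lit 1024)) (nat_lit 2)) (Nat.mod (Nat.div m (nat_lit 2048)) (nat_lit 2)) (Nat.mod n (nat_lit 2)) (Nat.mod (Nat.div n (nat_lit 2)) (nat_lit 2)) (Nat.mod (Nat.div n (nat_lit 4)) (nat_lit 2)) (Nat.mod (Nat.div n (nat_lit 8)) (nat_lit 2)) (Nat.mod (Nat.div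 n (nat_lit 16)) (nat_lit 2)) (Nat.mod (Nat.div n (nat_lit 32)) (nat_lit 2)))
    (q_a5 (Nat.mod (Nat.div m (nat_lit 64)) (nat_lit 2)) (Nat.mod (Nat.div m (nat_lit 128)) (nat_lit 2)) (Nat.mod (Nat.div m (nat_lit 512)) (nat_lit 2)) (Nat.mod (Nat.div m (nat_lit 1024)) (nat_lit 2)) (Nat.mod (Nat.div m (nat_lit 2048)) (nat_lit 2)) (Nat.mod n (nat_lit 2)) (Nat.mod (Nat.div n (nat_lit 2)) (nat_lit 2)) (Nat.mod (Nat.div n (nat_lit 4)) (nat_lit 2)) (Nat.mod (Nat.div n (nat_lit 8)) (nat_lit 2)) (Nat.mod (Nat.div n (nat_lit 16)) (nat_lit 2)) (Nat.mod (Nat.div n (nat_lit 64)) (nat_lit 2)))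
    (q_a6 (Nat.mod (Nat.div m (nat_lit 128)) (nat_lit 2)) (Nat.mod (Nat.div m (nat_lit 1024)) (nat_lit 2)) (Nat.mod (Nat.div m (nat_lit 2048)) (nat_lit 2)) (Nat.mod n (nat_lit 2)) (Nat.mod (Nat.div n (nat_lit 2)) (nat_lit 2)) (Nat.mod (Nat.div n (nat_lit 128)) (nat_lit 2)))
    (q_b6 (Nat.mod (Nat.div m (nat_lit 128)) (nat_lit 2)) (Nat.mod (Nat.div m (nat_lit 256)) (nat_lit 2)) (Nat.mod (Nat.div m (nat_lit 512)) (nat_lit 2)) (Nat.mod (Nat.div m (nat_lit 1024)) (nat_lit 2)) (Nat.mod (Nat.div m (nat_lit 2048)) (nat_lit 2)) (Nat.mod n (nat_lit 2)) (Nat.mod (Nat.div n (nat_lit 2)) (nat_lit 2)) (Nat.mod (Nat.div n (nat_lit 4)) (nat_lit 2)) (Nat.mod (Nat.div n (nat_lit 8)) (nat_lit 2)) (Nat.mod (Nat.div n (nat_lit 16)) (nat_lit 2)) (Nat.mod (Nat.div n (nat_lit 64)) (nat_lit 2)) (Nat.mod (Nat.div n (nat_lit 128)) (nat_lit 2)) (Nat.mod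 (Nat.div n (nat_lit 256)) (nat_lit 2)))
    (q_a7 (Nat.mod (Nat.div m (nat_lit 512)) (nat_lit 2)) (Nat.mod (Nat.div m (nat_lit 1024)) (nat_lit 2)) (Nat.mod (Nat.div m (nat_lit 2048)) (nat_lit 2)) (Nat.mod n (nat_lit 2)) (Nat.mod (Nat.div n (nat_lit 2)) (nat_lit 2)) (Nat.mod (Nat.div n (nat_lit 128)) (nat_lit 2)) (Nat.mod (Nat.div n (nat_lit 512)) (nat_lit 2)))
    (q_a8 (Nat.mod (Nat.div m (nat_lit 1024)) (nat_lit 2)) (Nat.mod (Nat.div n (nat_lit 1024)) (nat_lit 2)))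
    (q_b8 (Nat.mod (Nat.div m (nat_lit 1024)) (nat_lit 2)) (Nat.mod (Nat.div m (nat_lit 2048)) (nat_lit 2)) (Nat.mod (Nat.div n (nat_lit 1024)) (nat_lit 2)) (Nat.mod (Nat.div n (nat_lit 2048)) (nat_lit 2)))


/-! ### the meaning -/

section

variable {K : Type u} [Field K] {σ : K →+* K}

/-- the coordinates -/
def cdN (K : Type u) [Field K] (m : ℕ) : Cd K where
  a1 := (m : K)
  a2 := ((Nat.div m 2 : ℕ) : K)
  b2 := ((Nat.div m 4 : ℕ) : K)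
  a3 := ((Nat.div m 8 : ℕ) : K)
  a4 := ((Nat.div m 16 : ℕ) : K)
  b4 := ((Nat.div m 32 : ℕ) : K)
  a5 := ((Nat.div m 64 : ℕ) : K)
  a6 := ((Nat.div m 128 : ℕ) : K)
  b6 := ((Nat.div m 256 : ℕ) : K)
  a7 := ((Nat.div m 512 : ℕ) : K)
  a8 := ((Nat.div m 1024 : ℕ) : K)
  b8 := ((Nat.div m 2048 : ℕ) : K)

theorem cast_mod (h2 : (2 : K) = 0) (a : ℕ) : ((Nat.mod a 2 : ℕ) : K) = a := by
  have h := Nat.div_add_mod a 2
  have h1 : ((2 * (a / 2) + a % 2 : ℕ) : K) = a := by rw [h]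
  rw [Nat.cast_add, Nat.cast_mul, Nat.cast_ofNat, h2, zero_mul, zero_add] at h1
  exact h1

theorem cast_xor (h2 : (2 : K) = 0) (a b : ℕ) : ((Nat.xor a b : ℕ) : K) = a + b := by
  rw [← cast_mod h2]
  have h1 : Nat.mod (Nat.xor a b) 2 = Nat.mod (a + b) 2 := Nat.xor_mod_two_eq
  rw [h1, cast_mod h2, Nat.cast_add]

theorem cast_mul' (a b : ℕ) : ((Nat.mul a b : ℕ) : K) = a * b := Nat.cast_mul a b

theorem ofB_dig (b0 b1 b2 b3 b4 b5 b6 b7 b8 b9 b10 b11 : ℕ) :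
    Nat.mod (ofB b0 b1 b2 b3 b4 b5 b6 b7 b8 b9 b10 b11) 2 = Nat.mod b0 2 ∧
    Nat.mod (Nat.div (ofB b0 b1 b2 b3 b4 b5 b6 b7 b8 b9 b10 b11) 2) 2 = Nat.mod b1 2 ∧
    Nat.mod (Nat.div (ofB b0 b1 b2 b3 b4 b5 b6 b7 b8 b9 b10 b11) 4) 2 = Nat.mod b2 2 ∧
    Nat.mod (Nat.div (ofB b0 b1 b2 b3 b4 b5 b6 b7 b8 b9 b10 b11) 8) 2 = Nat.mod b3 2 ∧
    Nat.mod (Nat.div (ofB b0 b1 b2 b3 b4 b5 b6 b7 b8 b9 b10 b11) 16) 2 = Nat.mod b4 2 ∧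
    Nat.mod (Nat.div (ofB b0 b1 b2 b3 b4 b5 b6 b7 b8 b9 b10 b11) 32) 2 = Nat.mod b5 2 ∧
    Nat.mod (Nat.div (ofB b0 b1 b2 b3 b4 b5 b6 b7 b8 b9 b10 b11) 64) 2 = Nat.mod b6 2 ∧
    Nat.mod (Nat.div (ofB b0 b1 b2 b3 b4 b5 b6 b7 b8 b9 b10 b11) 128) 2 = Nat.mod b7 2 ∧
    Nat.mod (Nat.div (ofB b0 b1 b2 b3 b4 b5 b6 b7 b8 b9 b10 b11) 256) 2 = Nat.mod b8 2 ∧
    Nat.mod (Nat.div (ofB b0 b1 b2 b3 b4 b5 b6 b7 b8 b9 b10 b11) 512) 2 = Nat.mod b9 2 ∧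
    Nat.mod (Nat.div (ofB b0 b1 b2 b3 b4 b5 b6 b7 b8 b9 b10 b11) 1024) 2 = Nat.mod b10 2 ∧
    Nat.mod (Nat.div (ofB b0 b1 b2 b3 b4 b5 b6 b7 b8 b9 b10 b11) 2048) 2 = Nat.mod b11 2 ∧
    ofB b0 b1 b2 b3 b4 b5 b6 b7 b8 b9 b10 b11 < 4096 := by
  have e : ofB b0 b1 b2 b3 b4 b5 b6 b7 b8 b9 b10 b11 =
    b0 % 2 + 2 * (b1 % 2 + 2 * (b2 % 2 + 2 * (b3 % 2 + 2 * (b4 % 2 + 2 * (b5 % 2 + 2 * (b6 % 2 +
    2 * (b7 % 2 + 2 * (b8 % 2 + 2 * (b9 % 2 + 2 * (b10 % 2 + 2 * (b11 % 2))))))))))) := rfl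
  generalize ofB b0 b1 b2 b3 b4 b5 b6 b7 b8 b9 b10 b11 = n at e ⊢
  change n % 2 = b0 % 2 ∧ n / 2 % 2 = b1 % 2 ∧ n / 4 % 2 = b2 % 2 ∧ n / 8 % 2 = b3 % 2 ∧ n / 16 % 2 = b4 % 2 ∧
    n / 32 % 2 = b5 % 2 ∧ n / 64 % 2 = b6 % 2 ∧ n / 128 % 2 = b7 % 2 ∧ n / 256 % 2 = b8 % 2 ∧
    n / 512 % 2 = b9 % 2 ∧ n / 1024 % 2 = b10 % 2 ∧ n / 2048 % 2 = b11 % 2 ∧ n < 4096
  have st : ∀ {n k b r : ℕ}, n / k = b % 2 + 2 * r → n / k % 2 = b % 2 ∧ n / (k * 2) = r := fun {n k b r} h => by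
    rw [← Nat.div_div_eq_div_mul, h]; clear * -; omega
  obtain ⟨d0, e0⟩ := st ((Nat.div_one n).trans e)
  obtain ⟨d1, e1⟩ := st e0
  obtain ⟨d2, e2⟩ := st e1
  obtain ⟨d3, e3⟩ := st e2
  obtain ⟨d4, e4⟩ := st e3
  obtain ⟨d5, e5⟩ := st e4
  obtain ⟨d6, e6⟩ := st e5
  obtain ⟨d7, e7⟩ := st e6
  obtain ⟨d8, e8⟩ := st e7
  obtain ⟨d9, e9⟩ := st e8
  obtain ⟨d10, e10⟩ := st e9
  have e11 : n / 2048 = b11 % 2 := e10
  rw [Nat.div_one] at d0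
  exact ⟨d0, d1, d2, d3, d4, d5, d6, d7, d8, d9, d10, by clear * - e11; omega, by clear * - e11; omega⟩

theorem mu_lt (m n : ℕ) : mu m n < 4096 := (ofB_dig _ _ _ _ _ _ _ _ _ _ _ _).2.2.2.2.2.2.2.2.2.2.2.2

theorem cdN_mu (hK : HypK σ 0) (m n : ℕ) : cdN K (mu m n) = mul σ (cdN K m) (cdN K n) := by
  have h2 := hK.two
  have hpow : ∀ (a : ℕ), (a : K) ^ 2 = a := by
    intro a
    rcases Nat.even_or_odd a with h | h
    · obtain ⟨b, rfl⟩ := h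
      rw [← two_mul, Nat.cast_mul, Nat.cast_ofNat, h2, zero_mul]; ring
    · obtain ⟨b, rfl⟩ := h
      rw [Nat.cast_add, Nat.cast_mul, Nat.cast_ofNat, h2, zero_mul, zero_add, Nat.cast_one, one_pow]
  have hpow3 : ∀ (a : ℕ), (a : K) ^ 3 = a := by
    intro a; rw [pow_succ, hpow, ← pow_two, hpow]
  obtain ⟨e0, e1, e2, e3, e4, e5, e6, e7, e8, e9, e10, e11, -⟩ := ofB_dig
    (q_a1 (Nat.mod m (nat_lit 2)) (Nat.mod n (nat_lit 2)))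
    (q_a2 (Nat.mod (Nat.div m (nat_lit 2)) (nat_lit 2)) (Nat.mod (Nat.div m (nat_lit 1024)) (nat_lit 2)) (Nat.mod n (nat_lit 2)) (Nat.mod (Nat.div n (nat_lit 2)) (nat_lit 2)))
    (q_b2 (Nat.mod (Nat.div m (nat_lit 2)) (nat_lit 2)) (Nat.mod (Nat.div m (nat_lit 4)) (nat_lit 2)) (Nat.mod (Nat.div m (nat_lit 16)) (nat_lit 2)) (Nat.mod (Nat.div m (nat_lit 128)) (nat_lit 2)) (Nat.mod (Nat.div m (nat_lit 1024)) (nat_lit 2)) (Nat.mod (Nat.div m (nat_lit 2048)) (nat_lit 2)) (Nat.mod n (nat_lit 2)) (Nat.mod (Nat.div n (nat_lit 2)) (nat_lit 2)) (Nat.mod (Nat.div n (nat_lit 4)) (nat_lit 2)))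
    (q_a3 (Nat.mod (Nat.div m (nat_lit 8)) (nat_lit 2)) (Nat.mod (Nat.div m (nat_lit 16)) (nat_lit 2)) (Nat.mod (Nat.div m (nat_lit 128)) (nat_lit 2)) (Nat.mod (Nat.div m (nat_lit 512)) (nat_lit 2)) (Nat.mod (Nat.div m (nat_lit 1024)) (nat_lit 2)) (Nat.mod (Nat.div m (nat_lit 2048)) (nat_lit 2)) (Nat.mod n (nat_lit 2)) (Nat.mod (Nat.div n (nat_lit 2)) (nat_lit 2)) (Nat.mod (Nat.div n (nat_lit 4)) (nat_lit 2)) (Nat.mod (Nat.div n (nat_lit 8)) (nat_lit 2)))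
    (q_a4 (Nat.mod (Nat.div m (nat_lit 16)) (nat_lit 2)) (Nat.mod (Nat.div m (nat_lit 1024)) (nat_lit 2)) (Nat.mod (Nat.div m (nat_lit 2048)) (nat_lit 2)) (Nat.mod n (nat_lit 2)) (Nat.mod (Nat.div n (nat_lit 2)) (nat_lit 2)) (Nat.mod (Nat.div n (nat_lit 16)) (nat_lit 2)))
    (q_b4 (Nat.mod (Nat.div m (nat_lit 16)) (nat_lit 2)) (Nat.mod (Nat.div m (nat_lit 32)) (nat_lit 2)) (Nat.mod (Nat.div m (nat_lit 64)) (nat_lit 2)) (Nat.mod (Nat.div m (nat_lit 128)) (nat_lit 2)) (Nat.mod (Nat.div m (nat_lit 256)) (nat_lit 2)) (Nat.mod (Nat.div m (nat_lit 512)) (nat_lit 2)) (Nat.mod (Nat.div m (nat_lit 1024)) (nat_lit 2)) (Nat.mod (Nat.div m (nat_lit 2048)) (nat_lit 2)) (Nat.mod n (nat_lit 2)) (Nat.mod (Nat.div n (nat_lit 2)) (nat_lit 2)) (Nat.mod (Nat.div n (nat_lit 4)) (nat_lit 2)) (Nat.mod (Nat.div n (nat_lit 8)) (nat_lit 2)) (Nat.mod (Nat.div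 n (nat_lit 16)) (nat_lit 2)) (Nat.mod (Nat.div n (nat_lit 32)) (nat_lit 2)))
    (q_a5 (Nat.mod (Nat.div m (nat_lit 64)) (nat_lit 2)) (Nat.mod (Nat.div m (nat_lit 128)) (nat_lit 2)) (Nat.mod (Nat.div m (nat_lit 512)) (nat_lit 2)) (Nat.mod (Nat.div m (nat_lit 1024)) (nat_lit 2)) (Nat.mod (Nat.div m (nat_lit 2048)) (nat_lit 2)) (Nat.mod n (nat_lit 2)) (Nat.mod (Nat.div n (nat_lit 2)) (nat_lit 2)) (Nat.mod (Nat.div n (nat_lit 4)) (nat_lit 2)) (Nat.mod (Nat.div n (nat_lit 8)) (nat_lit 2)) (Nat.mod (Nat.div n (nat_lit 16)) (nat_lit 2)) (Nat.mod (Nat.div n (nat_lit 64)) (nat_lit 2)))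
    (q_a6 (Nat.mod (Nat.div m (nat_lit 128)) (nat_lit 2)) (Nat.mod (Nat.div m (nat_lit 1024)) (nat_lit 2)) (Nat.mod (Nat.div m (nat_lit 2048)) (nat_lit 2)) (Nat.mod n (nat_lit 2)) (Nat.mod (Nat.div n (nat_lit 2)) (nat_lit 2)) (Nat.mod (Nat.div n (nat_lit 128)) (nat_lit 2)))
    (q_b6 (Nat.mod (Nat.div m (nat_lit 128)) (nat_lit 2)) (Nat.mod (Nat.div m (nat_lit 256)) (nat_lit 2)) (Nat.mod (Nat.div m (nat_lit 512)) (nat_lit 2)) (Nat.mod (Nat.div m (nat_lit 1024)) (nat_lit 2)) (Nat.mod (Nat.div m (nat_lit 2048)) (nat_lit 2)) (Nat.mod n (nat_lit 2)) (Nat.mod (Nat.div n (nat_lit 2)) (nat_lit 2)) (Nat.mod (Nat.div n (nat_lit 4)) (nat_lit 2)) (Nat.mod (Nat.div n (nat_lit 8)) (nat_lit 2)) (Nat.mod (Nat.div n (nat_lit 16)) (nat_lit 2)) (Nat.mod (Nat.div n (nat_lit 64)) (nat_lit 2)) (Nat.mod (Nat.div n (nat_lit 128)) (nat_lit 2)) (Nat.mod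 (Nat.div n (nat_lit 256)) (nat_lit 2)))
    (q_a7 (Nat.mod (Nat.div m (nat_lit 512)) (nat_lit 2)) (Nat.mod (Nat.div m (nat_lit 1024)) (nat_lit 2)) (Nat.mod (Nat.div m (nat_lit 2048)) (nat_lit 2)) (Nat.mod n (nat_lit 2)) (Nat.mod (Nat.div n (nat_lit 2)) (nat_lit 2)) (Nat.mod (Nat.div n (nat_lit 128)) (nat_lit 2)) (Nat.mod (Nat.div n (nat_lit 512)) (nat_lit 2)))
    (q_a8 (Nat.mod (Nat.div m (nat_lit 1024)) (nat_lit 2)) (Nat.mod (Nat.div n (nat_lit 1024)) (nat_lit 2)))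
    (q_b8 (Nat.mod (Nat.div m (nat_lit 1024)) (nat_lit 2)) (Nat.mod (Nat.div m (nat_lit 2048)) (nat_lit 2)) (Nat.mod (Nat.div n (nat_lit 1024)) (nat_lit 2)) (Nat.mod (Nat.div n (nat_lit 2048)) (nat_lit 2)))
  change Nat.mod (mu m n) 2 = _ at e0
  change Nat.mod (Nat.div (mu m n) 2) 2 = _ at e1
  change Nat.mod (Nat.div (mu m n) 4) 2 = _ at e2
  change Nat.mod (Nat.div (mu m n) 8) 2 = _ at e3
  change Nat.mod (Nat.div (mu m n) 16) 2 = _ at e4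
  change Nat.mod (Nat.div (mu m n) 32) 2 = _ at e5
  change Nat.mod (Nat.div (mu m n) 64) 2 = _ at e6
  change Nat.mod (Nat.div (mu m n) 128) 2 = _ at e7
  change Nat.mod (Nat.div (mu m n) 256) 2 = _ at e8
  change Nat.mod (Nat.div (mu m n) 512) 2 = _ at e9
  change Nat.mod (Nat.div (mu m n) 1024) 2 = _ at e10
  change Nat.mod (Nat.div (mu m n) 2048) 2 = _ at e11
  have key : ∀ a b : ℕ, Nat.mod a 2 = Nat.mod b 2 → (a : K) = b := fun a b h => by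
    rw [← cast_mod h2 a, h, cast_mod h2]
  apply Cd.ext
  · rw [show (cdN K (mu m n)).a1 = _ from key _ _ e0]
    simp only [q_a1, cast_xor h2, cast_mod h2, mul, cdN, map_natCast, hpow, hpow3]
  · rw [show (cdN K (mu m n)).a2 = _ from key _ _ e1]
    simp only [q_a2, cast_xor h2, cast_mul', cast_mod h2, mul, cdN, map_natCast, hpow, hpow3]
  · rw [show (cdN K (mu m n)).b2 = _ from key _ _ e2]
    simp only [q_b2, cast_xor h2, cast_mul', cast_mod h2, mul, cdN, map_natCast, hpow, hpow3]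
  · rw [show (cdN K (mu m n)).a3 = _ from key _ _ e3]
    simp only [q_a3, cast_xor h2, cast_mul', cast_mod h2, mul, cdN, map_natCast, hpow, hpow3]
  · rw [show (cdN K (mu m n)).a4 = _ from key _ _ e4]
    simp only [q_a4, cast_xor h2, cast_mul', cast_mod h2, mul, cdN, map_natCast, hpow, hpow3]
  · rw [show (cdN K (mu m n)).b4 = _ from key _ _ e5]
    simp only [q_b4, cast_xor h2, cast_mul', cast_mod h2, mul, cdN, map_natCast, hpow, hpow3]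
  · rw [show (cdN K (mu m n)).a5 = _ from key _ _ e6]
    simp only [q_a5, cast_xor h2, cast_mul', cast_mod h2, mul, cdN, map_natCast, hpow, hpow3]
  · rw [show (cdN K (mu m n)).a6 = _ from key _ _ e7]
    simp only [q_a6, cast_xor h2, cast_mul', cast_mod h2, mul, cdN, map_natCast, hpow, hpow3]
  · rw [show (cdN K (mu m n)).b6 = _ from key _ _ e8]
    simp only [q_b6, cast_xor h2, cast_mul', cast_mod h2, mul, cdN, map_natCast, hpow, hpow3]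
  · rw [show (cdN K (mu m n)).a7 = _ from key _ _ e9]
    simp only [q_a7, cast_xor h2, cast_mul', cast_mod h2, mul, cdN, map_natCast, hpow, hpow3]
  · rw [show (cdN K (mu m n)).a8 = _ from key _ _ e10]
    simp only [q_a8, cast_xor h2, cast_mod h2, mul, cdN, map_natCast, hpow, hpow3]
  · rw [show (cdN K (mu m n)).b8 = _ from key _ _ e11]
    simp only [q_b8, cast_xor h2, cast_mul', cast_mod h2, mul, cdN, map_natCast, hpow, hpow3]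

theorem cdN_surj (hK : HypK σ 0) (c : Cd K) : ∃ m < 4096, cdN K m = c := by
  have h2 := hK.two
  have hf : Finite K := hK.fin
  have hc : Nat.card K = 2 := hK.card
  have h01 : ∀ x : K, x = 0 ∨ x = 1 := by
    intro x
    by_contra hx
    push Not at hx
    have := Fintype.ofFinite K
    rw [Nat.card_eq_fintype_card] at hc
    classical
    have h3 : ({0, 1, x} : Finset K).card = 3 := by
      rw [Finset.card_insert_of_notMem, Finset.card_insert_of_notMem, Finset.card_singleton]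
      · simpa using hx.2.symm
      · simp only [Finset.mem_insert, Finset.mem_singleton, not_or]
        exact ⟨zero_ne_one, hx.1.symm⟩
    have h4 := Finset.card_le_univ ({0, 1, x} : Finset K)
    omega
  have hn : ∀ x : K, ∃ a : ℕ, (a : K) = x := by
    intro x
    rcases h01 x with rfl | rfl
    · exact ⟨0, Nat.cast_zero⟩
    · exact ⟨1, Nat.cast_one⟩
  obtain ⟨b0, h0⟩ := hn c.a1
  obtain ⟨b1, h1⟩ := hn c.a2
  obtain ⟨b2, hb2⟩ := hn c.b2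
  obtain ⟨b3, h3⟩ := hn c.a3
  obtain ⟨b4, h4⟩ := hn c.a4
  obtain ⟨b5, h5⟩ := hn c.b4
  obtain ⟨b6, h6⟩ := hn c.a5
  obtain ⟨b7, h7⟩ := hn c.a6
  obtain ⟨b8, h8⟩ := hn c.b6
  obtain ⟨b9, h9⟩ := hn c.a7
  obtain ⟨b10, h10⟩ := hn c.a8
  obtain ⟨b11, h11⟩ := hn c.b8
  obtain ⟨e0, e1, e2, e3, e4, e5, e6, e7, e8, e9, e10, e11, elt⟩ := ofB_dig b0 b1 b2 b3 b4 b5 b6 b7 b8 b9 b10 b11
  have key : ∀ a b : ℕ, Nat.mod a 2 = Nat.mod b 2 → (a : K) = b := fun a b h => by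
    rw [← cast_mod h2 a, h, cast_mod h2]
  refine ⟨_, elt, ?_⟩
  exact Cd.ext ((key _ _ e0).trans h0) ((key _ _ e1).trans h1) ((key _ _ e2).trans hb2) ((key _ _ e3).trans h3)
    ((key _ _ e4).trans h4) ((key _ _ e5).trans h5) ((key _ _ e6).trans h6) ((key _ _ e7).trans h7)
    ((key _ _ e8).trans h8) ((key _ _ e9).trans h9) ((key _ _ e10).trans h10) ((key _ _ e11).trans h11)

theorem cast_iff (h2 : (2 : K) = 0) (a b : ℕ) : (a : K) = b ↔ a % 2 = b % 2 := by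
  constructor
  · intro h
    rw [← cast_mod h2 a, ← cast_mod h2 b] at h
    change ((a % 2 : ℕ) : K) = ((b % 2 : ℕ) : K) at h
    rcases Nat.mod_two_eq_zero_or_one a with ha | ha <;> rcases Nat.mod_two_eq_zero_or_one b with hb | hb <;>
      rw [ha, hb] at h ⊢ <;> simp only [_root_.Nat.cast_zero, _root_.Nat.cast_one, _root_.zero_ne_one, _root_.one_ne_zero] at h
  · intro h
    rw [← cast_mod h2 a, ← cast_mod h2 b]
    change ((a % 2 : ℕ) : K) = ((b % 2 : ℕ) : K)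
    rw [h]

theorem cast_iff0 (h2 : (2 : K) = 0) (a : ℕ) : (a : K) = 0 ↔ a % 2 = 0 := by
  have := cast_iff h2 a 0
  rwa [Nat.cast_zero] at this

theorem dig_sum {m : ℕ} (hm : m < 4096) : m = m % 2 + 2 * (m / 2 % 2) + 4 * (m / 4 % 2) + 8 * (m / 8 % 2) +
    16 * (m / 16 % 2) + 32 * (m / 32 % 2) + 64 * (m / 64 % 2) + 128 * (m / 128 % 2) + 256 * (m / 256 % 2) +
    512 * (m / 512 % 2) + 1024 * (m / 1024 % 2) + 2048 * (m / 2048 % 2) := by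
  have st : ∀ k l : ℕ, l = k * 2 → m / k % 2 + 2 * (m / l) = m / k := fun k l h => by
    rw [h, ← Nat.div_div_eq_div_mul]; exact Nat.mod_add_div _ _
  have e : m % 2 + 2 * (m / 2 % 2 + 2 * (m / 4 % 2 + 2 * (m / 8 % 2 + 2 * (m / 16 % 2 + 2 * (m / 32 % 2 + 2 * (m / 64 % 2 + 2 * (m / 128 % 2 + 2 * (m / 256 % 2 + 2 * (m / 512 % 2 + 2 * (m / 1024 % 2 + 2 * (m / 2048 % 2 + 2 * 0))))))))))) = m := by
    rw [← Nat.div_eq_of_lt hm, st 2048 4096 rfl, st 1024 2048 rfl, st 512 1024 rfl, st 256 512 rfl, st 128 256 rfl, st 64 128 rfl, st 32 64 rfl, st 16 32 rfl, st 8 16 rfl, st 4 8 rfl, st 2 4 rfl]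
    exact Nat.mod_add_div _ _
  refine e.symm.trans ?_
  ring

theorem cdN_inj (hK : HypK σ 0) {m n : ℕ} (hm : m < 4096) (hn : n < 4096) (h : cdN K m = cdN K n) : m = n := by
  have h2 := hK.two
  have f : ∀ i, ((Nat.div m i : ℕ) : K) = ((Nat.div n i : ℕ) : K) → m / i % 2 = n / i % 2 := fun i h =>
    (cast_iff h2 _ _).1 h
  have e0 : m % 2 = n % 2 := (cast_iff h2 _ _).1 (congrArg Cd.a1 h)
  rw [dig_sum hm, dig_sum hn, e0, f 2 (congrArg Cd.a2 h), f 4 (congrArg Cd.b2 h), f 8 (congrArg Cd.a3 h),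
    f 16 (congrArg Cd.a4 h), f 32 (congrArg Cd.b4 h), f 64 (congrArg Cd.a5 h), f 128 (congrArg Cd.a6 h),
    f 256 (congrArg Cd.b6 h), f 512 (congrArg Cd.a7 h), f 1024 (congrArg Cd.a8 h), f 2048 (congrArg Cd.b8 h)]

end

section

variable {K : Type u} [Field K] {σ : K →+* K} (hK : HypK σ 0) {U : Type v} [Group U] (T : TF σ U)

/-- the element with code `m` -/
def El (m : ℕ) : U := T.el (cdN K m)

include hK

theorem El_mul (m n : ℕ) : El T m * El T n = El T (mu m n) := by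
  rw [El, El, El, el_mul T hK.two hK.sq, cdN_mu hK]

theorem El_inj {m n : ℕ} (hm : m < 4096) (hn : n < 4096) (h : El T m = El T n) : m = n :=
  cdN_inj hK hm hn (el_injective T h)

theorem El_surj (g : U) : ∃ m < 4096, El T m = g := by
  obtain ⟨m, hm, h⟩ := cdN_surj hK (cd T g)
  exact ⟨m, hm, by rw [El, h, el_cd]⟩

theorem El_eq_iff {m n : ℕ} (hm : m < 4096) (hn : n < 4096) : El T m = El T n ↔ m = n :=
  ⟨El_inj hK T hm hn, fun h => by rw [h]⟩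

theorem El_zero : El T 0 = 1 := by
  obtain ⟨m, hm, h⟩ := El_surj hK T 1
  have h1 := El_mul hK T 0 0
  rw [show mu 0 0 = 0 from rfl] at h1
  exact mul_eq_left.1 h1

/-! ### membership -/

theorem mem_QA (m : ℕ) : El T m ∈ T.QA ↔ m / 1024 % 2 = 0 ∧ m / 2048 % 2 = 0 := by
  have h2 := hK.two
  rw [QA_eq hK, mem_CS, El, cd_el, pQ_iff]
  exact and_congr (cast_iff0 h2 _) (cast_iff0 h2 _)

theorem mem_D (m : ℕ) : El T m ∈ T.D ↔ m % 2 = 0 ∧ m / 2 % 2 = 0 ∧ m / 128 % 2 = 0 ∧ m / 512 % 2 = 0 ∧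
    m / 1024 % 2 = 0 ∧ m / 2048 % 2 = 0 := by
  have h2 := hK.two
  rw [D_eq hK, mem_CS, El, cd_el, pD_iff]
  exact and_congr (cast_iff0 h2 _) (and_congr (cast_iff0 h2 _) (and_congr (cast_iff0 h2 _)
    (and_congr (cast_iff0 h2 _) (and_congr (cast_iff0 h2 _) (cast_iff0 h2 _)))))

theorem mem_E (m : ℕ) : El T m ∈ T.E ↔ m % 2 = 0 ∧ m / 2 % 2 = 0 ∧ m / 16 % 2 = 0 ∧ m / 128 % 2 = 0 ∧
    m / 512 % 2 = 0 ∧ m / 1024 % 2 = 0 ∧ m / 2048 % 2 = 0 := by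
  have h2 := hK.two
  rw [E_eq hK, mem_CS, El, cd_el, pE_iff]
  exact and_congr (cast_iff0 h2 _) (and_congr (cast_iff0 h2 _) (and_congr (cast_iff0 h2 _)
    (and_congr (cast_iff0 h2 _) (and_congr (cast_iff0 h2 _) (and_congr (cast_iff0 h2 _) (cast_iff0 h2 _))))))

theorem mem_Z4 (m : ℕ) (hm : m < 4096) : El T m ∈ T.Z4 ↔ m = 0 ∨ m = 32 := by
  have h2 := hK.two
  rw [Z4_eq hK, mem_CS, El, cd_el, pZ_iff]
  have e : (cdN K m).a1 = (zc : Cd K).a1 ∧ (cdN K m).a2 = (zc : Cd K).a2 ∧ (cdN K m).b2 = (zc : Cd K).b2 ∧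
      (cdN K m).a3 = (zc : Cd K).a3 ∧ (cdN K m).a4 = (zc : Cd K).a4 ∧ (cdN K m).a5 = (zc : Cd K).a5 ∧
      (cdN K m).a6 = (zc : Cd K).a6 ∧ (cdN K m).b6 = (zc : Cd K).b6 ∧ (cdN K m).a7 = (zc : Cd K).a7 ∧
      (cdN K m).a8 = (zc : Cd K).a8 ∧ (cdN K m).b8 = (zc : Cd K).b8 ↔
      m % 2 = 0 ∧ m / 2 % 2 = 0 ∧ m / 4 % 2 = 0 ∧ m / 8 % 2 = 0 ∧ m / 16 % 2 = 0 ∧ m / 64 % 2 = 0 ∧
      m / 128 % 2 = 0 ∧ m / 256 % 2 = 0 ∧ m / 512 % 2 = 0 ∧ m / 1024 % 2 = 0 ∧ m / 2048 % 2 = 0 :=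
    and_congr (cast_iff0 h2 _) (and_congr (cast_iff0 h2 _) (and_congr (cast_iff0 h2 _)
      (and_congr (cast_iff0 h2 _) (and_congr (cast_iff0 h2 _) (and_congr (cast_iff0 h2 _)
      (and_congr (cast_iff0 h2 _) (and_congr (cast_iff0 h2 _) (and_congr (cast_iff0 h2 _)
      (and_congr (cast_iff0 h2 _) (cast_iff0 h2 _))))))))))
  rw [e]
  constructor
  · rintro ⟨a0, a1, a2, a3, a4, a6, a7, a8, a9, a10, a11⟩
    have := dig_sum hm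
    rw [a0, a1, a2, a3, a4, a6, a7, a8, a9, a10, a11] at this
    clear * - this; omega
  · rintro (rfl | rfl) <;> decide

end

end Cfsg.Agent.H483.TF
end

private theorem dce_d65fbbcfb8c1 : _root_.True := by
  try have : _root_.True := by simp only [_root_.Cfsg.Agent.H483.TF.q_b6.eq_1]
  try have : _root_.True := by simp only [_root_.Cfsg.Agent.H483.TF.q_a7.eq_1]
  try have : _root_.True := by simp only [_root_.Cfsg.Agent.H483.TF.q_a6.eq_1]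
  try have : _root_.True := by simp only [_root_.Cfsg.Agent.H483.TF.q_a5.eq_1]
  try have : _root_.True := by simp only [_root_.Cfsg.Agent.H483.TF.q_b4.eq_1]
  try have : _root_.True := by simp only [_root_.Cfsg.Agent.H483.TF.El.eq_1]
  try have : _root_.True := by simp only [_root_.Cfsg.Agent.H483.TF.allB.eq_1]
  try have : _root_.True := by simp only [_root_.Cfsg.Agent.H483.TF.allB.eq_def]
  try have : _root_.True := by simp only [_root_.Cfsg.Agent.H483.TF.allB.eq_2]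
  try have : _root_.True := by simp only [_root_.Cfsg.Agent.H483.TF.q_a2.eq_1]
  try have : _root_.True := by simp only [_root_.Cfsg.Agent.H483.TF.q_a4.eq_1]
  try have : _root_.True := by simp only [_root_.Cfsg.Agent.H483.TF.q_b2.eq_1]
  try have : _root_.True := by simp only [_root_.Cfsg.Agent.H483.TF.cdN.eq_1]
  try have : _root_.True := by simp only [_root_.Cfsg.Agent.H483.TF.q_a1.eq_1]
  try have : _root_.True := by simp only [_root_.Cfsg.Agent.H483.TF.q_a8.eq_1]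
  try have : _root_.True := by simp only [_root_.Cfsg.Agent.H483.TF.q_a3.eq_1]
  try have : _root_.True := by simp only [_root_.Cfsg.Agent.H483.TF.q_b8.eq_1]
  exact _root_.True.intro
end

-- part: H491/TF/Exc
section
prune_inst 0x3010410074220000000000000000006020000002004000000000000009090040a04500000230001000000c9068000040000000000220000000000800000500000001000000100c00100000008000000000000000000000000000000000000000000000000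
set_option linter.all false
open scoped Cfsg.Agent.FastGrp

/-!
# S5262 (SQ), (EXC): involutions of `N3` and of mixed subgroups (helper491)
-/

set_option autoImplicit false
set_option linter.unusedVariables false
set_option linter.unusedSimpArgs false
set_option linter.dupNamespace false

namespace Cfsg.Agent.H491.TF.Exc

open Cfsg Cfsg.FusionSystem Cfsg.Agent.H745.TF Cfsg.Agent.H756.PU
open Cfsg.Agent.H752.TF

universe u v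

section

variable {K : Type u} [Field K] {σ : K →+* K} {m : ℕ} (hK : HypK σ m)
variable {U : Type v} [Group U] (T : TF σ U)

include hK

/-- the equations for the square of an element of `N3` -/
theorem sq_N3 {g : U} (hg : g ∈ T.N3) (h : g * g = 1) :
    (co T g).a6 * (co T g).a4 + (co T g).b8 * (co T g).b2 = 0 ∧
    (co T g).a4 * σ (co T g).a4 + (co T g).a6 * (co T g).a3 + (co T g).a7 * (co T g).b2 + (co T g).b8 * σ (co T g).b2 = 0 ∧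
    (co T g).a6 * σ (co T g).a6 + (co T g).a7 * (co T g).a4 + σ (co T g).b8 * (co T g).b2 + (co T g).b8 * (co T g).a3 = 0 := by
  have h2 := hK.two
  have e := congrArg (co T) h
  rw [co_mul hK, co_one] at e
  rw [mem_N3 hK] at hg
  generalize co T g = c at hg e ⊢
  obtain ⟨c1, c2, c8⟩ := hg
  have f5 := congrArg Cd.a5 e
  have f4 := congrArg Cd.b4 e
  have f6 := congrArg Cd.b6 e
  rw [mul_a5] at f5
  rw [mul_b4] at f4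
  rw [mul_b6] at f6
  simp only [c1, c2, c8, zero_mul, mul_zero, add_zero, zero_add, map_zero, pow_zero, ne_eq,
    OfNat.ofNat_ne_zero, not_false_eq_true, zero_pow] at f5 f4 f6
  refine ⟨?_, ?_, ?_⟩
  · linear_combination f5 - c.a5 * h2
  · linear_combination f4 - c.b4 * h2
  · linear_combination f6 - c.b6 * h2

omit hK in
theorem sel {x : K} (h : x * σ x = 0) : x = 0 := by
  rcases mul_eq_zero.1 h with h | h
  · exact h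
  · exact (map_eq_zero σ).1 h

/-- an involution of `N3` with `b8 = 0` has `a4 = a6 = 0` -/
theorem of_b8 {g : U} (hg : g ∈ T.N3) (h : g * g = 1) (h8 : (co T g).b8 = 0) : (co T g).a4 = 0 ∧ (co T g).a6 = 0 := by
  obtain ⟨e1, e2, e3⟩ := sq_N3 hK T hg h
  generalize co T g = c at e1 e2 e3 h8 ⊢
  rw [h8] at e1 e2 e3
  simp only [zero_mul, map_zero, add_zero] at e1 e2 e3
  have h6 : c.a6 = 0 := by
    by_contra h6
    have h4 := (mul_eq_zero.1 e1).resolve_left h6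
    rw [h4, mul_zero, add_zero] at e3
    exact h6 (sel e3)
  refine ⟨?_, h6⟩
  by_contra h4
  rw [h6] at e2 e3
  simp only [zero_mul, zero_add, add_zero] at e2 e3
  have h7 := (mul_eq_zero.1 e3).resolve_right h4
  rw [h7, zero_mul, add_zero] at e2
  exact h4 (sel e2)

/-- coordinates of a commutator `z = [r, y]`, the first ones -/
theorem comm_first {r y : U} (hy8 : (co T y).a8 = 0) :
    (co T (r * y * r⁻¹ * y⁻¹)).a1 = 0 ∧ (co T (r * y * r⁻¹ * y⁻¹)).a8 = 0 ∧ (co T (r * y * r⁻¹ * y⁻¹)).b8 = 0 ∧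
    (co T (r * y * r⁻¹ * y⁻¹)).a2 = (co T r).a8 * (co T y).a1 ∧
    ((co T r).a8 * (co T y).a1 = 0 → (co T (r * y * r⁻¹ * y⁻¹)).a4 = (co T r).a8 * σ (co T y).a2 + (co T r).b8 * σ (co T y).a1 +
      (co T y).b8 * σ (co T r).a1) := by
  have h2 := hK.two
  have e : co T (r * y * r⁻¹ * y⁻¹ * (y * r)) = co T (r * y) := by
    congr 1
    group
  rw [co_mul hK T _ (y * r), co_mul hK T y r, co_mul hK T r y] at e
  generalize co T (r * y * r⁻¹ * y⁻¹) = z at e ⊢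
  generalize co T r = c at e ⊢
  generalize co T y = d at e hy8 ⊢
  have f1 := congrArg Cd.a1 e
  simp only [mul_a1] at f1
  have g1 : z.a1 = 0 := by linear_combination f1
  have f8 := congrArg Cd.a8 e
  simp only [mul_a8] at f8
  have g8 : z.a8 = 0 := by linear_combination f8
  have k8 := congrArg Cd.b8 e
  simp only [mul_b8, mul_a8, hy8, g8, zero_mul, mul_zero, map_zero, add_zero, zero_add] at k8
  have l8 : z.b8 = 0 := by linear_combination k8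
  have f2 := congrArg Cd.a2 e
  simp only [mul_a2, mul_a1, hy8, g1, g8, zero_mul, mul_zero, map_zero, add_zero, zero_add] at f2
  have g2 : z.a2 = c.a8 * d.a1 := by linear_combination f2
  refine ⟨g1, g8, l8, g2, fun h0 => ?_⟩
  have f4 := congrArg Cd.a4 e
  simp only [mul_a4, mul_a2, mul_a1, hy8, g1, g8, l8, zero_mul, mul_zero, map_zero, add_zero, zero_add] at f4
  linear_combination f4 - (d.b8 * σ c.a1) * h2

end

/-- (SQ) -/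
theorem stSQ : StSQ.{u, v} := by
  intro K _ σ m hK U _ T c hc h hA
  have h2 := hK.two
  obtain ⟨e1, e2, e3⟩ := sq_N3 hK T hc h
  rw [co_el] at e1 e2 e3
  rw [el_mem_N3 hK] at hc
  by_cases h8 : c.b8 = 0
  · have h46 := of_b8 hK T ((el_mem_N3 hK T).2 hc) h (by rw [co_el]; exact h8)
    rw [co_el] at h46
    have hb : c.b2 ≠ 0 := by
      intro hb
      apply hA
      rw [el_mem_A37 hK]
      exact ⟨hc.1, hc.2.1, hb, h46.1, h46.2, hc.2.2, h8⟩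
    refine ⟨1, 0, c.b2, hb, Or.inl one_ne_zero, ?_, ?_, ?_, ?_⟩
    · rw [map_one, mul_one, mul_one]
    · rw [h46.1, mul_zero]
    · rw [h46.2, map_zero, mul_zero]
    · rw [h8, map_zero, mul_zero]
  · have hs8 : σ c.b8 ≠ 0 := fun h0 => h8 ((map_eq_zero σ).1 h0)
    have hX : (c.a4 * σ c.b8 + c.b8 * σ c.a6) * σ (c.a4 * σ c.b8 + c.b8 * σ c.a6) = 0 := by
      have hs : σ c.a6 * σ c.a4 + σ c.b8 * σ c.b2 = 0 := by
        rw [← map_mul, ← map_mul, ← map_add, e1, map_zero]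
      rw [map_add, map_mul, map_mul, hK.sq, hK.sq]
      grind
    have hX0 : c.a4 * σ c.b8 + c.b8 * σ c.a6 = 0 := sel hX
    have h4 : c.a4 = c.b8 * σ (c.a6 / c.b8) := by
      rw [map_div₀]
      field_simp
      linear_combination hX0 - c.b8 * σ c.a6 * h2
    refine ⟨c.a6 / c.b8, 1, c.b8, h8, Or.inr one_ne_zero, ?_, ?_, ?_, ?_⟩
    · have h5 : c.b8 * (c.a6 / c.b8) * σ (c.a6 / c.b8) = c.a6 * c.a4 / c.b8 := by
        rw [h4]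
        field_simp
      rw [h5, eq_div_iff h8]
      linear_combination e1 - c.a6 * c.a4 * h2
    · rw [mul_one]; exact h4
    · rw [map_one, mul_one]
      field_simp
    · rw [map_one, mul_one, mul_one]

/-- (EXC) -/
theorem stExc : StExc.{u, v} := by
  intro K _ σ m hK U _ T R hA hB y hy hR
  have h2 := hK.two
  obtain ⟨r1, hr1, hr1B⟩ := SetLike.not_le_iff_exists.1 hB
  obtain ⟨r', hr', hr'A⟩ := SetLike.not_le_iff_exists.1 hA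
  rw [mem_QB hK] at hr1B
  rw [mem_QA hK] at hr'A
  -- `y²`
  have e := congrArg (co T) hy
  rw [co_mul hK, co_one] at e
  have k8 := congrArg Cd.b8 e
  simp only [mul_b8] at k8
  have hy8 : (co T y).a8 = 0 := sel (σ := σ) (by linear_combination k8 - (co T y).b8 * h2)
  have hN3 : ∀ z : U, z * z = 1 → (co T z).a1 = 0 → z ∈ T.N3 := fun z hz h => stOrd hK T z hz ((mem_QB hK T).2 h)
  -- `y ∈ QB`
  have hy1 : (co T y).a1 = 0 := by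
    by_contra hy1
    have k4 := congrArg Cd.a4 e
    simp only [mul_a4, hy8, zero_mul, add_zero] at k4
    have hyb8 : (co T y).b8 = 0 := by
      have h3 : (co T y).b8 * σ (co T y).a1 = 0 := by linear_combination k4 - (co T y).a4 * h2
      exact (mul_eq_zero.1 h3).resolve_right fun h => hy1 ((map_eq_zero σ).1 h)
    obtain ⟨z1, z8, zb8, z2, z4⟩ := comm_first hK T (r := r') hy8
    have hz := hR r' hr'
    have hzN := hN3 _ hz z1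
    have hk : (co T r').a8 = 0 := by
      have h3 := ((mem_N3 hK T).1 hzN).2.1
      rw [z2] at h3
      exact (mul_eq_zero.1 h3).resolve_right hy1
    have h4 := z4 (by rw [hk, zero_mul])
    have h5 := (of_b8 hK T hzN hz zb8).1
    rw [h4, hk, hyb8, zero_mul, zero_mul, add_zero, zero_add] at h5
    apply hr'A
    exact ⟨hk, (mul_eq_zero.1 h5).resolve_right fun h => hy1 ((map_eq_zero σ).1 h)⟩
  have hyN := hN3 y hy hy1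
  -- `b8 = 0`
  have hyb8 : (co T y).b8 = 0 := by
    obtain ⟨z1, z8, zb8, z2, z4⟩ := comm_first hK T (r := r1) hy8
    have hz := hR r1 hr1
    have h4 := z4 (by rw [hy1, mul_zero])
    have h5 := (of_b8 hK T (hN3 _ hz z1) hz zb8).1
    have hy2 := ((mem_N3 hK T).1 hyN).2.1
    rw [h4, hy1, hy2, map_zero, mul_zero, mul_zero, zero_add, zero_add] at h5
    exact (mul_eq_zero.1 h5).resolve_right fun h => hr1B ((map_eq_zero σ).1 h)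
  obtain ⟨hy4, hy6⟩ := of_b8 hK T hyN hy hyb8
  have hy2 := ((mem_N3 hK T).1 hyN).2.1
  have h5 : y = T.x2 0 (co T y).b2 * (T.x3 (co T y).a3 * T.x4 0 (co T y).b4 * T.x5 (co T y).a5 * T.x6 0 (co T y).b6 *
      T.x7 (co T y).a7) := by
    conv_lhs => rw [← el_co T y]
    simp only [TF.el, hy1, hy2, hy4, hy6, hy8, hyb8, H659.TF.x1_zero T.rel, H659.TF.x8_zero T.rel, one_mul, mul_one]
    group
  rw [h5]
  exact Subgroup.mul_mem_sup (x2_mem_Z T _) ((A37_iff hK T).2 ⟨_, _, _, _, _, rfl⟩)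

end Cfsg.Agent.H491.TF.Exc
end

-- part: H752/TF/Ess4c
section
prune_inst 0x30004500040002000000000000000060000000020040000010000000000210600901000000000810000008002000004000000000420000000a00080000010000000000020000010404000800a000000000000000000000000000000000041000000000000
set_option linter.all false
open scoped Cfsg.Agent.FastGrp

/-!
# S5262 (ESS4c): `N3 ≤ R ≤ QB`, `R ≰ N3` gives `R = QB` (helper752)
-/

set_option autoImplicit false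
set_option linter.unusedVariables false
set_option linter.unusedSimpArgs false

namespace Cfsg.Agent.H752.TF

open Cfsg Cfsg.FusionSystem Cfsg.Agent.Octagon.Pkg Cfsg.Agent.H745.TF Cfsg.Agent.H756.PU Cfsg.Agent.H802.TE

universe u v

section

variable {K : Type u} [Field K] {σ : K →+* K} {m : ℕ} (hK : HypK σ m)
variable {U : Type v} [Group U] (T : TF σ U)

include hK

attribute [-instance] instNoNatZeroDivisorsOfIsAddTorsionFree instIsCharPOfIsLeftCancelAddOfCharP in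
/-- `[QB, N3] ≤ A37`; the `a3`, `a7` coordinates -/
theorem comm_QB_N3 {w n : U} (hw : w ∈ T.QB) (hn : n ∈ T.N3) :
    (co T (w * n * w⁻¹ * n⁻¹)).a1 = 0 ∧ (co T (w * n * w⁻¹ * n⁻¹)).a2 = 0 ∧ (co T (w * n * w⁻¹ * n⁻¹)).b2 = 0 ∧
    (co T (w * n * w⁻¹ * n⁻¹)).a4 = 0 ∧ (co T (w * n * w⁻¹ * n⁻¹)).a6 = 0 ∧ (co T (w * n * w⁻¹ * n⁻¹)).a8 = 0 ∧
    (co T (w * n * w⁻¹ * n⁻¹)).b8 = 0 ∧
    (co T (w * n * w⁻¹ * n⁻¹)).a3 = (co T n).a4 * (co T w).a2 + (co T n).b2 * (co T w).a8 ∧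
    (co T (w * n * w⁻¹ * n⁻¹)).a7 = (co T n).b8 * (co T w).a2 + (co T n).a6 * (co T w).a8 := by
  have h2 := hK.two
  have e : co T (w * n * w⁻¹ * n⁻¹ * (n * w)) = co T (w * n) := by
    congr 1
    group
  rw [co_mul hK T _ (n * w), co_mul hK T n w, co_mul hK T w n] at e
  rw [mem_QB hK] at hw
  rw [mem_N3 hK] at hn
  generalize co T (w * n * w⁻¹ * n⁻¹) = z at e ⊢
  generalize co T w = c at e hw ⊢
  generalize co T n = d at e hn ⊢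
  obtain ⟨d1, d2, d8⟩ := hn
  have f1 := congrArg Cd.a1 e
  simp only [mul_a1, hw, d1, d2, d8, zero_mul, mul_zero, add_zero, zero_add, map_zero] at f1
  have f8 := congrArg Cd.a8 e
  simp only [mul_a8, hw, d1, d2, d8, zero_mul, mul_zero, add_zero, zero_add, map_zero, add_eq_right] at f8
  have g8 := congrArg Cd.b8 e
  simp only [mul_b8, mul_a8, hw, d1, d2, d8, f1, f8, zero_mul, mul_zero, add_zero, zero_add, map_zero] at g8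
  replace g8 : z.b8 = 0 := by linear_combination g8
  have f2 := congrArg Cd.a2 e
  simp only [mul_a2, mul_a1, hw, d1, d2, d8, f1, f8, g8, zero_mul, mul_zero, add_zero, zero_add, map_zero,
    add_eq_right] at f2
  have f4 := congrArg Cd.a4 e
  simp only [mul_a4, mul_a2, mul_a1, hw, d1, d2, d8, f1, f8, g8, f2, zero_mul, mul_zero, add_zero, zero_add,
    map_zero] at f4
  replace f4 : z.a4 = 0 := by linear_combination f4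
  have f6 := congrArg Cd.a6 e
  simp only [mul_a6, mul_a4, mul_a2, mul_a1, hw, d1, d2, d8, f1, f8, g8, f2, f4, zero_mul, mul_zero, add_zero, zero_add,
    map_zero] at f6
  replace f6 : z.a6 = 0 := by linear_combination f6
  have g2 := congrArg Cd.b2 e
  simp only [mul_b2, mul_a6, mul_a4, mul_a2, mul_a1, hw, d1, d2, d8, f1, f8, g8, f2, f4, f6, zero_mul, mul_zero, add_zero,
    zero_add, map_zero, pow_zero, ne_eq, OfNat.ofNat_ne_zero, not_false_eq_true, zero_pow] at g2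
  replace g2 : z.b2 = 0 := by linear_combination g2
  have f7 := congrArg Cd.a7 e
  simp only [mul_a7, mul_b8, mul_a8, mul_a6, mul_a4, mul_a2, mul_a1, hw, d1, d2, d8, f1, f8, g8, f2, f4, f6, g2, zero_mul,
    mul_zero, add_zero, zero_add, map_zero, pow_zero, ne_eq, OfNat.ofNat_ne_zero, not_false_eq_true, zero_pow] at f7
  have f3 := congrArg Cd.a3 e
  simp only [mul_a3, mul_b2, mul_b8, mul_a8, mul_a7, mul_a6, mul_a4, mul_a2, mul_a1, hw, d1, d2, d8, f1, f8, g8, f2, f4, f6,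
    g2, zero_mul, mul_zero, add_zero, zero_add, map_zero, pow_zero, ne_eq, OfNat.ofNat_ne_zero, not_false_eq_true,
    zero_pow] at f3
  refine ⟨f1, f2, g2, f4, f6, f8, g8, ?_, ?_⟩
  · grobner
  · grobner

/-- `[QB, A37] ≤ Y` -/
theorem comm_QB_A37 {w n : U} (hw : w ∈ T.QB) (hn : n ∈ T.A37) : w * n * w⁻¹ * n⁻¹ ∈ T.Y := by
  have h2 := hK.two
  have e : co T (w * n * w⁻¹ * n⁻¹ * (n * w)) = co T (w * n) := by
    congr 1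
    group
  rw [co_mul hK T _ (n * w), co_mul hK T n w, co_mul hK T w n] at e
  rw [mem_QB hK] at hw
  rw [mem_A37 hK] at hn
  rw [mem_Y hK]
  generalize co T (w * n * w⁻¹ * n⁻¹) = z at e ⊢
  generalize co T w = c at e hw ⊢
  generalize co T n = d at e hn ⊢
  obtain ⟨d1, d2, d3, d4, d6, d8, d9⟩ := hn
  have f1 := congrArg Cd.a1 e
  simp only [mul_a1, hw, d1, d2, d3, d4, d6, d8, d9, zero_mul, mul_zero, add_zero, zero_add, map_zero] at f1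
  have f8 := congrArg Cd.a8 e
  simp only [mul_a8, hw, d1, d2, d3, d4, d6, d8, d9, zero_mul, mul_zero, add_zero, zero_add, map_zero, add_eq_right] at f8
  have g8 := congrArg Cd.b8 e
  simp only [mul_b8, mul_a8, hw, d1, d2, d3, d4, d6, d8, d9, f1, f8, zero_mul, mul_zero, add_zero, zero_add, map_zero,
    add_eq_right] at g8
  have f2 := congrArg Cd.a2 e
  simp only [mul_a2, mul_a1, hw, d1, d2, d3, d4, d6, d8, d9, f1, f8, g8, zero_mul, mul_zero, add_zero, zero_add, map_zero,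
    add_eq_right] at f2
  have f4 := congrArg Cd.a4 e
  simp only [mul_a4, mul_a2, mul_a1, hw, d1, d2, d3, d4, d6, d8, d9, f1, f8, g8, f2, zero_mul, mul_zero, add_zero, zero_add,
    map_zero, add_eq_right] at f4
  have f6 := congrArg Cd.a6 e
  simp only [mul_a6, mul_a4, mul_a2, mul_a1, hw, d1, d2, d3, d4, d6, d8, d9, f1, f8, g8, f2, f4, zero_mul, mul_zero, add_zero,
    zero_add, map_zero, add_eq_right] at f6
  have g2 := congrArg Cd.b2 e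
  simp only [mul_b2, mul_a6, mul_a4, mul_a2, mul_a1, hw, d1, d2, d3, d4, d6, d8, d9, f1, f8, g8, f2, f4, f6, zero_mul, mul_zero,
    add_zero, zero_add, map_zero, pow_zero, ne_eq, OfNat.ofNat_ne_zero, not_false_eq_true, zero_pow, add_eq_right] at g2
  have f7 := congrArg Cd.a7 e
  simp only [mul_a7, mul_b8, mul_a8, mul_a6, mul_a4, mul_a2, mul_a1, hw, d1, d2, d3, d4, d6, d8, d9, f1, f8, g8, f2, f4, f6,
    g2, zero_mul, mul_zero, add_zero, zero_add, map_zero, pow_zero, ne_eq, OfNat.ofNat_ne_zero, not_false_eq_true,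
    zero_pow] at f7
  replace f7 : z.a7 = 0 := by linear_combination f7
  have f3 := congrArg Cd.a3 e
  simp only [mul_a3, mul_b2, mul_b8, mul_a8, mul_a7, mul_a6, mul_a4, mul_a2, mul_a1, hw, d1, d2, d3, d4, d6, d8, d9, f1, f8,
    g8, f2, f4, f6, f7, g2, zero_mul, mul_zero, add_zero, zero_add, map_zero, pow_zero, ne_eq, OfNat.ofNat_ne_zero,
    not_false_eq_true, zero_pow] at f3
  replace f3 : z.a3 = 0 := by linear_combination f3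
  exact ⟨f1, f2, g2, f3, f4, f6, f7, f8, g8⟩

attribute [-instance] instNoNatZeroDivisorsOfIsAddTorsionFree instIsCharPOfIsLeftCancelAddOfCharP in
/-- `[QB, Y]` -/
theorem comm_QB_Y {w y : U} (hw : w ∈ T.QB) (hy : y ∈ T.Y) :
    co T (w * y * w⁻¹ * y⁻¹) =
      ⟨0, 0, 0, 0, 0, (co T w).a2 * (co T y).a5, 0, 0, (co T w).a8 * (co T y).a5, 0, 0, 0⟩ := by
  have h2 := hK.two
  apply co_comm hK
  rw [mem_QB hK] at hw
  rw [mem_Y hK] at hy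
  generalize co T w = c at hw ⊢
  generalize co T y = d at hy ⊢
  obtain ⟨d1, d2, d3, d4, d5, d6, d7, d8, d9⟩ := hy
  ext <;> simp only [mul_a1, mul_a2, mul_b2, mul_a3, mul_a4, mul_b4, mul_a5, mul_a6, mul_b6, mul_a7, mul_a8, mul_b8,
    hw, d1, d2, d3, d4, d5, d6, d7, d8, d9, zero_mul, mul_zero, add_zero, zero_add, map_zero, pow_zero, ne_eq,
    OfNat.ofNat_ne_zero, not_false_eq_true, zero_pow]
  all_goals first | ring1 | grobner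

attribute [-instance] instNoNatZeroDivisorsOfIsAddTorsionFree instIsCharPOfIsLeftCancelAddOfCharP in
/-- the `a5`-coordinate of `[n, n']` for `n, n' ∈ N3` -/
theorem comm_N3_a5 {n n' : U} (hn : n ∈ T.N3) (hn' : n' ∈ T.N3) :
    (co T (n * n' * n⁻¹ * n'⁻¹)).a5 = (co T n).a6 * (co T n').a4 + (co T n).a4 * (co T n').a6 +
      (co T n).b8 * (co T n').b2 + (co T n).b2 * (co T n').b8 := by
  have h2 := hK.two
  have hz := comm_N3 hK T hn hn'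
  have e : co T (n * n' * n⁻¹ * n'⁻¹ * (n' * n)) = co T (n * n') := by
    congr 1
    group
  rw [co_mul hK T _ (n' * n), co_mul hK T n' n, co_mul hK T n n'] at e
  rw [mem_N3 hK] at hn hn'
  rw [mem_Y hK] at hz
  generalize co T (n * n' * n⁻¹ * n'⁻¹) = z at e hz ⊢
  generalize co T n = c at e hn ⊢
  generalize co T n' = d at e hn' ⊢
  obtain ⟨c1, c2, c8⟩ := hn
  obtain ⟨d1, d2, d8⟩ := hn'
  obtain ⟨z1, z2, z3, z4, z5, z6, z7, z8, z9⟩ := hz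
  have f5 := congrArg Cd.a5 e
  simp only [mul_a5, mul_b2, mul_a3, mul_a7, mul_b8, mul_a8, mul_a6, mul_a4, mul_a2, mul_a1, c1, c2, c8, d1, d2, d8,
    z1, z2, z3, z4, z5, z6, z7, z8, z9, zero_mul, mul_zero, add_zero, zero_add, map_zero, pow_zero, ne_eq,
    OfNat.ofNat_ne_zero, not_false_eq_true, zero_pow] at f5
  grobner

/-- `[n, N3] ≤ V` only for `n ∈ A37` -/
theorem mem_A37_of_commV {n : U} (hn : n ∈ T.N3) (h : ∀ a ∈ T.N3, n * a * n⁻¹ * a⁻¹ ∈ T.V) : n ∈ T.A37 := by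
  have key : ∀ a ∈ T.N3, (co T n).a6 * (co T a).a4 + (co T n).a4 * (co T a).a6 +
      (co T n).b8 * (co T a).b2 + (co T n).b2 * (co T a).b8 = 0 := by
    intro a ha
    rw [← comm_N3_a5 hK T hn ha]
    exact ((mem_V hK T).1 (h a ha)).2.2.2.2.2.1
  have k4 := key _ (X4_le_N3 T (x4_mem T 1 0))
  have k6 := key _ (X6_le_N3 T (x6_mem T 1 0))
  have k2 := key _ (Z2_le_N3 T (x2_mem_Z T 1))
  have k8 := key _ (Z8_le_N3 T (x8_mem_Z T 1))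
  simp only [co_x2, co_x4, co_x6, co_x8, e2, e4, e6, e8, mul_one, mul_zero, add_zero, zero_add] at k2 k4 k6 k8
  rw [mem_N3 hK] at hn
  rw [mem_A37 hK]
  exact ⟨hn.1, hn.2.1, k8, k6, k4, hn.2.2, k2⟩

end

theorem stEss4c_of (hch : StCh.{v}) : StEss4c.{u, v} := by
  intro K _ σ m hK U _ T R Γ hE hNR hRQ hRN
  have := finite_U hK T
  have := hK.fin
  by_contra hne
  have hYN := Y_le_N3 hK T
  have hAN := A37_le_N3 hK T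
  have hYR : T.Y ≤ R := hYN.trans hNR
  have hVY := V_le_Y hK T
  have iR : Inv Γ R := H710.GT.inv_self Γ
  obtain ⟨w, hw, hwN⟩ := SetLike.not_le_iff_exists.1 hRN
  have hwQ := hRQ hw
  have hw0 : (co T w).a2 ≠ 0 ∨ (co T w).a8 ≠ 0 := by
    by_contra hh
    push Not at hh
    exact hwN ((mem_N3 hK T).2 ⟨(mem_QB hK T).1 hwQ, hh.1, hh.2⟩)
  -- `[QB, Y] ≤ V`, `[QB, V] = 1`
  have cQY : ∀ x ∈ T.QB, ∀ y ∈ T.Y, x * y * x⁻¹ * y⁻¹ ∈ T.V := by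
    intro x hx y hy
    rw [mem_V hK, comm_QB_Y hK T hx hy]
    exact ⟨rfl, rfl, rfl, rfl, rfl, rfl, rfl, rfl, rfl, rfl⟩
  have cQV : ∀ x ∈ T.QB, ∀ z ∈ T.V, x * z = z * x := by
    intro x hx z hz
    refine H710.GT.cm_one.1 (Subgroup.mem_bot.2 ?_)
    apply co_injective T
    rw [comm_QB_Y hK T hx (hVY hz), co_one]
    rw [mem_V hK] at hz
    rw [hz.2.2.2.2.2.1, mul_zero, mul_zero]
  -- `V = Z(R)`
  have iV : Inv Γ T.V := by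
    refine H710.GT.inv_cent iR iR (H710.GT.inv_bot Γ) fun z => ⟨fun hz => ?_, fun hz => ?_⟩
    · exact ⟨hYR (hVY hz), fun x hx => H710.GT.cm_one.2 (cQV x (hRQ hx) z hz).symm⟩
    · obtain ⟨hzR, hc⟩ := hz
      have hc' : ∀ x ∈ R, z * x = x * z := fun x hx => H710.GT.cm_one.1 (hc x hx)
      have hzN : z ∈ T.N3 := mem_N3_of_comm hK T fun y hy => hc' y (hYR hy)
      have hzY : z ∈ T.Y := mem_Y_of_comm hK T hzN fun n hn => hc' n (hNR hn)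
      have h1 : w * z * w⁻¹ * z⁻¹ = 1 := by rw [← hc' w hw, mul_inv_cancel_right, mul_inv_cancel]
      have h2 := comm_QB_Y hK T hwQ hzY
      rw [h1, co_one] at h2
      have h3 := (congrArg Cd.b4 h2).symm
      have h4 := (congrArg Cd.b6 h2).symm
      have h5 : (co T z).a5 = 0 := by
        rcases hw0 with h | h
        · exact (mul_eq_zero.1 h3).resolve_left h
        · exact (mul_eq_zero.1 h4).resolve_left h
      rw [mem_Y hK] at hzY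
      rw [mem_V hK]
      exact ⟨hzY.1, hzY.2.1, hzY.2.2.1, hzY.2.2.2.1, hzY.2.2.2.2.1, h5, hzY.2.2.2.2.2.1, hzY.2.2.2.2.2.2.1,
        hzY.2.2.2.2.2.2.2.1, hzY.2.2.2.2.2.2.2.2⟩
  -- `Y` is invariant
  have iY : Inv Γ T.Y := by
    refine ⟨hYR, fun γ hγ e he => ?_⟩
    set y : U := ((γ e : R) : U) with hy
    have hyR : y ∈ R := (γ e).2
    have hcV : ∀ x ∈ R, x * y * x⁻¹ * y⁻¹ ∈ T.V := by
      intro x hx
      have h1 := cQY _ (hRQ (γ⁻¹ ⟨x, hx⟩).2) _ he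
      have h2 := iV.2 γ hγ (γ⁻¹ ⟨x, hx⟩ * e * (γ⁻¹ ⟨x, hx⟩)⁻¹ * e⁻¹) h1
      rw [map_mul, map_mul, map_mul, map_inv, map_inv, MulAut.apply_inv_self] at h2
      exact h2
    have hcV' : ∀ x ∈ R, y * x * y⁻¹ * x⁻¹ ∈ T.V := by
      intro x hx
      have h1 := T.V.inv_mem (hcV x hx)
      have h2 : (x * y * x⁻¹ * y⁻¹)⁻¹ = y * x * y⁻¹ * x⁻¹ := by group
      rwa [h2] at h1
    have hyN : y ∈ T.N3 := by
      have hyQ := hRQ hyR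
      have k1 := (comm_QB_N3 hK T hyQ (X4_le_N3 T (x4_mem T 1 0))).2.2.2.2.2.2.2.1
      have k2 := (comm_QB_N3 hK T hyQ (X6_le_N3 T (x6_mem T 1 0))).2.2.2.2.2.2.2.2
      rw [((mem_V hK T).1 (hcV' _ (hNR (X4_le_N3 T (x4_mem T 1 0))))).2.2.2.1] at k1
      rw [((mem_V hK T).1 (hcV' _ (hNR (X6_le_N3 T (x6_mem T 1 0))))).2.2.2.2.2.2.2.1] at k2
      simp only [co_x4, co_x6, e4, e6, one_mul, zero_mul, add_zero, zero_add] at k1 k2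
      exact (mem_N3 hK T).2 ⟨(mem_QB hK T).1 hyQ, k1.symm, k2.symm⟩
    have hyA : y ∈ T.A37 := mem_A37_of_commV hK T hyN fun a ha => hcV' a (hNR ha)
    by_contra hyY
    have h37 : (co T y).a3 ≠ 0 ∨ (co T y).a7 ≠ 0 := by
      by_contra hh
      push Not at hh
      apply hyY
      rw [mem_A37 hK] at hyA
      rw [mem_Y hK]
      exact ⟨hyA.1, hyA.2.1, hyA.2.2.1, hh.1, hyA.2.2.2.1, hyA.2.2.2.2.1, hh.2, hyA.2.2.2.2.2.1, hyA.2.2.2.2.2.2⟩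
    obtain ⟨nn, hnn, hnc⟩ : ∃ nn : K → K → U, (∀ u v, nn u v ∈ T.N3) ∧
        ∀ u v, co T (nn u v * y * (nn u v)⁻¹ * y⁻¹) = ⟨0, 0, 0, 0, 0, u, 0, 0, v, 0, 0, 0⟩ := by
      rcases h37 with h | h
      · have h1 : ∀ u v, T.x6 (u / (co T y).a3) 0 * T.x8 0 (v / (co T y).a3) ∈ T.N3 := fun u v =>
          mul_mem (X6_le_N3 T (x6_mem T _ _)) (Z8_le_N3 T (x8_mem_Z T _))
        refine ⟨fun u v => T.x6 (u / (co T y).a3) 0 * T.x8 0 (v / (co T y).a3), h1, fun u v => ?_⟩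
        rw [comm_N3_A37 hK T (h1 u v) hyA]
        simp only [co_mul hK, co_x6, co_x8, e6, e8, mul_a6, mul_b2, mul_b8, mul_a4, mul_zero, zero_mul, add_zero, zero_add,
          map_zero, div_mul_cancel₀ _ h]
      · have h1 : ∀ u v, T.x2 0 (u / (co T y).a7) * T.x4 (v / (co T y).a7) 0 ∈ T.N3 := fun u v =>
          mul_mem (Z2_le_N3 T (x2_mem_Z T _)) (X4_le_N3 T (x4_mem T _ _))
        refine ⟨fun u v => T.x2 0 (u / (co T y).a7) * T.x4 (v / (co T y).a7) 0, h1, fun u v => ?_⟩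
        rw [comm_N3_A37 hK T (h1 u v) hyA]
        simp only [co_mul hK, co_x2, co_x4, e2, e4, mul_a6, mul_b2, mul_b8, mul_a4, mul_zero, zero_mul, add_zero, zero_add,
          map_zero, div_mul_cancel₀ _ h]
    -- counting
    have hγy : ∀ n (hn : n ∈ T.N3), ((γ ⟨n, hNR hn⟩ : R) : U) * y = y * ((γ ⟨n, hNR hn⟩ : R) : U) := by
      intro n hn
      have h1 : (⟨n, hNR hn⟩ : R) * e = e * ⟨n, hNR hn⟩ := Subtype.ext (comm_Y hK T hn he)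
      have h2 := congrArg (fun z : R => ((γ z : R) : U)) h1
      simp only [map_mul, Subgroup.coe_mul] at h2
      exact h2
    have hinj : Function.Injective (fun x : T.N3 × K × K => (γ ⟨x.1, hNR x.1.2⟩ * ⟨nn x.2.1 x.2.2, hNR (hnn _ _)⟩ : R)) := by
      rintro ⟨⟨n, hn⟩, u, v⟩ ⟨⟨n', hn'⟩, u', v'⟩ h
      simp only at h
      have key : ∀ (n : U) (hn : n ∈ T.N3) (u v : K),
          ((γ ⟨n, hNR hn⟩ : R) : U) * nn u v * y * (((γ ⟨n, hNR hn⟩ : R) : U) * nn u v)⁻¹ =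
            (nn u v * y * (nn u v)⁻¹ * y⁻¹) * y := by
        intro n hn u v
        set g := ((γ ⟨n, hNR hn⟩ : R) : U)
        have hg : g ∈ T.QB := hRQ (γ ⟨n, hNR hn⟩).2
        have h1 := cQV g hg _ (hcV _ (hNR (hnn u v)))
        have h2 : g * nn u v * y * (g * nn u v)⁻¹ =
            (g * (nn u v * y * (nn u v)⁻¹ * y⁻¹)) * y * g⁻¹ := by group
        have h3 : g * y = y * g := hγy n hn
        rw [h2, h1, mul_assoc _ g y, h3, ← mul_assoc _ y g, mul_inv_cancel_right]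
      have h1 : ((γ ⟨n, hNR hn⟩ : R) : U) * nn u v = ((γ ⟨n', hNR hn'⟩ : R) : U) * nn u' v' :=
        congrArg (Subtype.val) h
      have h2 := key n hn u v
      rw [h1, key n' hn' u' v', mul_left_inj] at h2
      have h3 := congrArg (co T) h2
      rw [hnc, hnc] at h3
      have hu : u' = u := congrArg Cd.b4 h3
      have hv : v' = v := congrArg Cd.b6 h3
      subst hu hv
      have h4 := γ.injective (Subtype.ext (mul_right_cancel h1) : γ ⟨n, hNR hn⟩ = γ ⟨n', hNR hn'⟩)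
      have h5 : n = n' := congrArg Subtype.val h4
      subst h5
      rfl
    have hcard := Nat.card_le_card_of_injective _ hinj
    rw [Nat.card_prod, Nat.card_prod, card_N3 hK, hK.card] at hcard
    apply hne
    apply Subgroup.eq_of_le_of_card_ge hRQ
    rw [card_QB hK]
    calc (2 ^ (2 * m + 1)) ^ 11 = (2 ^ (2 * m + 1)) ^ 9 * (2 ^ (2 * m + 1) * 2 ^ (2 * m + 1)) := by ring
      _ ≤ Nat.card R := hcard
  -- `N3`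
  have iN : Inv Γ T.N3 := by
    refine H710.GT.inv_cent iR iY (H710.GT.inv_bot Γ) fun n => ⟨fun hn => ?_, fun hn => ?_⟩
    · exact ⟨hNR hn, fun y hy => H710.GT.cm_one.2 (comm_Y hK T hn hy)⟩
    · exact mem_N3_of_comm hK T fun y hy => H710.GT.cm_one.1 (hn.2 y hy)
  -- `A37`
  have iA : Inv Γ T.A37 := by
    refine H710.GT.inv_cent iN iN iV fun n => ⟨fun hn => ?_, fun hn => ?_⟩
    · refine ⟨hAN hn, fun a ha => ?_⟩
      have h1 : a * n * a⁻¹ * n⁻¹ ∈ T.V := by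
        rw [mem_V hK, comm_N3_A37 hK T ha hn]
        exact ⟨rfl, rfl, rfl, rfl, rfl, rfl, rfl, rfl, rfl, rfl⟩
      have h2 := T.V.inv_mem h1
      have h3 : (a * n * a⁻¹ * n⁻¹)⁻¹ = n * a * n⁻¹ * a⁻¹ := by group
      rwa [h3] at h2
    · exact mem_A37_of_commV hK T hn.1 hn.2
  -- the chain
  have hle : T.QB ≤ R := by
    refine hch hE 5 (fun i => match i with | 0 => ⊥ | 1 => T.V | 2 => T.Y | 3 => T.A37 | 4 => T.N3 | _ => R) bot_le rfl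
      ?_ ?_ T.QB le_top ?_
    · intro i hi
      interval_cases i
      · exact H710.GT.inv_bot Γ
      · exact iV
      · exact iY
      · exact iA
      · exact iN
      · exact iR
    · intro i hi
      interval_cases i
      · exact bot_le
      · exact hVY
      · exact Y_le_A37 hK T
      · exact hAN
      · exact hNR
    · intro i hi
      interval_cases i
      · intro x hx z hz
        exact H710.GT.cm_one.2 (cQV x hx z hz)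
      · exact cQY
      · intro x hx a ha
        exact comm_QB_A37 hK T hx ha
      · intro x hx n hn
        obtain ⟨h1, h2, h3, h4, h5, h6, h7, -, -⟩ := comm_QB_N3 hK T hx hn
        exact (mem_A37 hK T).2 ⟨h1, h2, h3, h4, h5, h6, h7⟩
      · intro x hx r hr
        exact comm_QB hK T hx (hRQ hr)
  exact hne (le_antisymm hRQ hle)

/-- (ESS4c) -/
theorem stEss4c : StEss4c.{u, v} := stEss4c_of H218.TE.stCh

end Cfsg.Agent.H752.TF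
end
end
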